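import Cfsg.Agent.Lib.Pyramidal.Model
import Mathlib.FieldTheory.Finite.GaloisField

/-!
# The full linear group does not occur in dimension at least five

With `E = (plane) ⊕ W`, a Frattini argument gives a non-trivial 2-element normalising a Sylow 3-subgroup over an
element of order 3 of the plane and commuting with an element that is fixed point free on `W`; its involution
lies in `E` and is fixed by both.

* `not_surjective_split`, `Pyr.not_full_of_five_le`
-/

set_option autoImplicit false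
set_option linter.style.haveILetI false
set_option linter.unusedSectionVars false

namespace Cfsg.Agent.Pyramidal

open Subgroup Module

universe u v

variable {G : Type u} [Group G] [Finite G]

/-- An element normalising `K` can be corrected within `K` to normalise a Sylow subgroup of `K`. -/
theorem frattini_elt {p : ℕ} [Fact p.Prime] {K : Subgroup G} (Q : Sylow p K) {g : G}
    (hg : g ∈ normalizer (K : Set G)) :
    ∃ k ∈ K, k * g ∈ normalizer (((Q : Subgroup K).map K.subtype : Subgroup G) : Set G) := by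
  set σ := K.normalizerMonoidHom ⟨g, hg⟩
  obtain ⟨k, hk⟩ := MulAction.exists_smul_eq K (σ • Q) Q
  refine ⟨k, k.2, Coprime.mem_normalizer_of_forall ?_⟩
  rintro _ ⟨y, hy, rfl⟩
  refine ⟨k * σ y * k⁻¹, ?_, ?_⟩
  · rw [← hk]
    exact smul_mem_pointwise_smul (σ y) (MulAut.conj k) _ (smul_mem_pointwise_smul y σ _ hy)
  · show (k : G) * (g * (y : G) * g⁻¹) * (k : G)⁻¹ = (k : G) * g * (y : G) * ((k : G) * g)⁻¹
    group

/-- A power of order a power of `q` with the same image order. -/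
theorem exists_prime_power {q : ℕ} (hq : q.Prime) (x : G) :
    ∃ m : ℕ, ¬ q ∣ m ∧ ∃ a : ℕ, (x ^ m) ^ q ^ a = 1 := by
  obtain ⟨a, m, hm, he⟩ := Nat.exists_eq_pow_mul_and_not_dvd (orderOf_pos x).ne' q hq.ne_one
  exact ⟨m, hm, a, by rw [← pow_mul, mul_comm, ← he, pow_orderOf_eq_one]⟩

theorem isPGroup_zpowers {q : ℕ} {x : G} (h : ∃ a : ℕ, x ^ q ^ a = 1) : IsPGroup q (zpowers x) := by
  rintro ⟨w, hw⟩
  obtain ⟨k, rfl⟩ := mem_zpowers_iff.1 hw
  obtain ⟨a, ha⟩ := h
  exact ⟨a, Subtype.ext (by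
    show (x ^ k) ^ q ^ a = 1
    rw [← zpow_natCast, zpow_comm, zpow_natCast, ha, one_zpow])⟩

/-- The pair space `F₂²`. -/
abbrev Plane : Type := ZMod 2 × ZMod 2

/-- The cyclic shift of order 3 of the plane. -/
def planeU : Plane ≃ₗ[ZMod 2] Plane where
  toFun x := (x.2, x.1 + x.2)
  invFun x := (x.1 + x.2, x.1)
  map_add' := by decide
  map_smul' := by decide
  left_inv := by decide
  right_inv := by decide

/-- The swap of the plane. -/
def planeA : Plane ≃ₗ[ZMod 2] Plane where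
  toFun x := (x.2, x.1)
  invFun x := (x.2, x.1)
  map_add' := by decide
  map_smul' := by decide
  left_inv := by decide
  right_inv := by decide

theorem planeU_cube : ∀ x, planeU (planeU (planeU x)) = x := by decide
theorem planeA_sq : ∀ x, planeA (planeA x) = x := by decide
theorem planeAU : ∀ x, planeA (planeU (planeA x)) = planeU (planeU x) := by decide
theorem planeU_fix : ∀ x, planeU x = x → x = 0 := by decide
theorem card_plane_pt : Nat.card {x : Plane // x ≠ 0} = 3 := by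
  rw [Nat.card_eq_fintype_card]; decide
theorem planeUA_ne : ∀ i : Fin 3, ∃ x, (planeU)^[i.val] (planeA x) ≠ x := by decide

variable {E : Subgroup G} {W : Type v} [Field W] [Finite W] [Algebra (ZMod 2) W]

theorem not_surjective_split (h : Pyr E) (M : Model E (Plane × W)) (hW : 3 ≤ Nat.card W)
    (hM : Function.Surjective M.ρ) : False := by
  classical
  haveI : Fact (Nat.Prime 2) := ⟨Nat.prime_two⟩
  haveI : Fact (Nat.Prime 3) := ⟨Nat.prime_three⟩
  haveI := h.normal
  -- a scalar of prime order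
  obtain ⟨q, hq, hqd⟩ := Nat.exists_prime_and_dvd (n := Nat.card Wˣ) (by
    rw [Nat.card_units]; omega)
  haveI : Fact q.Prime := ⟨hq⟩
  obtain ⟨c, hc⟩ := exists_prime_orderOf_dvd_card' q hqd
  have hq2 : q ≠ 2 := by
    rintro rfl
    haveI : CharP W 2 := charP_of_injective_algebraMap (algebraMap (ZMod 2) W).injective 2
    have h2 : (c : W) * c = 1 := by
      have := pow_orderOf_eq_one c
      rw [hc, pow_two] at this
      rw [← Units.val_mul, this, Units.val_one]
    rcases mul_self_eq_one_iff.1 h2 with h1 | h1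
    · rw [Units.val_eq_one.1 h1, orderOf_one] at hc; omega
    · rw [CharTwo.neg_eq] at h1
      rw [Units.val_eq_one.1 h1, orderOf_one] at hc; omega
  -- the linear maps
  let S : Subgroup ((Plane × W) ≃ₗ[ZMod 2] (Plane × W)) :=
    { carrier := {L | (∀ v, (L v).2 = v.2) ∧ ∀ z : W, L (0, z) = (0, z)}
      one_mem' := ⟨fun _ => rfl, fun _ => rfl⟩
      mul_mem' := fun {a b} ha hb => ⟨fun v => (ha.1 _).trans (hb.1 v), fun z => by
        show a (b (0, z)) = _
        rw [hb.2, ha.2]⟩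
      inv_mem' := fun {a} ha => ⟨fun v => by
        show (a.symm v).2 = v.2
        rw [← ha.1 (a.symm v), a.apply_symm_apply], fun z => by
        show a.symm (0, z) = _
        rw [a.symm_apply_eq, ha.2]⟩ }
  let U : (Plane × W) ≃ₗ[ZMod 2] (Plane × W) := planeU.prodCongr (LinearEquiv.refl (ZMod 2) W)
  let A : (Plane × W) ≃ₗ[ZMod 2] (Plane × W) := planeA.prodCongr (LinearEquiv.refl (ZMod 2) W)
  let B : (Plane × W) ≃ₗ[ZMod 2] (Plane × W) :=
    (LinearEquiv.refl (ZMod 2) Plane).prodCongr (DistribMulAction.toLinearEquiv (ZMod 2) W c)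
  have hUS : U ∈ S := ⟨fun _ => rfl, fun z => Prod.ext (map_zero planeU) rfl⟩
  have hAS : A ∈ S := ⟨fun _ => rfl, fun z => Prod.ext (map_zero planeA) rfl⟩
  have hU3 : U ^ 3 = 1 := LinearEquiv.ext fun v => Prod.ext (planeU_cube v.1) rfl
  have hA2 : A * A = 1 := LinearEquiv.ext fun v => Prod.ext (planeA_sq v.1) rfl
  have hAU : A * U * A⁻¹ = U ^ 2 := by
    rw [inv_eq_of_mul_eq_one_left hA2]
    exact LinearEquiv.ext fun v => Prod.ext (planeAU v.1) rfl
  have hBU : B * U * B⁻¹ = U := by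
    rw [mul_inv_eq_iff_eq_mul]
    exact LinearEquiv.ext fun v => rfl
  have hSB : ∀ L ∈ S, B * L * B⁻¹ ∈ S := fun L hL => ⟨fun v => by
    show c • (L (B.symm v)).2 = v.2
    rw [hL.1]
    exact congrArg Prod.snd (B.apply_symm_apply v), fun z => by
    show B (L (B.symm (0, z))) = _
    have h0 : B.symm (0, z) = (0, c⁻¹ • z) := B.symm_apply_eq.2 (Prod.ext rfl (smul_inv_smul c z).symm)
    rw [h0, hL.2]
    exact Prod.ext rfl (smul_inv_smul c z)⟩
  have hScard : Nat.card S ∣ 6 := by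
    let f : S →* Equiv.Perm {x : Plane // x ≠ 0} :=
      { toFun := fun L =>
          Equiv.ofBijective (fun x => (⟨((L : (Plane × W) ≃ₗ[ZMod 2] (Plane × W)) (x.1, 0)).1, fun e => x.2 (by
            have h1 : (L : (Plane × W) ≃ₗ[ZMod 2] (Plane × W)) (x.1, 0) = 0 := Prod.ext e (L.2.1 _)
            exact congrArg Prod.fst ((LinearEquiv.map_eq_zero_iff _).1 h1))⟩ : {x : Plane // x ≠ 0}))
            (Finite.injective_iff_bijective.1 fun x y hxy => Subtype.ext (congrArg Prod.fst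
              ((L : (Plane × W) ≃ₗ[ZMod 2] (Plane × W)).injective (Prod.ext (congrArg Subtype.val hxy :)
                (((L.2.1 (x.1, 0))).trans (L.2.1 (y.1, 0)).symm)))))
        map_one' := Equiv.ext fun x => rfl
        map_mul' := fun a b => Equiv.ext fun x => Subtype.ext (by
          show ((a : (Plane × W) ≃ₗ[ZMod 2] (Plane × W)) ((b : (Plane × W) ≃ₗ[ZMod 2] (Plane × W)) (x.1, 0))).1 = _
          congr 2
          exact Prod.ext rfl (b.2.1 _)) }
    have hf : Function.Injective f := fun a b hab => Subtype.ext (LinearEquiv.ext fun v => by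
      have hs : v = (v.1, 0) + (0, v.2) := by simp
      rw [hs, map_add, map_add, a.2.2, b.2.2]
      congr 1
      refine Prod.ext ?_ ((a.2.1 _).trans (b.2.1 _).symm)
      by_cases hv : v.1 = 0
      · rw [hv, show ((0 : Plane), (0 : W)) = 0 from rfl, map_zero, map_zero]
      · exact congrArg Subtype.val (Equiv.ext_iff.1 hab ⟨v.1, hv⟩))
    refine (Subgroup.card_dvd_of_injective f hf).trans (dvd_of_eq ?_)
    rw [Nat.card_perm, card_plane_pt]
    rfl
  -- a Sylow 3-subgroup over `U`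
  set K := (zpowers U).comap M.ρ
  obtain ⟨g0, hg0⟩ := hM U
  obtain ⟨m0, hm0, hm0'⟩ := exists_prime_power Nat.prime_three g0
  have hx0K : g0 ^ m0 ∈ K := by
    show M.ρ (g0 ^ m0) ∈ zpowers U
    rw [map_pow, hg0]; exact pow_mem (mem_zpowers U) _
  obtain ⟨Q, hQ⟩ := (isPGroup_zpowers (q := 3) (x := (⟨g0 ^ m0, hx0K⟩ : K))
    (hm0'.imp fun a ha => Subtype.ext ha)).exists_le_sylow
  set Q' := (Q : Subgroup K).map K.subtype
  have hx0Q : g0 ^ m0 ∈ Q' := ⟨_, hQ (mem_zpowers _), rfl⟩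
  have hUgen : ∀ v, M.ρ (g0 ^ m0) v = v → U v = v := by
    intro v hv
    have hU1 : U ∈ MulAction.stabilizer ((Plane × W) ≃ₗ[ZMod 2] (Plane × W)) v := by
      have h1 : U ^ m0 ∈ MulAction.stabilizer ((Plane × W) ≃ₗ[ZMod 2] (Plane × W)) v := by
        rw [map_pow, hg0] at hv
        exact hv
      rcases (show m0 % 3 = 1 ∨ m0 % 3 = 2 by omega) with hr | hr <;>
        rw [pow_eq_pow_mod m0 hU3, hr] at h1
      · rwa [pow_one] at h1
      · have h2 := mul_mem h1 h1
        rwa [← pow_add, pow_eq_pow_mod _ hU3, show (2 + 2) % 3 = 1 from rfl, pow_one] at h2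
    exact hU1
  have hnormK : ∀ L, L * U * L⁻¹ ∈ zpowers U → ∀ g, M.ρ g = L → g ∈ normalizer (K : Set G) := by
    rintro L hL g rfl
    refine Coprime.mem_normalizer_of_forall fun x hx => ?_
    obtain ⟨i, hi⟩ := mem_zpowers_iff.1 (show M.ρ x ∈ zpowers U from hx)
    show M.ρ (g * x * g⁻¹) ∈ zpowers U
    rw [map_mul, map_mul, map_inv, ← hi, ← conj_zpow]
    exact zpow_mem hL i
  obtain ⟨gA, hgA⟩ := hM A
  obtain ⟨gB, hgB⟩ := hM B
  obtain ⟨kA, hkA, hnA⟩ := frattini_elt Q (hnormK A (hAU ▸ pow_mem (mem_zpowers U) 2) gA hgA)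
  obtain ⟨kB, hkB, hnB⟩ := frattini_elt Q (hnormK B (hBU.symm ▸ mem_zpowers U) gB hgB)
  -- the part of the normaliser over the plane
  set M1 := normalizer (Q' : Set G) ⊓ S.comap M.ρ
  have hKS : ∀ k ∈ K, M.ρ k ∈ S := fun k hk => zpowers_le.2 hUS hk
  have hnB1 : kB * gB ∈ normalizer (M1 : Set G) := by
    refine Coprime.mem_normalizer_of_forall fun x hx => ⟨?_, ?_⟩
    · show kB * gB * x * (kB * gB)⁻¹ ∈ normalizer (Q' : Set G)
      exact mul_mem (mul_mem hnB hx.1) (inv_mem hnB)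
    · show M.ρ (kB * gB * x * (kB * gB)⁻¹) ∈ S
      rw [show kB * gB * x * (kB * gB)⁻¹ = kB * (gB * x * gB⁻¹) * kB⁻¹ by group, map_mul, map_mul, map_inv,
        map_mul, map_mul, map_inv, hgB]
      exact mul_mem (mul_mem (hKS _ hkB) (hSB _ hx.2)) (inv_mem (hKS _ hkB))
  obtain ⟨mA, hmA, hmA'⟩ := exists_prime_power Nat.prime_two (kA * gA)
  have hA1 : kA * gA ∈ M1 := ⟨hnA, by
    show M.ρ (kA * gA) ∈ S
    rw [map_mul, hgA]
    exact mul_mem (hKS _ hkA) hAS⟩
  obtain ⟨S0, hS0⟩ := (isPGroup_zpowers (q := 2) (x := (⟨_, pow_mem hA1 mA⟩ : M1))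
    (hmA'.imp fun a ha => Subtype.ext ha)).exists_le_sylow
  set S0' := (S0 : Subgroup M1).map M1.subtype
  have hS02 : IsPGroup 2 S0' := S0.isPGroup'.map _
  obtain ⟨k, hk, hkn⟩ := frattini_elt S0 hnB1
  -- its image has order two
  have hsA : M.ρ ((kA * gA) ^ mA) ≠ 1 := by
    obtain ⟨i, hi⟩ := mem_zpowers_iff.1 (show M.ρ kA ∈ zpowers U from hkA)
    obtain ⟨j, hj⟩ : ∃ j : Fin 3, U ^ i = U ^ j.val := by
      refine ⟨⟨(i % 3).toNat, by omega⟩, ?_⟩
      have h3 : U ^ (3 : ℤ) = 1 := by exact_mod_cast hU3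
      conv_lhs => rw [← Int.emod_add_mul_ediv i 3, zpow_add, zpow_mul, h3, one_zpow, mul_one]
      rw [← zpow_natCast, Int.toNat_of_nonneg (by omega)]
    intro h1
    rw [map_pow, map_mul, hgA, ← hi, hj] at h1
    have hsq : (U ^ j.val * A) * (U ^ j.val * A) = 1 := by
      have e : A * U ^ j.val * A⁻¹ = (U ^ j.val)⁻¹ := by
        rw [← conj_pow, hAU, ← pow_mul, eq_inv_iff_mul_eq_one, ← pow_add,
          show 2 * j.val + j.val = 3 * j.val by ring, pow_mul, hU3, one_pow]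
      calc U ^ j.val * A * (U ^ j.val * A) = U ^ j.val * (A * U ^ j.val * A⁻¹) * (A * A) := by group
        _ = 1 := by rw [e, mul_inv_cancel, one_mul, hA2]
    obtain ⟨b, hb⟩ : Odd mA := Nat.odd_iff.2 (by omega)
    rw [hb, pow_succ, pow_mul, pow_two, hsq, one_pow, one_mul] at h1
    obtain ⟨x, hx⟩ := planeUA_ne j
    refine hx ?_
    have h2 := congrArg (fun L : (Plane × W) ≃ₗ[ZMod 2] (Plane × W) => (L (x, 0)).1) h1
    have hit : ∀ (n : ℕ) (v : Plane × W), ((U ^ n) v).1 = planeU^[n] v.1 := by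
      intro n
      induction n with
      | zero => intro v; rfl
      | succ n ih => intro v; rw [pow_succ', Function.iterate_succ_apply', ← ih]; rfl
    exact (hit j.val _).symm.trans h2
  set s0 := (kA * gA) ^ mA
  have hs0 : s0 ∈ S0' := ⟨_, hS0 (mem_zpowers _), rfl⟩
  have hρS0 : ∀ y ∈ S0', M.ρ y = 1 ∨ M.ρ y = M.ρ s0 := by
    intro y hy
    have hle : S0'.map M.ρ ≤ S := by
      rintro _ ⟨y, ⟨y', -, rfl⟩, rfl⟩
      exact y'.2.2
    haveI : Finite (S0'.map M.ρ) := Finite.of_surjective _ (M.ρ.subgroupMap_surjective S0')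
    obtain ⟨e, he⟩ := IsPGroup.iff_card.1 (hS02.map M.ρ)
    have h6 := (Subgroup.card_dvd_of_le hle).trans hScard
    rw [he] at h6
    have he1 : e ≤ 1 := by
      by_contra h4
      have : 4 ∣ 6 := (pow_dvd_pow 2 (show 2 ≤ e by omega)).trans h6
      omega
    have h2 : Nat.card (S0'.map M.ρ) ≤ 2 := he ▸ Nat.pow_le_pow_right two_pos he1
    by_contra hne
    push Not at hne
    have h3 : 3 ≤ Nat.card (S0'.map M.ρ) := by
      rw [← SetLike.coe_sort_coe, Nat.card_coe_set_eq]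
      refine le_trans ?_ (Set.ncard_le_ncard (s := {1, M.ρ s0, M.ρ y}) ?_ (Set.toFinite (α := (Plane × W) ≃ₗ[ZMod 2] (Plane × W)) _))
      · rw [Set.ncard_eq_three.2 ⟨_, _, _, fun h => hsA h.symm, fun h => hne.1 h.symm, fun h => hne.2 h.symm, rfl⟩]
      · rintro _ (rfl | rfl | rfl)
        exacts [one_mem _, mem_map_of_mem _ hs0, mem_map_of_mem _ hy]
    omega
  -- an element of `q`-power order acting without fixed points on `W`
  set g := k * (kB * gB)
  obtain ⟨mq, hmq, hmq'⟩ := exists_prime_power hq g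
  have hW' : ∀ z : W, M.ρ (g ^ mq) (0, z) = (0, c ^ mq • z) := by
    have h1 : ∀ z : W, M.ρ g (0, z) = (0, c • z) := by
      intro z
      show M.ρ (k * (kB * gB)) (0, z) = _
      rw [map_mul, map_mul, hgB]
      show M.ρ k (M.ρ kB (B (0, z))) = _
      have hB : B (0, z) = (0, c • z) := rfl
      rw [hB, (hKS _ hkB).2]
      exact (hk.2 : M.ρ k ∈ S).2 _
    intro z
    clear hmq hmq'
    induction mq with
    | zero => simp
    | succ n ih =>
      rw [pow_succ', map_mul]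
      show M.ρ g (M.ρ (g ^ n) (0, z)) = _
      rw [ih, h1, smul_smul, ← pow_succ']
  have hcq : c ^ mq ≠ 1 := fun h1 => hmq (hc ▸ orderOf_dvd_of_pow_eq_one h1)
  set g1 := g ^ mq
  have hg1n : g1 ∈ normalizer (S0' : Set G) := pow_mem hkn _
  -- a fixed element over the involution
  let C := {y : S0' // M.ρ y = M.ρ s0}
  have hconjC : ∀ n ∈ zpowers g1, ∀ y : C, n * ((y.1 : G)) * n⁻¹ ∈ S0' ∧
      M.ρ (n * ((y.1 : G)) * n⁻¹) = M.ρ s0 := by
    intro n hn y
    have hnn : n ∈ normalizer (S0' : Set G) := zpowers_le.2 hg1n hn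
    have hmem := (mem_normalizer_iff.1 hnn _).1 y.1.2
    refine ⟨hmem, (hρS0 _ hmem).resolve_left fun h1 => hsA ?_⟩
    rw [map_mul, map_mul, map_inv, conj_eq_one_iff, y.2] at h1
    exact h1
  letI : MulAction (zpowers g1) C :=
    { smul := fun n y => ⟨⟨n * (y.1 : G) * (n : G)⁻¹, (hconjC n n.2 y).1⟩, (hconjC n n.2 y).2⟩
      one_smul := fun y => Subtype.ext (Subtype.ext (by
        show (1 : G) * (y.1 : G) * (1 : G)⁻¹ = _
        group))
      mul_smul := fun a b y => Subtype.ext (Subtype.ext (by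
        show ((a : G) * b) * (y.1 : G) * ((a : G) * b)⁻¹ = a * (b * (y.1 : G) * (b : G)⁻¹) * (a : G)⁻¹
        group)) }
  have hCcard : ¬ q ∣ Nat.card C := by
    have e : Nat.card C = Nat.card ((M.ρ.comp S0'.subtype).ker) := by
      refine Nat.card_congr (Equiv.subtypeEquiv (Equiv.mulLeft (⟨s0, hs0⟩ : S0')⁻¹) fun y => ?_)
      rw [MonoidHom.mem_ker]
      show M.ρ y = M.ρ s0 ↔ M.ρ (s0⁻¹ * (y : G)) = 1
      rw [map_mul, map_inv, inv_mul_eq_one, eq_comm]
    rw [e]
    obtain ⟨i, hi⟩ := IsPGroup.iff_card.1 (hS02.to_subgroup (M.ρ.comp S0'.subtype).ker)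
    rw [hi]
    exact fun h1 => hq2 ((Nat.prime_dvd_prime_iff_eq hq Nat.prime_two).1 (hq.dvd_of_dvd_pow h1))
  obtain ⟨y, hy⟩ := (isPGroup_zpowers hmq').nonempty_fixed_point_of_prime_not_dvd_card C hCcard
  set s : G := (y.1 : G)
  have hsg : Commute g1 s := by
    have h1 : (g1 : G) * s * g1⁻¹ = s :=
      congrArg (fun z : C => (z.1 : G)) (hy ⟨g1, mem_zpowers g1⟩)
    exact mul_inv_eq_iff_eq_mul.1 h1
  have hs1 : s ≠ 1 := fun e => hsA (by rw [← y.2, show ((y.1 : S0') : G) = 1 from e, map_one])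
  -- its involution
  obtain ⟨e, he⟩ := IsPGroup.iff_orderOf.1 hS02 y.1
  rw [← Subgroup.orderOf_coe] at he
  have he0 : e ≠ 0 := by
    rintro rfl
    exact hs1 (orderOf_eq_one_iff.1 (he.trans (pow_zero 2)))
  set t := s ^ 2 ^ (e - 1)
  have ht1 : t ≠ 1 := fun h1 => by
    have := Nat.le_of_dvd (by positivity) (he ▸ orderOf_dvd_of_pow_eq_one h1)
    have := Nat.pow_lt_pow_right (show 1 < 2 by norm_num) (show e - 1 < e by omega)
    omega
  have ht2 : t * t = 1 := by
    rw [← pow_add, ← two_mul, ← pow_succ', show e - 1 + 1 = e by omega, ← he, pow_orderOf_eq_one]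
  have htE : t ∈ E := h.mem t ht2
  have htQ : t ∈ normalizer (Q' : Set G) := by
    obtain ⟨y', -, hy'⟩ := y.1.2
    have : s ∈ normalizer (Q' : Set G) := by
      show ((y.1 : S0') : G) ∈ _
      rw [← hy']; exact y'.2.1
    exact pow_mem this _
  have hcom : Commute t (g0 ^ m0) := by
    have h1 : t * (g0 ^ m0) * t⁻¹ * (g0 ^ m0)⁻¹ ∈ Q' :=
      mul_mem ((mem_normalizer_iff.1 htQ _).1 hx0Q) (inv_mem hx0Q)
    have h2 : t * (g0 ^ m0) * t⁻¹ * (g0 ^ m0)⁻¹ ∈ E := by
      rw [show t * (g0 ^ m0) * t⁻¹ * (g0 ^ m0)⁻¹ = t * ((g0 ^ m0) * t⁻¹ * (g0 ^ m0)⁻¹) by group]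
      exact mul_mem htE (h.normal.conj_mem _ (inv_mem htE) _)
    have h3 : IsPGroup 3 Q' := Q.isPGroup'.map _
    have h4 := IsPGroup.disjoint_of_ne 3 2 (by norm_num) Q' E h3 h.isPGroup
    have h5 := disjoint_def.1 h4 h1 h2
    exact mul_inv_eq_iff_eq_mul.1 (mul_inv_eq_one.1 h5)
  obtain ⟨v, hv⟩ := M.surj t htE
  have hv1 : U v = v := hUgen v (M.apply_eq_iff.2 (hv.symm ▸ hcom.symm))
  have hv0 : v.1 = 0 := planeU_fix _ (congrArg Prod.fst hv1)
  have hv2 : M.ρ g1 v = v := M.apply_eq_iff.2 (hv.symm ▸ (hsg.pow_right _))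
  refine ht1 (hv ▸ M.eq_one_iff.2 ?_)
  have hvz : v = (0, v.2) := Prod.ext hv0 rfl
  rw [hvz, hW'] at hv2
  have h3 : (c ^ mq : Wˣ) • v.2 = v.2 := congrArg Prod.snd hv2
  rw [hvz]
  refine Prod.ext rfl ?_
  by_contra hz
  refine hcq (Units.ext ?_)
  rw [Units.smul_def, smul_eq_mul] at h3
  exact mul_eq_right₀ hz |>.1 h3

/-- **The full linear group needs dimension below five.** -/
theorem Pyr.not_full_of_five_le (h : Pyr E) {r : ℕ} (hr : 5 ≤ r) (M : Model E (Fin r → ZMod 2)) :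
    ¬ Function.Surjective M.ρ := fun hM => by
  obtain ⟨m, rfl⟩ : ∃ m, r = 2 + m := ⟨r - 2, by omega⟩
  haveI : Fact (Nat.Prime 2) := ⟨Nat.prime_two⟩
  let e : (Plane × GaloisField 2 m) ≃ₗ[ZMod 2] (Fin (2 + m) → ZMod 2) :=
    LinearEquiv.ofFinrankEq _ _ (by simp [Module.finrank_prod, GaloisField.finrank 2 (show m ≠ 0 by omega)])
  refine not_surjective_split h (M.trans e) ?_ (M.trans_surjective e hM)
  rw [GaloisField.card 2 m (by omega)]
  exact le_trans (by norm_num : 3 ≤ 2 ^ 2) (Nat.pow_le_pow_right two_pos (by omega))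

end Cfsg.Agent.Pyramidal
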