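import Cfsg.Agent.EqLemmas
import Mathlib.Algebra.Module.ZMod
import Mathlib.Algebra.Module.Equiv.Basic
import Mathlib.Algebra.Field.ZMod
import Mathlib.Data.ZMod.Basic
import Mathlib.LinearAlgebra.Span.Defs
import Mathlib.LinearAlgebra.Dual.Defs
import Mathlib.LinearAlgebra.Isomorphisms
import Mathlib.Data.Fintype.Prod
import Mathlib.Data.Fintype.EquivFin

/-!
# Some elements and facts of the linear group of `F₂³`, checked by evaluation
-/

set_option autoImplicit false

namespace Cfsg.Agent.Pyramidal.GL3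

/-- The space `F₂³`. -/
abbrev V3 : Type := ZMod 2 × ZMod 2 × ZMod 2

/-- Its automorphisms. -/
abbrev L3 : Type := V3 ≃ₗ[ZMod 2] V3

/-- A linear automorphism from an additive map and its inverse. -/
def mk3 (f g : V3 → V3) (hadd : ∀ v w, f (v + w) = f v + f w) (hl : ∀ v, g (f v) = v)
    (hr : ∀ v, f (g v) = v) : L3 where
  toFun := f
  invFun := g
  map_add' := hadd
  map_smul' c v := ZMod.map_smul (AddMonoidHom.mk' f hadd) c v
  left_inv := hl
  right_inv := hr

/-- Multiplication by a generator of the field with eight elements. -/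
def alp : L3 := mk3 (fun v => (v.2.2, v.1 + v.2.2, v.2.1)) (fun v => (v.1 + v.2.1, v.2.2, v.1))
  (by decide) (by decide) (by decide)

/-- The squaring map of the field with eight elements. -/
def fro : L3 := mk3 (fun v => (v.1, v.2.2, v.2.1 + v.2.2)) (fun v => (v.1, v.2.1 + v.2.2, v.2.1))
  (by decide) (by decide) (by decide)

/-- An involution inverting `fro`. -/
def swp : L3 := mk3 (fun v => (v.1, v.2.2, v.2.1)) (fun v => (v.1, v.2.2, v.2.1))
  (by decide) (by decide) (by decide)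

/-- A single Jordan block. -/
def jor : L3 := mk3 (fun v => (v.1 + v.2.1, v.2.1 + v.2.2, v.2.2))
  (fun v => (v.1 + v.2.1 + v.2.2, v.2.1 + v.2.2, v.2.2)) (by decide) (by decide) (by decide)

/-- Elements of order seven used as factors. -/
def sevA : L3 := mk3 (fun v => (v.1 + v.2.1 + v.2.2, v.1 + v.2.1, v.1))
  (fun v => (v.2.2, v.2.1 + v.2.2, v.1 + v.2.1)) (by decide) (by decide) (by decide)

/-- Second factor of `swp`. -/
def sevA' : L3 := mk3 (fun v => (v.2.1, v.2.1 + v.2.2, v.1 + v.2.2))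
  (fun v => (v.1 + v.2.1 + v.2.2, v.1, v.1 + v.2.1)) (by decide) (by decide) (by decide)

/-- First factor of `fro` and `jor`. -/
def sevU : L3 := mk3 (fun v => (v.2.1, v.1 + v.2.2, v.1))
  (fun v => (v.2.2, v.1, v.2.1 + v.2.2)) (by decide) (by decide) (by decide)

/-- Second factor of `fro`. -/
def sevU' : L3 := mk3 (fun v => (v.2.1 + v.2.2, v.1, v.2.1))
  (fun v => (v.2.1, v.2.2, v.1 + v.2.2)) (by decide) (by decide) (by decide)

/-- Second factor of `jor`. -/
def sevT' : L3 := mk3 (fun v => (v.2.2, v.1 + v.2.1, v.2.1))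
  (fun v => (v.2.1 + v.2.2, v.2.2, v.1)) (by decide) (by decide) (by decide)

theorem ext3 {L L' : L3} (h : ∀ v, L v = L' v) : L = L' := LinearEquiv.ext h

theorem sevA_pow : sevA ^ 7 = 1 :=
  ext3 (show ∀ v, sevA (sevA (sevA (sevA (sevA (sevA (sevA v)))))) = v by decide)

theorem sevA'_pow : sevA' ^ 7 = 1 :=
  ext3 (show ∀ v, sevA' (sevA' (sevA' (sevA' (sevA' (sevA' (sevA' v)))))) = v by decide)

theorem sevU_pow : sevU ^ 7 = 1 :=
  ext3 (show ∀ v, sevU (sevU (sevU (sevU (sevU (sevU (sevU v)))))) = v by decide)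

theorem sevU'_pow : sevU' ^ 7 = 1 :=
  ext3 (show ∀ v, sevU' (sevU' (sevU' (sevU' (sevU' (sevU' (sevU' v)))))) = v by decide)

theorem sevT'_pow : sevT' ^ 7 = 1 :=
  ext3 (show ∀ v, sevT' (sevT' (sevT' (sevT' (sevT' (sevT' (sevT' v)))))) = v by decide)

theorem alp_pow : alp ^ 7 = 1 :=
  ext3 (show ∀ v, alp (alp (alp (alp (alp (alp (alp v)))))) = v by decide)

theorem swp_eq : swp = sevA * sevA' := ext3 (show ∀ v, swp v = sevA (sevA' v) by decide)
theorem fro_eq : fro = sevU * sevU' := ext3 (show ∀ v, fro v = sevU (sevU' v) by decide)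
theorem jor_eq : jor = sevU * sevT' := ext3 (show ∀ v, jor v = sevU (sevT' v) by decide)

theorem jor_pow : jor ^ 4 = 1 := ext3 (show ∀ v, jor (jor (jor (jor v))) = v by decide)
theorem jor_sq_ne : jor ^ 2 ≠ 1 := fun h =>
  absurd (LinearEquiv.congr_fun h ((0 : ZMod 2), (0 : ZMod 2), (1 : ZMod 2)))
    (show jor (jor ((0 : ZMod 2), (0 : ZMod 2), (1 : ZMod 2))) ≠ _ by decide)

/-- The cyclic basis for `jor`. -/
theorem jor_basis : ∀ a b c : ZMod 2,
    a • ((0, 0, 1) : V3) + b • jor (0, 0, 1) + c • jor (jor (0, 0, 1)) = 0 → a = 0 ∧ b = 0 ∧ c = 0 := by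
  decide

theorem jor_span : ∀ v : V3, ∃ a b c : ZMod 2,
    a • ((0, 0, 1) : V3) + b • jor (0, 0, 1) + c • jor (jor (0, 0, 1)) = v := by
  decide

theorem fro_cube : fro ^ 3 = 1 := ext3 (show ∀ v, fro (fro (fro v)) = v by decide)
theorem swp_sq : swp * swp = 1 := ext3 (show ∀ v, swp (swp v) = v by decide)
theorem swp_fro : swp * fro * swp = fro ^ 2 := ext3 (show ∀ v, swp (fro (swp v)) = fro (fro v) by decide)
theorem swp_ne : swp ≠ 1 := fun h =>
  absurd (LinearEquiv.congr_fun h ((0 : ZMod 2), (0 : ZMod 2), (1 : ZMod 2)))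
    (show swp ((0 : ZMod 2), (0 : ZMod 2), (1 : ZMod 2)) ≠ _ by decide)
theorem fro_ne : fro ≠ 1 := fun h =>
  absurd (LinearEquiv.congr_fun h ((0 : ZMod 2), (0 : ZMod 2), (1 : ZMod 2)))
    (show fro ((0 : ZMod 2), (0 : ZMod 2), (1 : ZMod 2)) ≠ _ by decide)

theorem fro_alp : fro * alp * fro⁻¹ = alp ^ 2 :=
  ext3 (show ∀ v, fro (alp (fro.symm v)) = alp (alp v) by decide)

theorem alp_fix : ∀ v, alp v = v → v = 0 := by decide

/-- The fixed vectors of `fro`. -/
theorem fro_fix : ∀ v, fro v = v → v = 0 ∨ v = (1, 0, 0) := by decide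

theorem fro_e1 : fro (1, 0, 0) = (1, 0, 0) := by decide
theorem swp_e1 : swp (1, 0, 0) = (1, 0, 0) := by decide

/-- The four group fixing `(1, 0, 0)` and all planes through it. -/
def shear (w : ZMod 2 × ZMod 2) : L3 :=
  mk3 (fun v => (v.1 + w.1 * v.2.1 + w.2 * v.2.2, v.2)) (fun v => (v.1 + w.1 * v.2.1 + w.2 * v.2.2, v.2))
    (fun v v' => by
      refine Prod.ext ?_ rfl
      show v.1 + v'.1 + w.1 * (v.2.1 + v'.2.1) + w.2 * (v.2.2 + v'.2.2) = _ + _
      ring)
    (fun v => by revert v w; decide) (fun v => by revert v w; decide)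

theorem shear_e1 : ∀ w, shear w (1, 0, 0) = (1, 0, 0) := by decide
theorem shear_zero : shear 0 = 1 := ext3 (show ∀ v, shear 0 v = v by decide)
theorem shear_add (w w' : ZMod 2 × ZMod 2) : shear (w + w') = shear w * shear w' :=
  ext3 fun v => by
    show shear (w + w') v = shear w (shear w' v)
    revert v w w'
    decide

theorem fro_shear (w : ZMod 2 × ZMod 2) : fro * shear w * fro⁻¹ = shear (w.1 + w.2, w.1) :=
  ext3 fun v => by
    show fro (shear w (fro.symm v)) = _
    revert v w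
    decide

theorem swp_shear (w : ZMod 2 × ZMod 2) : swp * shear w = shear (w.2, w.1) * swp :=
  ext3 fun v => by
    show swp (shear w v) = shear (w.2, w.1) (swp v)
    revert v w
    decide

/-- The non-zero points of the parameter space form one cycle. -/
theorem shear_cycle : ∀ w w' : ZMod 2 × ZMod 2, w ≠ 0 → w' ≠ 0 →
    w' = w ∨ w' = (w.1 + w.2, w.1) ∨ w' = ((w.1 + w.2) + w.1, w.1 + w.2) := by decide

/-- The stabiliser of `(1, 0, 0)` is generated by `shear`, `fro` and `swp`. -/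
theorem stab_cover : ∀ p q : V3, p.2 ≠ 0 → q.2 ≠ 0 → p.2 ≠ q.2 →
    ∃ (w : ZMod 2 × ZMod 2) (i : Fin 3) (j : Fin 2),
      shear w ((⇑fro)^[i.val] ((⇑swp)^[j.val] (0, 1, 0))) = p ∧
      shear w ((⇑fro)^[i.val] ((⇑swp)^[j.val] (0, 0, 1))) = q := by decide

/-- The powers of `alp` move `(1, 0, 0)` everywhere. -/
theorem alp_trans : ∀ v : V3, v ≠ 0 → ∃ m : Fin 7, (⇑alp)^[m.val] (1, 0, 0) = v := by decide

set_option synthInstance.maxSize 1000 in
/-- A third vector completing an independent pair. -/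
theorem exists_third : ∀ v w : V3, v ≠ 0 → w ≠ 0 → v ≠ w → ∃ n : V3, ∀ x : V3,
    x.1 • n + x.2.1 • v + x.2.2 • w = 0 → x = 0 := by decide

/-- An automorphism taking the last two coordinate vectors to a given independent pair. -/
theorem exists_pair {v w : V3} (hv : v ≠ 0) (hw : w ≠ 0) (hvw : v ≠ w) :
    ∃ L : L3, L (0, 1, 0) = v ∧ L (0, 0, 1) = w := by
  obtain ⟨n, hn⟩ := exists_third v w hv hw hvw
  let f : V3 →ₗ[ZMod 2] V3 :=
    { toFun := fun x => x.1 • n + x.2.1 • v + x.2.2 • w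
      map_add' := fun x y => by
        simp only [Prod.fst_add, Prod.snd_add, add_smul]
        abel
      map_smul' := fun c x => by
        simp only [Prod.smul_fst, Prod.smul_snd, smul_eq_mul, RingHom.id_apply, smul_add, mul_smul] }
  have hf : Function.Injective f := (injective_iff_map_eq_zero f).2 hn
  refine ⟨LinearEquiv.ofBijective f (Finite.injective_iff_bijective.1 hf), ?_, ?_⟩
  · show (0 : ZMod 2) • n + (1 : ZMod 2) • v + (0 : ZMod 2) • w = v
    simp
  · show (0 : ZMod 2) • n + (0 : ZMod 2) • v + (1 : ZMod 2) • w = w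
    simp

/-- A transvection fixing the plane of the last two coordinates. -/
def trv : L3 := mk3 (fun v => (v.1, v.1 + v.2.1, v.2.2)) (fun v => (v.1, v.1 + v.2.1, v.2.2))
  (by decide) (by decide) (by decide)

theorem fro_trv_fix : ∀ v, fro v = v → trv v = v → v = 0 := by decide
theorem trv_plane : trv (0, 1, 0) = (0, 1, 0) ∧ trv (0, 0, 1) = (0, 0, 1) ∧ trv (0, 1, 1) = (0, 1, 1) := by
  decide
theorem fro_plane : fro (0, 1, 0) = (0, 0, 1) ∧ fro (0, 0, 1) = (0, 1, 1) ∧ fro (0, 1, 1) = (0, 1, 0) := by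
  decide

/-- The pointwise stabiliser of a line has no further fixed points. -/
theorem line_move : ∀ z : V3, z ≠ 0 → z ≠ (0, 1, 0) → z ≠ (0, 0, 1) → z ≠ (0, 1, 1) → trv z ≠ z := by decide

/-- A map with value `y` at the second coordinate vector that commutes with `fro` and `swp` and fixes
`(1, 0, 0)` has non-zero orbit sum under `alp` at `(1, 0, 0)`. -/
theorem orbit_sum : ∀ y : V3, fro y = swp y → fro (swp y) = y + swp y →
    (∑ m : Fin 7, (⇑alp)^[m.val]
      (((⇑alp.symm)^[m.val] (1, 0, 0)).1 • ((1, 0, 0) : V3) + ((⇑alp.symm)^[m.val] (1, 0, 0)).2.1 • y +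
        ((⇑alp.symm)^[m.val] (1, 0, 0)).2.2 • swp y)) ≠ 0 := by decide

end Cfsg.Agent.Pyramidal.GL3
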