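import Cfsg.Agent.Lib.SuzukiTwo.Order

/-!
# Automorphisms of odd order of a Suzuki 2-group that fix all involutions

On `U = P ⧸ Z(P)` they preserve the quadratic map; so they are trivial if `|P| = |Z|²`, and fixed point
free or trivial if `|P| = |Z|³`.

* `SuzData.fibre_card`, `SuzData.quad_bijective`
* `SuzData.aut_trivial_of_small`, `SuzData.aut_semiregular`
-/

set_option autoImplicit false
set_option linter.style.haveILetI false
set_option linter.unusedSectionVars false
set_option maxHeartbeats 800000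

namespace Cfsg.Agent.Pyramidal

open SuzukiTwo Subgroup

/-- The square of a quadratic character sum is divisible by the order of the group. -/
theorem card_dvd_sq_sum {H : Type*} [Group H] [Fintype H] (f : H → ℤ) (hf : ∀ h, f h * f h = 1)
    (hb : ∀ h u v, f (u * v * h) * f (u * v) * f h = (f (u * h) * f u * f h) * (f (v * h) * f v * f h)) :
    (Fintype.card H : ℤ) ∣ (∑ h, f h) * ∑ h, f h := by
  classical
  have e1 : (∑ h, f h) * ∑ h, f h = ∑ h, f h * ∑ u, f (u * h) * f u * f h := by
    calc (∑ h, f h) * ∑ h, f h = ∑ u, ∑ h, f u * f (u * h) := by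
          rw [Finset.sum_mul_sum]
          exact Finset.sum_congr rfl fun u _ =>
            (Fintype.sum_equiv (Equiv.mulLeft u) _ _ (fun h => rfl)).symm
      _ = ∑ h, ∑ u, f h * (f (u * h) * f u * f h) := by
          rw [Finset.sum_comm]
          refine Finset.sum_congr rfl fun h _ => Finset.sum_congr rfl fun u _ => ?_
          linear_combination (-(f u * f (u * h))) * hf h
      _ = _ := by simp only [Finset.mul_sum]
  rw [e1]
  refine Finset.dvd_sum fun h _ => Dvd.dvd.mul_left ?_ _
  by_cases hall : ∀ u, f (u * h) * f u * f h = 1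
  · rw [Finset.sum_congr rfl fun u _ => hall u, Finset.sum_const, Finset.card_univ]
    simp
  · simp only [not_forall] at hall
    obtain ⟨u₀, hu₀⟩ := hall
    have hval : f (u₀ * h) * f u₀ * f h = -1 := by
      have : (f (u₀ * h) * f u₀ * f h) * (f (u₀ * h) * f u₀ * f h) = 1 := by
        linear_combination (f u₀ * f u₀ * (f h * f h)) * hf (u₀ * h) + (f h * f h) * hf u₀ + hf h
      exact (mul_self_eq_one_iff.1 this).resolve_left hu₀
    have e : ∑ u, f (u * h) * f u * f h = ∑ u, f (u * u₀ * h) * f (u * u₀) * f h :=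
      (Fintype.sum_equiv (Equiv.mulRight u₀) _ _ (fun u => rfl)).symm
    simp only [hb, hval, mul_neg, mul_one, Finset.sum_neg_distrib] at e
    rw [show ∑ u, f (u * h) * f u * f h = 0 by linarith]
    exact dvd_zero _

variable {P : Type*} [Group P] {F : Type*} [Field F] [Fintype F] [CharP F 2] (d : SuzData P F)
include d

theorem quad_one : d.quad (1 : P ⧸ center P) = 0 := by
  rw [← QuotientGroup.mk_one, d.quad_mk, one_mul, d.ι_one]

theorem sq_eq_one (u : P ⧸ center P) : u * u = 1 := by
  induction u using QuotientGroup.induction_on with | H p => ?_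
  rw [← QuotientGroup.mk_mul, QuotientGroup.eq_one_iff, d.center_eq_V]
  exact d.sq_mem_V p

theorem quot_comm (u v : P ⧸ center P) : u * v = v * u := by
  have hinv : ∀ w : P ⧸ center P, w⁻¹ = w := fun w => inv_eq_of_mul_eq_one_left (sq_eq_one d w)
  rw [← hinv (u * v), mul_inv_rev, hinv, hinv]

open Classical in
/-- All fibres of `quad` over non-zero values have the same size. -/
theorem fibre_card : ∃ r : ℕ,
    (∀ x : F, x ≠ 0 → Nat.card {u : P ⧸ center P // d.quad u = x} = r) ∧
    Nat.card (P ⧸ center P) = 1 + (Nat.card F - 1) * r := by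
  haveI := d.finite
  letI : Fintype (P ⧸ center P) := Fintype.ofFinite _
  refine ⟨Nat.card {u : P ⧸ center P // d.quad u = 1}, fun x hx => ?_, ?_⟩
  · obtain ⟨j, rfl⟩ := d.generates x hx
    clear hx
    induction j with
    | zero => rw [pow_zero]
    | succ j ih =>
      rw [← ih]
      refine (Nat.card_congr (Equiv.subtypeEquiv
        (Equiv.ofBijective _ (Finite.injective_iff_bijective.1 d.gbar_injective)) fun u => ?_)).symm
      show d.quad u = d.ω ^ j ↔ d.quad (d.gbar u) = d.ω ^ (j + 1)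
      rw [d.quad_gbar, pow_succ', mul_right_inj' d.ω_ne_zero]
  · have hx : ∀ x : F, x ∈ Finset.univ.erase 0 →
        (Finset.univ.filter fun u : P ⧸ center P => d.quad u = x).card =
          Nat.card {u : P ⧸ center P // d.quad u = 1} := by
      intro x hx
      obtain ⟨j, rfl⟩ := d.generates x (Finset.ne_of_mem_erase hx)
      clear hx
      rw [← Fintype.card_subtype, ← Nat.card_eq_fintype_card]
      induction j with
      | zero => rw [pow_zero]
      | succ j ih =>
        rw [← ih]
        refine (Nat.card_congr (Equiv.subtypeEquiv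
          (Equiv.ofBijective _ (Finite.injective_iff_bijective.1 d.gbar_injective)) fun u => ?_)).symm
        show d.quad u = d.ω ^ j ↔ d.quad (d.gbar u) = d.ω ^ (j + 1)
        rw [d.quad_gbar, pow_succ', mul_right_inj' d.ω_ne_zero]
    have h0 : (Finset.univ.filter fun u : P ⧸ center P => d.quad u = 0) = {1} := by
      ext u
      simp only [Finset.mem_filter, Finset.mem_univ, true_and, Finset.mem_singleton]
      refine ⟨d.quad_eq_zero, ?_⟩
      rintro rfl
      exact quad_one d
    rw [Nat.card_eq_fintype_card, ← Finset.card_univ,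
      Finset.card_eq_sum_card_fiberwise (f := d.quad) (t := Finset.univ) (fun _ _ => Finset.mem_univ _),
      ← Finset.add_sum_erase _ _ (Finset.mem_univ (0 : F)), h0, Finset.card_singleton,
      Finset.sum_congr rfl hx, Finset.sum_const, smul_eq_mul, Finset.card_erase_of_mem (Finset.mem_univ _),
      Finset.card_univ, ← Nat.card_eq_fintype_card (α := F)]

theorem card_quotient_cases :
    (Nat.card P = Nat.card (center P) ^ 2 → Nat.card (P ⧸ center P) = Nat.card F) ∧
    (Nat.card P = Nat.card (center P) ^ 3 → Nat.card (P ⧸ center P) = Nat.card F ^ 2) := by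
  haveI := d.finite
  have hF : 0 < Nat.card F := Nat.card_pos
  have hZ : Nat.card (center P) = Nat.card F := by rw [d.center_eq_V, d.card_V]
  rw [Subgroup.card_eq_card_quotient_mul_card_subgroup (center P), hZ]
  constructor <;> intro h
  · exact Nat.eq_of_mul_eq_mul_right hF (by rw [h, pow_two])
  · exact Nat.eq_of_mul_eq_mul_right hF (by rw [h]; ring)

/-- In the small case `quad` is a bijection. -/
theorem quad_bijective (hcard : Nat.card P = Nat.card (center P) ^ 2) :
    Function.Bijective d.quad := by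
  classical
  haveI := d.finite
  have hF : Nat.card (P ⧸ center P) = Nat.card F := (card_quotient_cases d).1 hcard
  obtain ⟨r, hr, hU⟩ := fibre_card d
  have hF2 : 1 < Nat.card F := Finite.one_lt_card
  have hr1 : r = 1 := by
    rw [hF] at hU
    have : (Nat.card F - 1) * r = (Nat.card F - 1) * 1 := by omega
    exact Nat.eq_of_mul_eq_mul_left (by omega) this
  refine (Nat.bijective_iff_surjective_and_card _).2 ⟨fun x => ?_, hF⟩
  by_cases hx : x = 0
  · exact ⟨1, by rw [hx]; exact quad_one d⟩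
  · have : Nat.card {u : P ⧸ center P // d.quad u = x} ≠ 0 := by rw [hr x hx, hr1]; exact one_ne_zero
    obtain ⟨⟨⟨u, hu⟩⟩, -⟩ := Nat.card_ne_zero.1 this
    exact ⟨u, hu⟩

omit d in
/-- An automorphism on `P ⧸ Z(P)`. -/
def autBar (σ : MulAut P) : P ⧸ center P →* P ⧸ center P :=
  QuotientGroup.map _ _ σ.toMonoidHom (fun z hz => by
    show σ z ∈ center P
    rw [Subgroup.mem_center_iff] at hz ⊢
    intro q
    rw [← σ.apply_symm_apply q, ← map_mul, ← map_mul, hz])

theorem quad_autBar (σ : MulAut P) (hfix : ∀ v : P, v * v = 1 → σ v = v) (u : P ⧸ center P) :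
    d.quad (autBar σ u) = d.quad u := by
  induction u using QuotientGroup.induction_on with | H p => ?_
  show d.quad ((σ p : P) : P ⧸ center P) = _
  rw [d.quad_mk, d.quad_mk, ← map_mul, hfix _ (d.sq_mem_V p)]

omit d in
theorem autBar_pow (σ : MulAut P) (j : ℕ) (p : P) :
    ((autBar σ)^[j]) (p : P ⧸ center P) = (((σ ^ j) p : P) : P ⧸ center P) := by
  induction j with
  | zero => rfl
  | succ j ih => rw [Function.iterate_succ_apply', ih, pow_succ']; rfl

/-- In the small case an automorphism that fixes the involutions is trivial modulo the centre. -/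
theorem aut_trivial_of_small (hcard : Nat.card P = Nat.card (center P) ^ 2) (σ : MulAut P)
    (hfix : ∀ v : P, v * v = 1 → σ v = v) (p : P) : p⁻¹ * σ p ∈ center P :=
  QuotientGroup.eq.1 ((quad_bijective d hcard).1 (quad_autBar d σ hfix (p : P ⧸ center P))).symm

/-- In the large case an automorphism of odd order that fixes the involutions and a further element modulo
the centre is trivial modulo the centre. -/
theorem aut_semiregular (hcard : Nat.card P = Nat.card (center P) ^ 3) (σ : MulAut P) {m : ℕ}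
    (hm : Odd m) (hσ : σ ^ m = 1) (hfix : ∀ v : P, v * v = 1 → σ v = v) {p₀ : P} (hp₀ : p₀ ∉ center P)
    (hfix₀ : p₀⁻¹ * σ p₀ ∈ center P) (p : P) : p⁻¹ * σ p ∈ center P := by
  classical
  haveI := d.finite
  haveI := Fact.mk Nat.prime_two
  letI : Fintype (P ⧸ center P) := Fintype.ofFinite _
  by_contra hcon
  letI : CommGroup (P ⧸ center P) :=
    { (inferInstance : Group (P ⧸ center P)) with mul_comm := quot_comm d }
  set s := autBar σ
  let τ : P ⧸ center P →* P ⧸ center P := s * MonoidHom.id _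
  have hτ : ∀ u, τ u = s u * u := fun u => rfl
  have hsq := sq_eq_one d
  have hker : ∀ {u}, u ∈ τ.ker ↔ s u = u := by
    intro u
    rw [MonoidHom.mem_ker, hτ]
    exact ⟨fun h => by rw [eq_inv_of_mul_eq_one_left h, inv_eq_of_mul_eq_one_left (hsq u)],
      fun h => by rw [h, hsq]⟩
  have hinter : ∀ w, w ∈ τ.range → w ∈ τ.ker → w = 1 := by
    rintro w ⟨v, rfl⟩ hw
    rw [hker] at hw
    set w := τ v
    have hv : s v = w * v := by rw [show w = s v * v from hτ v, mul_assoc, hsq, mul_one]
    have hit : ∀ j, (s^[j]) v = w ^ j * v := by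
      intro j
      induction j with
      | zero => simp
      | succ j ih => rw [Function.iterate_succ_apply', ih, map_mul, map_pow, hw, hv, ← mul_assoc, ← pow_succ]
    have h1 : (s^[m]) v = v := by
      obtain ⟨x, rfl⟩ := QuotientGroup.mk_surjective v
      rw [autBar_pow, hσ]; rfl
    rw [hit m] at h1
    have h2 : w ^ m = 1 := mul_eq_right.1 h1
    obtain ⟨c, rfl⟩ := hm
    rwa [pow_succ, pow_mul, pow_two, hsq, one_pow, one_mul] at h2
  -- `U` is the product of the fixed points and the commutators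
  let mul2 : τ.ker × τ.range → P ⧸ center P := fun x => x.1 * x.2
  have hinj : Function.Injective mul2 := by
    rintro ⟨f, w⟩ ⟨f', w'⟩ h
    have h' : (f : P ⧸ center P) * w = f' * w' := h
    have h3 : (f' : P ⧸ center P)⁻¹ * f = w' * (w : P ⧸ center P)⁻¹ := by
      have := congrArg (fun z => (f' : P ⧸ center P)⁻¹ * z * (w : P ⧸ center P)⁻¹) h'
      simpa [mul_assoc] using this
    have h4 : w' * (w : P ⧸ center P)⁻¹ = 1 :=
      hinter _ (mul_mem w'.2 (inv_mem w.2)) (h3 ▸ mul_mem (inv_mem f'.2) f.2)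
    rw [h4] at h3
    refine Prod.ext (Subtype.ext (inv_mul_eq_one.1 h3).symm) (Subtype.ext ?_)
    exact (mul_inv_eq_one.1 h4).symm
  have hcardFW : Nat.card τ.ker * Nat.card τ.range = Nat.card (P ⧸ center P) := by
    rw [← Subgroup.index_ker τ, Subgroup.card_mul_index]
  have hbij : Function.Bijective mul2 :=
    (Nat.bijective_iff_injective_and_card _).2 ⟨hinj, by rw [Nat.card_prod, hcardFW]⟩
  -- orthogonality
  have horth : ∀ f ∈ τ.ker, ∀ w ∈ τ.range, d.quad (f * w) = d.quad f + d.quad w := by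
    rintro f hf _ ⟨v, rfl⟩
    rw [hker] at hf
    have hq : d.quad (f * s v) = d.quad (f * v) := by
      conv_lhs => rw [← hf]
      rw [← map_mul, quad_autBar d σ hfix]
    have hq' : d.quad (s v) = d.quad v := quad_autBar d σ hfix v
    have := d.polar_add f (s v) v
    rw [hτ, mul_assoc] at *
    linear_combination this - hq - hq' - CharTwo.add_self_eq_zero (d.quad f) -
      CharTwo.add_self_eq_zero (d.quad (f * v)) - CharTwo.add_self_eq_zero (d.quad v) -
      CharTwo.add_self_eq_zero (d.quad (s v * v))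
  -- the characters
  letI := ZMod.algebra F 2
  let T : F →+ ZMod 2 := (Algebra.trace (ZMod 2) F).toAddMonoidHom
  obtain ⟨z₀, hz₀⟩ : ∃ z, T z ≠ 0 := by
    obtain ⟨z, hz⟩ := Algebra.trace_surjective (ZMod 2) F 1
    exact ⟨z, by simp [T, hz]⟩
  let ψ : F → ℤ := fun x => if T x = 0 then 1 else -1
  have hψ : ∀ x y, ψ (x + y) = ψ x * ψ y := by
    intro x y
    simp only [ψ, map_add]
    rcases zmod_two_cases (T x) with h | h <;> rcases zmod_two_cases (T y) with h' | h' <;>
      simp [h, h', show (1 + 1 : ZMod 2) = 0 from rfl]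
  have hψ0 : ψ 0 = 1 := by simp [ψ]
  have hψz : ψ z₀ = -1 := by simp [ψ, hz₀]
  have hψ1 : ∀ x, ψ x * ψ x = 1 := fun x => by simp only [ψ]; split_ifs <;> rfl
  have hchar : ∀ x : F, x ≠ 0 → ∑ a, ψ (a * x) = 0 := by
    intro x hx
    have e : ∑ a, ψ (a * x) = ∑ y, ψ y := Fintype.sum_equiv (Equiv.mulRight₀ x hx) _ _ (fun a => rfl)
    have h : ∑ y, ψ y = ∑ y, ψ (y + z₀) := (Fintype.sum_equiv (Equiv.addRight z₀) _ _ (fun y => rfl)).symm
    simp only [hψ, hψz, mul_neg, mul_one, Finset.sum_neg_distrib] at h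
    rw [e]; linarith
  obtain ⟨n, hn0, hn⟩ := FiniteField.card F 2
  have hn' : Nat.card F = 2 ^ (n : ℕ) := by rw [Nat.card_eq_fintype_card, hn]
  have hU : Nat.card (P ⧸ center P) = Nat.card F ^ 2 := (card_quotient_cases d).2 hcard
  obtain ⟨r, hr, hUr⟩ := fibre_card d
  have hF2 : 1 < Nat.card F := Finite.one_lt_card
  have hr1 : r = Nat.card F + 1 := by
    refine Nat.eq_of_mul_eq_mul_left (show 0 < Nat.card F - 1 by omega) ?_
    obtain ⟨c, hc⟩ : ∃ c, Nat.card F = c + 1 := ⟨Nat.card F - 1, by omega⟩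
    rw [hU, hc] at hUr
    rw [hc, Nat.add_sub_cancel] at *
    nlinarith
  have hSU : ∀ a : F, a ≠ 0 → ∑ u, ψ (a * d.quad u) = -(2 : ℤ) ^ (n : ℕ) := by
    intro a ha
    have h1 : ∑ u, ψ (a * d.quad u) =
        ∑ x, ((Finset.univ.filter fun u : P ⧸ center P => d.quad u = x).card : ℤ) * ψ (a * x) := by
      rw [← Finset.sum_fiberwise (s := Finset.univ) (g := d.quad)]
      refine Finset.sum_congr rfl fun x _ => ?_
      rw [Finset.sum_congr rfl (fun u hu => by rw [(Finset.mem_filter.1 hu).2]), Finset.sum_const, nsmul_eq_mul]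
    have hx : ∀ x : F, ((Finset.univ.filter fun u : P ⧸ center P => d.quad u = x).card : ℤ) * ψ (a * x) =
        (r : ℤ) * ψ (a * x) - if x = 0 then ((r : ℤ) - 1) else 0 := by
      intro x
      by_cases hx : x = 0
      · subst hx
        have h0 : (Finset.univ.filter fun u : P ⧸ center P => d.quad u = 0) = {1} := by
          ext u
          simp only [Finset.mem_filter, Finset.mem_univ, true_and, Finset.mem_singleton]
          refine ⟨d.quad_eq_zero, ?_⟩
          rintro rfl
          exact quad_one d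
        simp [h0, hψ0]
      · rw [if_neg hx, sub_zero, ← Fintype.card_subtype, ← Nat.card_eq_fintype_card, hr x hx]
    rw [h1, Finset.sum_congr rfl fun x _ => hx x, Finset.sum_sub_distrib, ← Finset.mul_sum,
      Finset.sum_congr rfl (fun x _ => by rw [mul_comm a x]), hchar a ha, Finset.sum_ite_eq' Finset.univ,
      if_pos (Finset.mem_univ _), hr1, hn']
    push_cast; ring
  -- sums over the factors
  let SF : F → ℤ := fun a => ∑ f : τ.ker, ψ (a * d.quad f)
  let SW : F → ℤ := fun a => ∑ w : τ.range, ψ (a * d.quad w)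
  have hprod : ∀ a, ∑ u, ψ (a * d.quad u) = SF a * SW a := by
    intro a
    rw [← Equiv.sum_comp (Equiv.ofBijective mul2 hbij), Fintype.sum_prod_type, Finset.sum_mul_sum]
    refine Finset.sum_congr rfl fun f _ => Finset.sum_congr rfl fun w _ => ?_
    show ψ (a * d.quad ((f : P ⧸ center P) * w)) = _
    rw [horth _ f.2 _ w.2, mul_add, hψ]
  have hdvd : ∀ (H : Subgroup (P ⧸ center P)) (a : F),
      (Nat.card H : ℤ) ∣ (∑ h : H, ψ (a * d.quad h)) * ∑ h : H, ψ (a * d.quad h) := by
    intro H a
    rw [Nat.card_eq_fintype_card]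
    refine card_dvd_sq_sum _ (fun h => hψ1 _) fun h u v => ?_
    simp only [← hψ, ← mul_add, Subgroup.coe_mul]
    congr 2
    have h1 := d.polar_add (u : P ⧸ center P) v h
    linear_combination h1 - CharTwo.add_self_eq_zero (d.quad ((u : P ⧸ center P) * h)) -
      CharTwo.add_self_eq_zero (d.quad ((v : P ⧸ center P) * h)) - CharTwo.add_self_eq_zero (d.quad (u : P ⧸ center P)) -
      CharTwo.add_self_eq_zero (d.quad (v : P ⧸ center P)) - CharTwo.add_self_eq_zero (d.quad (h : P ⧸ center P))
  have hFW : (Nat.card τ.ker : ℤ) * Nat.card τ.range = (2 : ℤ) ^ (n : ℕ) * 2 ^ (n : ℕ) := by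
    rw [← Nat.cast_mul, hcardFW, hU, hn']
    push_cast; ring
  have hFpos : (0 : ℤ) < Nat.card τ.ker := by exact_mod_cast Nat.card_pos
  have hWpos : (0 : ℤ) < Nat.card τ.range := by exact_mod_cast Nat.card_pos
  have hdF : ∀ a, (Nat.card τ.ker : ℤ) ∣ SF a * SF a := fun a => by
    convert hdvd τ.ker a
  have hdW : ∀ a, (Nat.card τ.range : ℤ) ∣ SW a * SW a := fun a => by
    convert hdvd τ.range a
  have hSF : ∀ a : F, a ≠ 0 → SF a * SF a = Nat.card τ.ker := by
    intro a ha
    obtain ⟨k, hk⟩ := hdF a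
    obtain ⟨k', hk'⟩ := hdW a
    have h : SF a * SW a = -(2 : ℤ) ^ (n : ℕ) := (hprod a).symm.trans (hSU a ha)
    clear_value SF SW
    generalize SF a = x at h hk ⊢
    generalize SW a = y at h hk'
    generalize (Nat.card τ.ker : ℤ) = K at hk hFW hFpos ⊢
    generalize (Nat.card τ.range : ℤ) = W at hk' hFW hWpos
    generalize (2 : ℤ) ^ (n : ℕ) = N at h hFW
    have hkk : k * k' = 1 := by
      refine mul_left_cancel₀ (mul_ne_zero hFpos.ne' hWpos.ne') ?_
      linear_combination (-(y * y)) * hk - K * k * hk' + (x * y - N) * h - hFW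
    rcases Int.eq_one_or_neg_one_of_mul_eq_one hkk with rfl | rfl
    · rw [hk, mul_one]
    · nlinarith [mul_self_nonneg x]
  -- sizes
  obtain ⟨b, -, hb⟩ : ∃ b ≤ (n : ℕ) + n, Nat.card τ.ker = 2 ^ b := (Nat.dvd_prime_pow Nat.prime_two).1
    ⟨Nat.card τ.range, by rw [hcardFW, hU, hn', ← pow_mul, mul_two]⟩
  have hb0 : b ≠ 0 := by
    rintro rfl
    haveI : Subsingleton τ.ker := (Nat.card_eq_one_iff_unique.1 (hb.trans (pow_zero 2))).1
    have hmem : (p₀ : P ⧸ center P) ∈ τ.ker := hker.2 (QuotientGroup.eq.2 hfix₀).symm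
    exact hp₀ ((QuotientGroup.eq_one_iff p₀).1 (congrArg Subtype.val (Subsingleton.elim (⟨_, hmem⟩ : τ.ker) 1)))
  have hb2 : b ≠ n + n := by
    intro hbe
    have : τ.ker = ⊤ := Subgroup.eq_top_of_card_eq _ (by rw [hb, hU, hn', hbe, ← pow_mul, mul_two])
    exact hcon (QuotientGroup.eq.1 (hker.1 (this ▸ mem_top (p : P ⧸ center P))).symm)
  -- parity
  obtain ⟨a₀, ha₀⟩ : ∃ a : F, a ≠ 0 := exists_ne 0
  set t := (SF a₀).natAbs
  have htt : t * t = 2 ^ b := by
    have : ((t * t : ℕ) : ℤ) = ((2 ^ b : ℕ) : ℤ) := by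
      rw [← hb, ← hSF a₀ ha₀, ← Int.natAbs_mul_self]
    exact_mod_cast this
  obtain ⟨c, -, hc⟩ := (Nat.dvd_prime_pow Nat.prime_two).1 (Dvd.intro t htt : t ∣ 2 ^ b)
  rw [hc, ← pow_add] at htt
  have hbc : c + c = b := Nat.pow_right_injective le_rfl htt
  have hcn : c + 1 ≤ n := by
    have : b ≤ n + n := by
      have h := Nat.le_of_dvd Nat.card_pos (Subgroup.card_subgroup_dvd_card τ.ker)
      rw [hb, hU, hn', ← pow_mul] at h
      have := (Nat.pow_le_pow_iff_right (le_refl 2)).1 h
      omega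
    omega
  have hmod : ∀ a : F, a ≠ 0 → (2 : ℤ) ^ (c + 1) ∣ SF a - 2 ^ c := by
    intro a ha
    have : SF a * SF a = (2 : ℤ) ^ c * 2 ^ c := by
      rw [hSF a ha, hb, ← pow_add, hbc]; push_cast; rfl
    rcases mul_self_eq_mul_self_iff.1 this with h | h
    · rw [h, sub_self]; exact dvd_zero _
    · rw [h, pow_succ]; exact ⟨-1, by ring⟩
  have hsum : ∑ a, SF a = (2 : ℤ) ^ (n : ℕ) := by
    simp only [SF]
    rw [Finset.sum_comm, Finset.sum_eq_single (1 : τ.ker)]
    · simp only [OneMemClass.coe_one, quad_one, mul_zero, hψ0, Finset.sum_const, Finset.card_univ,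
        ← Nat.card_eq_fintype_card, hn']
      simp
    · exact fun u _ hu => hchar _ fun h => hu (Subtype.ext (d.quad_eq_zero h))
    · intro h; exact absurd (Finset.mem_univ _) h
  have h0 : SF 0 = (2 : ℤ) ^ b := by
    simp only [SF, zero_mul, hψ0, Finset.sum_const, Finset.card_univ, ← Nat.card_eq_fintype_card, hb]
    simp
  have hd : (2 : ℤ) ^ (c + 1) ∣ ∑ a ∈ Finset.univ.erase (0 : F), (SF a - 2 ^ c) :=
    Finset.dvd_sum fun a ha => hmod a (Finset.ne_of_mem_erase ha)
  rw [Finset.sum_sub_distrib, Finset.sum_erase_eq_sub (Finset.mem_univ _), hsum, h0, Finset.sum_const,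
    Finset.card_erase_of_mem (Finset.mem_univ _), Finset.card_univ, hn, nsmul_eq_mul,
    Nat.cast_sub Nat.one_le_two_pow] at hd
  push_cast at hd
  have h2 : (2 : ℤ) ^ (c + 1) ∣ 2 ^ c := by
    obtain ⟨e1, he1⟩ : (2 : ℤ) ^ (c + 1) ∣ 2 ^ (n : ℕ) := pow_dvd_pow 2 hcn
    obtain ⟨e2, he2⟩ : (2 : ℤ) ^ (c + 1) ∣ 2 ^ b := pow_dvd_pow 2 (by omega)
    obtain ⟨e3, he3⟩ := hd
    exact ⟨e3 - e1 + e2 + e1 * 2 ^ c, by linear_combination he3 - he1 + he2 + (2 : ℤ) ^ c * he1⟩
  have : (2 : ℕ) ^ (c + 1) ∣ 2 ^ c := by exact_mod_cast h2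
  rw [Nat.pow_dvd_pow_iff_le_right (by norm_num)] at this
  omega

end Cfsg.Agent.Pyramidal
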