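import Cfsg.Agent.Lib.Pyramidal.Reduce
import Cfsg.Agent.Lib.Pyramidal.Quad
import Cfsg.Agent.Lib.AbelianSylowTwo.SolvCent
import Cfsg.Agent.Lib.Involution.StronglyEmbedded

/-!
# The centraliser of the subgroup of involutions

For `Pyr E` the centraliser `D` of `E` has a normal Sylow 2-subgroup `T`, with `D = T` when `T` is abelian
or of order `|E|²`; in particular `D` is solvable.

* `Pyr.exists_suz`, `Pyr.commute_of_small`, `Pyr.semiregular`
* `Pyr.exists_kernel`, `Pyr.isSolvable_centralizer`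
-/

set_option autoImplicit false
set_option linter.style.haveILetI false
set_option linter.unusedSectionVars false
set_option maxHeartbeats 800000

namespace Cfsg.Agent.Pyramidal

open Subgroup SuzukiTwo

universe u

variable {G : Type u} [Group G] [Finite G]

/-- An element lies in a subgroup as soon as its 2-part and its odd part do. -/
theorem mem_of_two_odd (H : Subgroup G) (x : G)
    (h2 : ∀ y ∈ zpowers x, (∃ a : ℕ, y ^ 2 ^ a = 1) → y ∈ H)
    (hodd : ∀ y ∈ zpowers x, Odd (orderOf y) → y ∈ H) : x ∈ H := by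
  obtain ⟨a, m, hm, he⟩ := Nat.exists_eq_two_pow_mul_odd (orderOf_pos x).ne'
  have h1 : x ^ m ∈ H := h2 _ (pow_mem (mem_zpowers x) m)
    ⟨a, by rw [← pow_mul, mul_comm, ← he, pow_orderOf_eq_one]⟩
  have h2' : x ^ 2 ^ a ∈ H := by
    refine hodd _ (pow_mem (mem_zpowers x) _) (hm.of_dvd_nat (orderOf_dvd_of_pow_eq_one ?_))
    rw [← pow_mul, ← he, pow_orderOf_eq_one]
  have hg := Nat.gcd_eq_gcd_ab m (2 ^ a)
  rw [((Nat.coprime_two_right.2 hm).pow_right a).gcd_eq_one] at hg
  rw [show x = (x ^ m) ^ Nat.gcdA m (2 ^ a) * (x ^ 2 ^ a) ^ Nat.gcdB m (2 ^ a) by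
    rw [← zpow_natCast x m, ← zpow_natCast x (2 ^ a), ← zpow_mul, ← zpow_mul, ← zpow_add, ← hg,
      Nat.cast_one, zpow_one]]
  exact mul_mem (zpow_mem h1 _) (zpow_mem h2' _)

/-- An odd element of an image is a power of the image of an odd element. -/
theorem exists_odd_lift {H : Type*} [Group H] (f : G →* H) (x : G) (hx : Odd (orderOf (f x))) :
    ∃ y ∈ zpowers x, Odd (orderOf y) ∧ f x ∈ zpowers (f y) := by
  obtain ⟨a, m, hm, he⟩ := Nat.exists_eq_two_pow_mul_odd (orderOf_pos x).ne'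
  refine ⟨x ^ 2 ^ a, pow_mem (mem_zpowers x) _, hm.of_dvd_nat (orderOf_dvd_of_pow_eq_one
    (by rw [← pow_mul, ← he, pow_orderOf_eq_one])), ?_⟩
  have hco : Nat.Coprime (2 ^ a) (orderOf (f x)) := (Nat.coprime_two_left.2 hx).pow_left a
  have hg := Nat.gcd_eq_gcd_ab (2 ^ a) (orderOf (f x))
  rw [hco.gcd_eq_one] at hg
  refine mem_zpowers_iff.2 ⟨Nat.gcdA (2 ^ a) (orderOf (f x)), ?_⟩
  rw [map_pow, ← zpow_natCast, ← zpow_mul]
  conv_rhs => rw [← zpow_one (f x), ← Nat.cast_one, hg, zpow_add, zpow_mul (f x) (orderOf (f x) : ℤ),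
    zpow_natCast (f x) (orderOf (f x)), pow_orderOf_eq_one, one_zpow, mul_one]

/-- An element of odd order that shifts `y` by a fixed involution fixes `y`. -/
theorem fix_of_step {g y z : G} (hg : Odd (orderOf g)) (hz : z * z = 1) (hgz : Commute g z)
    (h : g * y * g⁻¹ = z * y) : Commute g y := by
  have key : ∀ j : ℕ, g ^ j * y * (g ^ j)⁻¹ = z ^ j * y := by
    intro j
    induction j with
    | zero => simp
    | succ j ih =>
      calc g ^ (j + 1) * y * (g ^ (j + 1))⁻¹ = g * (g ^ j * y * (g ^ j)⁻¹) * g⁻¹ := by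
            rw [pow_succ']; group
        _ = g * z ^ j * g⁻¹ * (g * y * g⁻¹) := by rw [ih]; group
        _ = z ^ j * (z * y) := by rw [(hgz.pow_right j).eq, mul_inv_cancel_right, h]
        _ = _ := by rw [← mul_assoc, ← pow_succ]
  have h1 := key (orderOf g)
  rw [pow_orderOf_eq_one, inv_one, one_mul, mul_one, eq_comm, mul_eq_right] at h1
  obtain ⟨c, hc⟩ := hg
  rw [hc, pow_succ, pow_mul, pow_two, hz, one_pow, one_mul] at h1
  rw [h1, one_mul] at h
  exact mul_inv_eq_iff_eq_mul.1 h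

/-- An element of odd order that fixes the involutions of an abelian 2-group fixes the group. -/
theorem commute_of_fix_omega {T : Subgroup G} (hT : IsPGroup 2 T) (hc : ∀ a ∈ T, ∀ b ∈ T, Commute a b)
    {g : G} (hg : Odd (orderOf g)) (hgT : g ∈ normalizer (T : Set G))
    (hfix : ∀ y ∈ T, y * y = 1 → Commute g y) {y : G} (hy : y ∈ T) : Commute g y := by
  suffices key : ∀ a : ℕ, ∀ y ∈ T, y ^ 2 ^ a = 1 → Commute g y by
    obtain ⟨a, ha⟩ := hT ⟨y, hy⟩
    exact key a y hy (congrArg Subtype.val ha)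
  intro a
  induction a with
  | zero => intro y _ h; rw [pow_zero, pow_one] at h; rw [h]; exact Commute.one_right g
  | succ a ih =>
    intro y hy h
    have h2 : Commute g (y * y) := ih _ (mul_mem hy hy) (by rw [← pow_two, ← pow_mul, ← pow_succ']; exact h)
    have hgy : g * y * g⁻¹ ∈ T := (mem_normalizer_iff.1 hgT y).1 hy
    set z := g * y * g⁻¹ * y⁻¹
    have hzT : z ∈ T := mul_mem hgy (inv_mem hy)
    have hz : z * z = 1 := by
      show g * y * g⁻¹ * y⁻¹ * (g * y * g⁻¹ * y⁻¹) = 1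
      rw [show g * y * g⁻¹ * y⁻¹ * (g * y * g⁻¹ * y⁻¹) = g * y * g⁻¹ * (y⁻¹ * (g * y * g⁻¹)) * y⁻¹ by group,
        (hc _ (inv_mem hy) _ hgy).eq,
        show g * y * g⁻¹ * (g * y * g⁻¹ * y⁻¹) * y⁻¹ = g * (y * y) * g⁻¹ * (y * y)⁻¹ by group,
        h2.eq, mul_inv_cancel_right, mul_inv_cancel]
    exact fix_of_step hg hz (hfix z hzT hz) (by show _ = g * y * g⁻¹ * y⁻¹ * y; group)

/-- Burnside's hypothesis from the action of the elements of odd order. -/
theorem burnside_hyp (P : Sylow 2 G) (hc : ∀ a ∈ (P : Subgroup G), ∀ b ∈ (P : Subgroup G), Commute a b)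
    (h : ∀ g ∈ normalizer ((P : Subgroup G) : Set G), Odd (orderOf g) → ∀ y ∈ (P : Subgroup G), Commute g y) :
    normalizer ((P : Subgroup G) : Set G) ≤ centralizer ((P : Subgroup G) : Set G) := by
  intro g hg
  have hsub : zpowers g ≤ normalizer ((P : Subgroup G) : Set G) := zpowers_le.2 hg
  refine mem_of_two_odd _ g (fun y hy ⟨a, ha⟩ => ?_) fun y hy hodd => ?_
  · have hyP : y ∈ (P : Subgroup G) := by
      have h2 : IsPGroup 2 (zpowers y) := by
        rintro ⟨w, hw⟩
        obtain ⟨k, rfl⟩ := mem_zpowers_iff.1 hw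
        exact ⟨a, Subtype.ext (by
          show (y ^ k) ^ 2 ^ a = 1
          rw [← zpow_natCast, zpow_comm, zpow_natCast, ha, one_zpow])⟩
      have := P.is_maximal' (h2.to_sup_of_normal_right' P.2 (zpowers_le.2 (hsub hy))) le_sup_right
      exact this ▸ mem_sup_left (mem_zpowers y)
    exact mem_centralizer_iff.2 fun w hw => (hc w hw y hyP).eq
  · exact mem_centralizer_iff.2 fun w hw => (h y (hsub hy) hodd w hw).eq.symm

/-- A group with trivial odd core and Burnside's hypothesis is its Sylow 2-subgroup. -/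
theorem top_of_burnside (hO : Cfsg.oddCore G = ⊥) (P : Sylow 2 G)
    (hP : normalizer ((P : Subgroup G) : Set G) ≤ centralizer ((P : Subgroup G) : Set G)) :
    (P : Subgroup G) = ⊤ := by
  haveI : Fact (Nat.Prime 2) := ⟨Nat.prime_two⟩
  set K := (MonoidHom.transferSylow P hP).ker
  have hKodd : Nat.Coprime (Nat.card K) 2 :=
    ((Nat.prime_two.coprime_iff_not_dvd).2 (MonoidHom.not_dvd_card_ker_transferSylow P hP)).symm
  have hK : K = ⊥ := le_bot_iff.1 (hO ▸ Cores.le_pPrimeCore (MonoidHom.normal_ker _) hKodd)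
  have := (MonoidHom.ker_transferSylow_isComplement' P hP).card_mul
  rw [show (MonoidHom.transferSylow P hP).ker = ⊥ from hK, Subgroup.card_bot, one_mul] at this
  exact Subgroup.eq_top_of_card_eq _ this

/-- A group with Burnside's hypothesis is solvable. -/
theorem isSolvable_of_burnside (P : Sylow 2 G)
    (hP : normalizer ((P : Subgroup G) : Set G) ≤ centralizer ((P : Subgroup G) : Set G)) :
    Group.IsSolvable G := by
  haveI : Fact (Nat.Prime 2) := ⟨Nat.prime_two⟩
  haveI : IsMulCommutative (P : Subgroup G) :=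
    ⟨⟨fun a b => Subtype.ext (mem_centralizer_iff.1 (hP (le_normalizer b.2)) a a.2)⟩⟩
  haveI : Group.IsSolvable (MonoidHom.transferSylow P hP).ker :=
    OddOrderTheorem.solvable (Nat.coprime_two_right.1
      ((Nat.prime_two.coprime_iff_not_dvd).2 (MonoidHom.not_dvd_card_ker_transferSylow P hP)).symm)
  haveI : Group.IsSolvable (P : Subgroup G) := Group.isSolvable_of_comm fun a b => mul_comm' a b
  exact Group.isSolvable_of_ker_le_range (MonoidHom.transferSylow P hP).ker.subtype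
    (MonoidHom.transferSylow P hP) (by rw [range_subtype])

/-- The odd core stays trivial modulo a central 2-subgroup. -/
theorem oddCore_quotient_eq_bot (hO : Cfsg.oddCore G = ⊥) (N : Subgroup G) [N.Normal] (hN : IsPGroup 2 N)
    (hNc : ∀ g : G, ∀ n ∈ N, Commute n g) : Cfsg.oddCore (G ⧸ N) = ⊥ := by
  haveI : Fact (Nat.Prime 2) := ⟨Nat.prime_two⟩
  set π := QuotientGroup.mk' N
  have hπ : Function.Surjective π := QuotientGroup.mk'_surjective _
  haveI : (Cfsg.oddCore (G ⧸ N)).Normal := Cores.pPrimeCore_normal 2 _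
  set K := (Cfsg.oddCore (G ⧸ N)).comap π with hKdef
  have hK : Cfsg.oddCore K = ⊥ := by
    refine (map_eq_bot_iff_of_injective _ K.subtype_injective).1 ?_
    haveI := Cores.map_subtype_normal_of_characteristic K (Cfsg.oddCore K)
    refine le_bot_iff.1 (hO ▸ Cores.le_pPrimeCore this ?_)
    rw [card_map_of_injective K.subtype_injective]
    exact Cores.coprime_card_pPrimeCore 2
  have hidx : ¬ 2 ∣ (N.subgroupOf K).index := by
    have h1 : π.ker.relIndex K = Nat.card (Cfsg.oddCore (G ⧸ N)) := by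
      rw [← MonoidHom.comap_bot, relIndex_comap, hKdef, map_comap_eq_self_of_surjective hπ, relIndex_bot_left]
    rw [QuotientGroup.ker_mk'] at h1
    rw [← Subgroup.relIndex, h1]
    exact fun h2 => Nat.not_even_iff_odd.2 (Nat.coprime_two_right.1
      (Cores.coprime_card_pPrimeCore (G := G ⧸ N) 2)) (even_iff_two_dvd.2 h2)
  let P : Sylow 2 K := (hN.comap_of_injective _ K.subtype_injective).toSylow hidx
  have hP := top_of_burnside hK P (fun g _ => mem_centralizer_iff.2 fun w hw =>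
    Subtype.ext (hNc (g : G) (w : G) hw).eq)
  refine le_bot_iff.1 fun y hy => ?_
  obtain ⟨x, rfl⟩ := hπ y
  have hxP : (⟨x, hy⟩ : K) ∈ (P : Subgroup K) := hP ▸ mem_top _
  exact mem_bot.2 ((QuotientGroup.eq_one_iff x).2 hxP)

variable {E : Subgroup G}

theorem Pyr.le_centralizer (h : Pyr E) : E ≤ centralizer (E : Set G) := fun x hx =>
  mem_centralizer_iff.2 fun _ hy => (h.comm hy hx).eq

theorem Pyr.isPGroup (h : Pyr E) : IsPGroup 2 E := fun x => ⟨1, Subtype.ext (by
  show ((x : G)) ^ 2 ^ 1 = 1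
  rw [pow_one, pow_two]; exact h.sq x x.2)⟩

theorem Pyr.exists_card (h : Pyr E) : ∃ r : ℕ, r.Prime ∧ Nat.card E = 2 ^ r ∧ (2 ^ r - 1).Prime := by
  haveI : Fact (Nat.Prime 2) := ⟨Nat.prime_two⟩
  obtain ⟨r, hr⟩ := IsPGroup.iff_card.1 h.isPGroup
  have hp := h.prime
  rw [hr] at hp
  have hr1 : r ≠ 1 := by rintro rfl; exact Nat.not_prime_one hp
  exact ⟨r, (Nat.prime_of_pow_sub_one_prime hr1 hp).2, hr, hp⟩

theorem Pyr.three_le (h : Pyr E) : 3 ≤ Nat.card E := by
  have := h.prime.two_le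
  omega

theorem Pyr.centralizer_normal (h : Pyr E) : (centralizer (E : Set G)).Normal := by
  haveI := h.normal
  exact Subgroup.normal_centralizer

theorem Pyr.oddCore_eq_bot (h : Pyr E) (K : Subgroup G) [K.Normal] : Cfsg.oddCore K = ⊥ := by
  refine (map_eq_bot_iff_of_injective _ K.subtype_injective).1 ?_
  haveI := Cores.map_subtype_normal_of_characteristic K (Cfsg.oddCore K)
  refine le_bot_iff.1 (h.odd ▸ Cores.le_pPrimeCore this ?_)
  rw [card_map_of_injective K.subtype_injective]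
  exact Cores.coprime_card_pPrimeCore 2

/-- A Suzuki structure on a non-abelian 2-subgroup whose normaliser induces all of the action on `E`. -/
theorem Pyr.exists_suz (h : Pyr E) {T : Subgroup G} (hET : E ≤ T) (hT : IsPGroup 2 T)
    (hna : ¬ ∀ a ∈ T, ∀ b ∈ T, Commute a b)
    (hfr : ∀ g : G, ∃ n ∈ normalizer (T : Set G), ∀ x ∈ E, g * x * g⁻¹ = n * x * n⁻¹) :
    ∃ (F : Type) (_ : Field F) (_ : Fintype F) (_ : CharP F 2) (_ : SuzData T F),
      center T = E.subgroupOf T ∧ (Nat.card T = Nat.card E ^ 2 ∨ Nat.card T = Nat.card E ^ 3) := by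
  classical
  haveI := h.normal
  haveI : Fact (Nat.card E - 1).Prime := ⟨h.prime⟩
  let Pt := {x : E // x ≠ 1}
  let f : normalizer (T : Set G) →* Equiv.Perm Pt :=
    { toFun := fun n =>
        { toFun := fun x => ⟨MulAut.conjNormal (n : G) x.1, fun e => x.2 (by simpa using e)⟩
          invFun := fun x => ⟨MulAut.conjNormal (n : G)⁻¹ x.1, fun e => x.2 (by simpa using e)⟩
          left_inv := fun x => Subtype.ext (by simp)
          right_inv := fun x => Subtype.ext (by simp) }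
      map_one' := Equiv.ext fun x => Subtype.ext (by simp)
      map_mul' := fun a b => Equiv.ext fun x => Subtype.ext (by simp) }
  have hPt : Nat.card Pt = Nat.card E - 1 := by
    letI := Fintype.ofFinite E
    rw [Nat.card_eq_fintype_card, Nat.card_eq_fintype_card, Fintype.card_subtype_compl,
      Fintype.card_subtype_eq]
  have htrans : ∀ a b : Pt, ∃ n, f n a = b := by
    intro a b
    obtain ⟨g, hg⟩ := h.trans a.1 a.1.2 b.1 b.1.2 (fun e => a.2 (Subtype.ext e))
      (fun e => b.2 (Subtype.ext e))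
    obtain ⟨n, hn, hn'⟩ := hfr g
    refine ⟨⟨n, hn⟩, Subtype.ext (Subtype.ext ?_)⟩
    show n * (a.1 : G) * n⁻¹ = _
    rw [← hn' _ a.1.2, hg]
  -- a cycle through all points
  obtain ⟨σ, hσf, hσ⟩ : ∃ σ ∈ f.range, orderOf σ = Nat.card E - 1 := by
    haveI : MulAction.IsPretransitive f.range Pt :=
      ⟨fun a b => by obtain ⟨n, hn⟩ := htrans a b; exact ⟨⟨f n, n, rfl⟩, hn⟩⟩
    haveI : Nonempty Pt := (Nat.card_pos_iff.1 (hPt ▸ h.prime.pos)).1
    obtain ⟨a⟩ := (inferInstance : Nonempty Pt)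
    have hdvd : Nat.card E - 1 ∣ Nat.card f.range := by
      rw [← hPt, ← MulAction.index_stabilizer_of_transitive f.range a]
      exact Subgroup.index_dvd_card _
    obtain ⟨σ, hσ⟩ := exists_prime_orderOf_dvd_card' (Nat.card E - 1) hdvd
    exact ⟨σ, σ.2, by rw [Subgroup.orderOf_coe, hσ]⟩
  obtain ⟨n₀, rfl⟩ := hσf
  letI := Fintype.ofFinite Pt
  have hcyc : (f n₀).IsCycle := Equiv.Perm.isCycle_of_prime_order'' (by
    rw [← Nat.card_eq_fintype_card, hPt]; exact h.prime) (by rw [hσ, ← Nat.card_eq_fintype_card, hPt])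
  have hsupp : (f n₀).support = Finset.univ := Finset.eq_univ_of_card _ (by
    rw [← hcyc.orderOf, hσ, ← Nat.card_eq_fintype_card, hPt])
  have hpow : ∀ a b : Pt, ∃ j : ℕ, (f (n₀ ^ j)) a = b := fun a b => by
    obtain ⟨j, hj⟩ := hcyc.exists_pow_eq (Equiv.Perm.mem_support.1 (hsupp ▸ Finset.mem_univ a))
      (Equiv.Perm.mem_support.1 (hsupp ▸ Finset.mem_univ b))
    exact ⟨j, by rw [map_pow]; exact hj⟩
  -- two involutions
  obtain ⟨a, b, hab⟩ : ∃ a b : Pt, a ≠ b := by
    by_contra hc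
    push Not at hc
    haveI : Subsingleton Pt := ⟨hc⟩
    have := Finite.card_le_one_iff_subsingleton.2 this
    have := h.prime.two_le
    omega
  have hmem : ∀ x : T, x * x = 1 → (x : G) ∈ E := fun x hx => h.mem _ (congrArg Subtype.val hx)
  obtain ⟨F, _, _, _, ⟨d⟩⟩ := exists_suzData_of_transitive hT
    (by
      by_contra hc
      push Not at hc
      exact hna fun a ha b hb => congrArg Subtype.val (hc ⟨a, ha⟩ ⟨b, hb⟩))
    (T.normalizerMonoidHom n₀) (u := ⟨a.1, hET a.1.2⟩) (u' := ⟨b.1, hET b.1.2⟩)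
    (fun e => hab (Subtype.ext (Subtype.ext (congrArg Subtype.val e :))))
    (fun e => a.2 (Subtype.ext (congrArg Subtype.val e :))) (Subtype.ext (h.sq _ a.1.2))
    (fun e => b.2 (Subtype.ext (congrArg Subtype.val e :))) (Subtype.ext (h.sq _ b.1.2))
    (fun x y hx1 hx hy1 hy => by
      obtain ⟨j, hj⟩ := hpow ⟨⟨x, hmem x hx⟩, fun e => hx1 (Subtype.ext (congrArg Subtype.val e :))⟩
        ⟨⟨y, hmem y hy⟩, fun e => hy1 (Subtype.ext (congrArg Subtype.val e :))⟩
      refine ⟨j, Subtype.ext ?_⟩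
      rw [← map_pow]
      exact congrArg (fun z : Pt => ((z.1 : E) : G)) hj)
  have hV : center T = E.subgroupOf T := by
    rw [d.center_eq_V]
    ext x
    exact ⟨hmem x, fun hx => Subtype.ext (h.sq _ hx)⟩
  refine ⟨F, inferInstance, inferInstance, inferInstance, d, hV, ?_⟩
  have hZ : Nat.card (center T) = Nat.card E := by
    rw [hV]
    exact Nat.card_congr (Subgroup.subgroupOfEquivOfLe hET).toEquiv
  rw [← hZ]
  exact d.card_eq

/-- In the small case the elements of odd order in `C(E)` centralise `T`. -/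
theorem Pyr.commute_of_small (h : Pyr E) {T : Subgroup G} (hET : E ≤ T) (hT : IsPGroup 2 T)
    (hna : ¬ ∀ a ∈ T, ∀ b ∈ T, Commute a b)
    (hfr : ∀ g : G, ∃ n ∈ normalizer (T : Set G), ∀ x ∈ E, g * x * g⁻¹ = n * x * n⁻¹)
    (hcard : Nat.card T = Nat.card E ^ 2) {x : G} (hxT : x ∈ normalizer (T : Set G))
    (hxD : x ∈ centralizer (E : Set G)) (hodd : Odd (orderOf x)) {t : G} (ht : t ∈ T) : Commute x t := by
  obtain ⟨F, _, _, _, d, hV, -⟩ := h.exists_suz hET hT hna hfr
  have hxE : ∀ e ∈ E, Commute x e := fun e he => (mem_centralizer_iff.1 hxD e he).symm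
  have hZ : Nat.card (center T) = Nat.card E := by
    rw [hV]
    exact Nat.card_congr (Subgroup.subgroupOfEquivOfLe hET).toEquiv
  have hfix : ∀ v : T, v * v = 1 → T.normalizerMonoidHom ⟨x, hxT⟩ v = v := fun v hv => Subtype.ext (by
    show x * (v : G) * x⁻¹ = v
    rw [(hxE _ (h.mem _ (congrArg Subtype.val hv))).eq, mul_inv_cancel_right])
  have hz := aut_trivial_of_small d (hZ ▸ hcard) _ hfix ⟨t, ht⟩
  rw [hV, Subgroup.mem_subgroupOf] at hz
  have hzE : t⁻¹ * (x * t * x⁻¹) ∈ E := hz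
  refine fix_of_step hodd (h.sq _ hzE) (hxE _ hzE) ?_
  have : Commute t (t⁻¹ * (x * t * x⁻¹)) := by
    have hzc : (⟨_, hET hzE⟩ : T) ∈ center T := by rw [hV]; exact hzE
    exact congrArg Subtype.val (Subgroup.mem_center_iff.1 hzc ⟨t, ht⟩)
  rw [← this.eq]
  group

/-- In the large case an element of odd order in `C(E)` that fixes an element of `T ∖ E` modulo `E`
centralises `T`. -/
theorem Pyr.semiregular (h : Pyr E) {T : Subgroup G} (hET : E ≤ T) (hT : IsPGroup 2 T)
    (hna : ¬ ∀ a ∈ T, ∀ b ∈ T, Commute a b)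
    (hfr : ∀ g : G, ∃ n ∈ normalizer (T : Set G), ∀ x ∈ E, g * x * g⁻¹ = n * x * n⁻¹)
    (hcard : Nat.card T = Nat.card E ^ 3) {x : G} (hxT : x ∈ normalizer (T : Set G))
    (hxD : x ∈ centralizer (E : Set G)) (hodd : Odd (orderOf x)) {t₀ : G} (ht₀ : t₀ ∈ T) (ht₀E : t₀ ∉ E)
    (hfix₀ : t₀⁻¹ * (x * t₀ * x⁻¹) ∈ E) {t : G} (ht : t ∈ T) : Commute x t := by
  obtain ⟨F, _, _, _, d, hV, -⟩ := h.exists_suz hET hT hna hfr
  have hxE : ∀ e ∈ E, Commute x e := fun e he => (mem_centralizer_iff.1 hxD e he).symm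
  have hZ : Nat.card (center T) = Nat.card E := by
    rw [hV]
    exact Nat.card_congr (Subgroup.subgroupOfEquivOfLe hET).toEquiv
  have hfix : ∀ v : T, v * v = 1 → T.normalizerMonoidHom ⟨x, hxT⟩ v = v := fun v hv => Subtype.ext (by
    show x * (v : G) * x⁻¹ = v
    rw [(hxE _ (h.mem _ (congrArg Subtype.val hv))).eq, mul_inv_cancel_right])
  have hpow : T.normalizerMonoidHom ⟨x, hxT⟩ ^ orderOf x = 1 := by
    rw [← map_pow, show (⟨x, hxT⟩ : normalizer (T : Set G)) ^ orderOf x = 1 from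
      Subtype.ext (pow_orderOf_eq_one x), map_one]
  have hz := aut_semiregular d (hZ ▸ hcard) _ hodd hpow hfix (p₀ := ⟨t₀, ht₀⟩)
    (fun e => ht₀E (by rw [hV] at e; exact e)) (by rw [hV]; exact hfix₀) ⟨t, ht⟩
  rw [hV, Subgroup.mem_subgroupOf] at hz
  have hzE : t⁻¹ * (x * t * x⁻¹) ∈ E := hz
  refine fix_of_step hodd (h.sq _ hzE) (hxE _ hzE) ?_
  have : Commute t (t⁻¹ * (x * t * x⁻¹)) := by
    have hzc : (⟨_, hET hzE⟩ : T) ∈ center T := by rw [hV]; exact hzE
    exact congrArg Subtype.val (Subgroup.mem_center_iff.1 hzc ⟨t, ht⟩)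
  rw [← this.eq]
  group

/-- The centraliser of `E` has a normal Sylow 2-subgroup, all of it in the abelian and in the small case. -/
theorem Pyr.exists_kernel (h : Pyr E) : ∃ T : Subgroup G, T.Normal ∧ E ≤ T ∧
    T ≤ centralizer (E : Set G) ∧ IsPGroup 2 T ∧ Odd (T.relIndex (centralizer (E : Set G))) ∧
    ((∀ a ∈ T, ∀ b ∈ T, Commute a b) ∨ Nat.card T = Nat.card E ^ 2 → T = centralizer (E : Set G)) := by
  classical
  haveI : Fact (Nat.Prime 2) := ⟨Nat.prime_two⟩
  haveI := h.normal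
  haveI := h.centralizer_normal
  set D := centralizer (E : Set G)
  have hOD : Cfsg.oddCore D = ⊥ := h.oddCore_eq_bot D
  obtain ⟨TD⟩ : Nonempty (Sylow 2 D) := inferInstance
  set T := (TD : Subgroup D).map D.subtype
  have hTD : T ≤ D := map_subtype_le _
  have hT : IsPGroup 2 T := TD.isPGroup'.map _
  have hE'2 : IsPGroup 2 (E.subgroupOf D) := h.isPGroup.comap_of_injective _ D.subtype_injective
  have hE'T : E.subgroupOf D ≤ (TD : Subgroup D) := hE'2.le_sylow_of_normal TD
  have hET : E ≤ T := fun e he => ⟨⟨e, h.le_centralizer he⟩, hE'T (mem_subgroupOf.2 he), rfl⟩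
  have hfr : ∀ g : G, ∃ n ∈ normalizer (T : Set G), ∀ x ∈ E, g * x * g⁻¹ = n * x * n⁻¹ := by
    intro g
    have hg : g ∈ normalizer (T : Set G) ⊔ D := by rw [Sylow.normalizer_sup_eq_top TD]; exact mem_top g
    obtain ⟨n, hn, d, hd, rfl⟩ := mem_sup_of_normal_right.1 hg
    refine ⟨n, hn, fun x hx => ?_⟩
    calc n * d * x * (n * d)⁻¹ = n * (d * x) * d⁻¹ * n⁻¹ := by group
      _ = n * x * n⁻¹ := by rw [← (mem_centralizer_iff.1 hd x hx)]; group
  have hnorm : ∀ n : D, n ∈ normalizer ((TD : Subgroup D) : Set D) → (n : G) ∈ normalizer (T : Set G) := by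
    intro n hn
    refine Coprime.mem_normalizer_of_forall ?_
    rintro _ ⟨y, hy, rfl⟩
    exact ⟨n * y * n⁻¹, (mem_normalizer_iff.1 hn y).1 hy, rfl⟩
  -- `T` is normal in `G` once it is normal in `D`
  have hTn : (TD : Subgroup D).Normal → T.Normal := fun hn => by
    haveI := Sylow.unique_of_normal TD hn
    haveI : (TD : Subgroup D).Characteristic := Sylow.characteristic_of_normal TD hn
    exact Cores.map_subtype_normal_of_characteristic D _
  have hrel : Odd (T.relIndex D) := by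
    have : T.subgroupOf D = (TD : Subgroup D) := comap_map_eq_self_of_injective D.subtype_injective _
    rw [Subgroup.relIndex, this]
    exact Nat.odd_iff.2 (Nat.two_dvd_ne_zero.1 TD.not_dvd_index)
  have hall : (∀ x : D, x ∈ normalizer ((TD : Subgroup D) : Set D) → Odd (orderOf x) →
      ∀ t ∈ T, Commute (x : G) t) → T = D := by
    intro hodd
    -- Burnside in `D / E`
    have hTDn : (TD : Subgroup D) = ⊤ := by
      by_cases hab : ∀ a ∈ T, ∀ b ∈ T, Commute a b
      · refine top_of_burnside hOD TD (burnside_hyp TD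
          (fun a ha b hb => Subtype.ext (hab a ⟨a, ha, rfl⟩ b ⟨b, hb, rfl⟩).eq)
          fun g hg hgo y hy => Subtype.ext (hodd g hg hgo y ⟨y, hy, rfl⟩).eq)
      haveI : (E.subgroupOf D).Normal := Subgroup.normal_subgroupOf
      set π := QuotientGroup.mk' (E.subgroupOf D)
      have hπ : Function.Surjective π := QuotientGroup.mk'_surjective _
      set Q := TD.mapSurjective hπ
      have hcm : (TD : Subgroup D) = (Q : Subgroup (D ⧸ E.subgroupOf D)).comap π := by
        rw [Sylow.coe_mapSurjective, comap_map_eq, QuotientGroup.ker_mk', sup_eq_left.2 hE'T]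
      obtain ⟨F, _, _, _, d, hV, -⟩ := h.exists_suz hET hT hab hfr
      have hsq : ∀ a ∈ T, a * a ∈ E := fun a ha => h.mem _ (congrArg Subtype.val (d.sq_mem_V ⟨a, ha⟩))
      have hQc : ∀ a ∈ (Q : Subgroup (D ⧸ E.subgroupOf D)), ∀ b ∈ (Q : Subgroup _), Commute a b := by
        intro a ha b hb
        obtain ⟨a, ha', rfl⟩ := ha
        obtain ⟨b, hb', rfl⟩ := hb
        have key : ∀ c ∈ (TD : Subgroup D), (π c)⁻¹ = π c := fun c hc => inv_eq_of_mul_eq_one_left (by
          rw [← map_mul]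
          exact (QuotientGroup.eq_one_iff _).2 (hsq c ⟨c, hc, rfl⟩))
        show π a * π b = π b * π a
        rw [← map_mul π a b, ← key (a * b) (mul_mem ha' hb'), map_mul, mul_inv_rev,
          key a ha', key b hb']
      have hQO : Cfsg.oddCore (D ⧸ E.subgroupOf D) = ⊥ := oddCore_quotient_eq_bot hOD _ hE'2
        fun g n hn => Subtype.ext (mem_centralizer_iff.1 g.2 n hn)
      have hQ := top_of_burnside hQO Q (burnside_hyp Q hQc fun g hg hgo y hy => by
        obtain ⟨n, rfl⟩ := hπ g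
        have hn : n ∈ normalizer ((TD : Subgroup D) : Set D) := mem_normalizer_iff.2 fun y => by
          rw [hcm, mem_comap, mem_comap, map_mul, map_mul, map_inv]
          exact mem_normalizer_iff.1 hg (π y)
        obtain ⟨n', hn', hn'o, hnn'⟩ := exists_odd_lift π n hgo
        obtain ⟨y', hy', rfl⟩ := hy
        have hc : Commute (π n') (π y') := (show Commute n' y' from Subtype.ext
          (hodd n' (zpowers_le.2 hn hn') hn'o y' ⟨y', hy', rfl⟩).eq).map π
        obtain ⟨k, hk⟩ := mem_zpowers_iff.1 hnn'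
        exact hk ▸ hc.zpow_left k)
      rw [hcm, hQ, comap_top]
    show (TD : Subgroup D).map D.subtype = D
    rw [hTDn, ← MonoidHom.range_eq_map, range_subtype]
  by_cases hab : ∀ a ∈ T, ∀ b ∈ T, Commute a b
  · have hTeq : T = D := hall fun x hx hxo t ht =>
      commute_of_fix_omega hT hab (by rwa [Subgroup.orderOf_coe]) (hnorm x hx)
        (fun y hy hy2 => (mem_centralizer_iff.1 x.2 y (h.mem y hy2)).symm) ht
    exact ⟨T, hTeq ▸ h.centralizer_normal, hET, hTD, hT, hrel, fun _ => hTeq⟩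
  obtain ⟨F, _, _, _, d, hV, hcases⟩ := h.exists_suz hET hT hab hfr
  rcases hcases with hsmall | hlarge
  · have hTeq : T = D := hall fun x hx hxo t ht => h.commute_of_small hET hT hab hfr hsmall (hnorm x hx) x.2
      (by rwa [Subgroup.orderOf_coe]) ht
    exact ⟨T, hTeq ▸ h.centralizer_normal, hET, hTD, hT, hrel, fun _ => hTeq⟩
  refine ⟨T, ?_, hET, hTD, hT, hrel, fun hor => absurd hor ?_⟩
  swap
  · rintro (h1 | h1)
    · exact hab h1
    · have := h.three_le
      rw [hlarge] at h1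
      have := Nat.pow_right_injective (show 2 ≤ Nat.card E by omega) h1
      omega
  refine hTn ?_
  -- the large case: `D / E`
  haveI : (E.subgroupOf D).Normal := Subgroup.normal_subgroupOf
  set π := QuotientGroup.mk' (E.subgroupOf D)
  have hπ : Function.Surjective π := QuotientGroup.mk'_surjective _
  set Q := TD.mapSurjective hπ
  have hcm : (TD : Subgroup D) = (Q : Subgroup (D ⧸ E.subgroupOf D)).comap π := by
    rw [Sylow.coe_mapSurjective, comap_map_eq, QuotientGroup.ker_mk', sup_eq_left.2 hE'T]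
  have hsq : ∀ a ∈ T, a * a ∈ E := fun a ha => h.mem _ (congrArg Subtype.val (d.sq_mem_V ⟨a, ha⟩))
  have hQ2 : ∀ a ∈ (Q : Subgroup (D ⧸ E.subgroupOf D)), a * a = 1 := by
    rintro _ ⟨a, ha, rfl⟩
    rw [← map_mul]
    exact (QuotientGroup.eq_one_iff _).2 (hsq a ⟨a, ha, rfl⟩)
  have hQc : ∀ a ∈ (Q : Subgroup (D ⧸ E.subgroupOf D)), ∀ b ∈ (Q : Subgroup _), Commute a b := by
    intro a ha b hb
    have key : ∀ c ∈ (Q : Subgroup (D ⧸ E.subgroupOf D)), c⁻¹ = c := fun c hc =>
      inv_eq_of_mul_eq_one_left (hQ2 c hc)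
    show a * b = b * a
    rw [← key _ (mul_mem ha hb), mul_inv_rev, key a ha, key b hb]
  haveI hQcom : IsMulCommutative (Q : Subgroup (D ⧸ E.subgroupOf D)) :=
    ⟨⟨fun a b => Subtype.ext (hQc a a.2 b b.2)⟩⟩
  have hQcard : Nat.card (Q : Subgroup (D ⧸ E.subgroupOf D)) = Nat.card E ^ 2 := by
    have h1 := (Subgroup.card_map_of_injective (K := (TD : Subgroup D)) D.subtype_injective)
    have h2 : Nat.card (TD : Subgroup D) = Nat.card (Q : Subgroup (D ⧸ E.subgroupOf D)) * Nat.card E := by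
      have e1 : (TD : Subgroup D).index = (Q : Subgroup (D ⧸ E.subgroupOf D)).index := by
        rw [hcm, index_comap_of_surjective _ hπ]
      have e2 := (TD : Subgroup D).card_mul_index
      rw [Subgroup.card_eq_card_quotient_mul_card_subgroup (E.subgroupOf D),
        ← (Q : Subgroup (D ⧸ E.subgroupOf D)).card_mul_index, e1,
        Nat.card_congr (Subgroup.subgroupOfEquivOfLe h.le_centralizer).toEquiv] at e2
      refine Nat.eq_of_mul_eq_mul_right (Nat.pos_of_ne_zero ?_) (e2.trans (Nat.mul_right_comm _ _ _))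
      exact Subgroup.index_ne_zero_of_finite
    rw [show Nat.card T = Nat.card E ^ 3 from hlarge, h2, pow_succ] at h1
    exact (Nat.eq_of_mul_eq_mul_right Nat.card_pos h1).symm
  have hsemi : ∀ t : D ⧸ E.subgroupOf D, t ∈ (Q : Subgroup _) → t ≠ 1 →
      Group.IsSolvable (centralizer ({t} : Set (D ⧸ E.subgroupOf D))) := by
    intro t htQ ht1
    set C := centralizer ({t} : Set (D ⧸ E.subgroupOf D))
    have hQC : (Q : Subgroup (D ⧸ E.subgroupOf D)) ≤ C := fun s hs =>
      mem_centralizer_singleton_iff.2 (hQc s hs t htQ).eq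
    refine isSolvable_of_burnside (Q.subtype hQC) (burnside_hyp (Q.subtype hQC)
      (fun a ha b hb => Subtype.ext (hQc a ha b hb).eq) fun g hg hgo y hy => Subtype.ext ?_)
    obtain ⟨⟨n, hn⟩, hgC⟩ : ∃ n : {n : D // π n = g}, True := ⟨⟨_, (hπ g).choose_spec⟩, trivial⟩
    have hgQ : ∀ w, w ∈ (Q : Subgroup (D ⧸ E.subgroupOf D)) → (g : D ⧸ E.subgroupOf D) * w * (g : D ⧸ _)⁻¹ ∈ (Q : Subgroup _) :=
      fun w hw => (mem_normalizer_iff.1 hg ⟨w, hQC hw⟩).1 hw
    have hgN : (g : D ⧸ E.subgroupOf D) ∈ normalizer ((Q : Subgroup (D ⧸ E.subgroupOf D)) : Set (D ⧸ E.subgroupOf D)) :=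
      Coprime.mem_normalizer_of_forall (H := (Q : Subgroup (D ⧸ E.subgroupOf D))) hgQ
    have hnN : n ∈ normalizer ((TD : Subgroup D) : Set D) := mem_normalizer_iff.2 fun y => by
      rw [hcm, mem_comap, mem_comap, map_mul, map_mul, map_inv, hn]
      exact mem_normalizer_iff.1 hgN (π y)
    obtain ⟨n', hn', hn'o, hnn'⟩ := exists_odd_lift π n (by rw [hn, Subgroup.orderOf_coe]; exact hgo)
    obtain ⟨k, hk⟩ := mem_zpowers_iff.1 hn'
    have hn't : Commute (π n') t := by
      rw [← hk, map_zpow, hn]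
      exact (Involution.mem_centralizer_iff_commute.1 g.2).zpow_left k
    obtain ⟨t', ht', rfl⟩ := htQ
    obtain ⟨y', hy', hyy⟩ := hy
    have hfix : (t' : G)⁻¹ * ((n' : G) * t' * (n' : G)⁻¹) ∈ E := by
      have : π (t'⁻¹ * (n' * t' * n'⁻¹)) = 1 := by
        simp only [map_mul, map_inv]
        rw [hn't.eq, mul_inv_cancel_right, inv_mul_cancel]
      exact mem_subgroupOf.1 ((QuotientGroup.eq_one_iff _).1 this)
    have ht'E : (t' : G) ∉ E := fun e => ht1 ((QuotientGroup.eq_one_iff t').2 e)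
    have hc := h.semiregular hET hT hab hfr hlarge (hnorm n' (zpowers_le.2 hnN hn')) n'.2
      (by rwa [Subgroup.orderOf_coe]) ⟨t', ht', rfl⟩ ht'E hfix ⟨y', hy', rfl⟩
    have hc' : Commute (π n') (π y') := (show Commute n' y' from Subtype.ext hc.eq).map π
    obtain ⟨l, hl⟩ := mem_zpowers_iff.1 hnn'
    show (g : D ⧸ E.subgroupOf D) * y = y * g
    rw [← hn, ← hl, show (y : D ⧸ E.subgroupOf D) = π y' from hyy.symm]
    exact (hc'.zpow_left l).eq
  have hsol : ∀ t : D ⧸ E.subgroupOf D, orderOf t = 2 →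
      Group.IsSolvable (centralizer ({t} : Set (D ⧸ E.subgroupOf D))) := by
    intro t ht
    obtain ⟨S, hS⟩ := (IsPGroup.of_card (n := 1) (by
      rw [Nat.card_zpowers, ht, pow_one]) : IsPGroup 2 (zpowers t)).exists_le_sylow
    obtain ⟨g, hg⟩ := MulAction.exists_smul_eq (D ⧸ E.subgroupOf D) S Q
    have hgt : g * t * g⁻¹ ∈ (Q : Subgroup _) := by
      rw [← hg]
      exact ⟨t, hS (mem_zpowers t), rfl⟩
    haveI := hsemi _ hgt (fun e => Involution.ne_one ht (conj_eq_one_iff.1 e))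
    refine Group.isSolvable_of_isSolvable_injective
      (f := ((MulAut.conj g).toMonoidHom.comp (centralizer ({t} : Set _)).subtype).codRestrict
        (centralizer ({g * t * g⁻¹} : Set _)) fun x => Involution.mem_centralizer_iff_commute.2 ?_) ?_
    · exact (Involution.mem_centralizer_iff_commute.1 x.2).map (MulAut.conj g).toMonoidHom
    · intro a b hab
      exact Subtype.ext ((MulAut.conj g).injective (congrArg Subtype.val hab))
  have hA3 : ¬ Cfsg.PRankLE 2 2 (Q : Subgroup (D ⧸ E.subgroupOf D)) := fun hr => by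
    have h1 := hr ⊤ ⟨⟨fun a b => Subtype.ext (Subtype.ext (hQc _ a.1.2 _ b.1.2))⟩⟩
      (fun a _ => Subtype.ext (by rw [pow_two]; exact hQ2 _ a.2))
    rw [Subgroup.card_top, hQcard] at h1
    have := Nat.pow_le_pow_left h.three_le 2
    omega
  have hQO : Cfsg.oddCore (D ⧸ E.subgroupOf D) = ⊥ := oddCore_quotient_eq_bot hOD _ hE'2
    fun g n hn => Subtype.ext (mem_centralizer_iff.1 g.2 n hn)
  have hcores := CoreKilling.core_eq_bot_of_solvable
    (fun H hH => Bender.oddCore_le Bender.rankOneHalf hH) hQO Q (Q : Subgroup _) le_rfl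
    (by rw [subgroupOf_self]; infer_instance) hQcom hA3 hsol
  have htop : normalizer ((Q : Subgroup (D ⧸ E.subgroupOf D)) : Set (D ⧸ E.subgroupOf D)) = ⊤ := by
    by_contra hne
    have h2 : 2 ∣ Nat.card (D ⧸ E.subgroupOf D) := by
      refine dvd_trans ?_ (Subgroup.card_subgroup_dvd_card (Q : Subgroup _))
      rw [hQcard]
      obtain ⟨r, hr, hcE, -⟩ := h.exists_card
      rw [hcE, ← pow_mul]
      exact dvd_pow_self 2 (Nat.mul_ne_zero hr.ne_zero two_ne_zero)
    have hSE := AbelianSylowTwo.isStronglyEmbedded_normalizer Q hQcom h2 hne fun t ht htQ =>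
      AbelianSylowTwo.centralizer_le_normalizer Q hQcom hsol hcores ht htQ
    -- squares are invariant under conjugation, but not constant
    obtain ⟨x, y, hx, hy, hxy⟩ : ∃ x y : T, x * x ≠ 1 ∧ y * y ≠ 1 ∧ x * x ≠ y * y := by
      haveI := d.finite
      obtain ⟨r, hr, hU⟩ := fibre_card d
      have hF : 3 ≤ Nat.card F := by
        have h1 : Nat.card (center T) = Nat.card F := by rw [d.center_eq_V, d.card_V]
        rw [← h1, hV, Nat.card_congr (Subgroup.subgroupOfEquivOfLe hET).toEquiv]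
        exact h.three_le
      have hr0 : r ≠ 0 := by
        rintro rfl
        rw [mul_zero, add_zero] at hU
        haveI := (Nat.card_eq_one_iff_unique.1 hU).1
        obtain ⟨p, q, hpq⟩ := d.nonabelian
        exact hpq (mem_center_iff.1 ((QuotientGroup.eq_one_iff q).1 (Subsingleton.elim _ _)) p)
      have hne : ∀ z : F, z ≠ 0 → ∃ p : T, d.ι (p * p) = z := by
        intro z hz
        have : Nat.card {u : T ⧸ center T // d.quad u = z} ≠ 0 := by rw [hr z hz]; exact hr0
        obtain ⟨⟨⟨u, hu⟩⟩, -⟩ := Nat.card_ne_zero.1 this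
        obtain ⟨p, rfl⟩ := QuotientGroup.mk_surjective u
        exact ⟨p, by rwa [d.quad_mk] at hu⟩
      obtain ⟨z, hz0, hz1⟩ : ∃ z : F, z ≠ 0 ∧ z ≠ 1 := ⟨d.ω, d.ω_ne_zero, d.ω_ne_one⟩
      obtain ⟨p, hp⟩ := hne 1 one_ne_zero
      obtain ⟨q, hq⟩ := hne z hz0
      refine ⟨p, q, fun e => one_ne_zero (α := F) ?_, fun e => hz0 ?_, fun e => hz1 ?_⟩
      · rw [← hp, e, d.ι_one]
      · rw [← hq, e, d.ι_one]
      · rw [← hq, ← e, hp]
    have himg : ∀ p : T, p * p ≠ 1 → orderOf (π ⟨p, hTD p.2⟩) = 2 := by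
      intro p hp
      refine Involution.orderOf_of_sq ?_ fun e => hp (Subtype.ext (h.sq _ (mem_subgroupOf.1
        ((QuotientGroup.eq_one_iff (⟨p, hTD p.2⟩ : D)).1 e) :)))
      rw [← map_mul]
      exact (QuotientGroup.eq_one_iff _).2 (hsq p p.2)
    obtain ⟨g, hg⟩ := isConj_iff.1 (Involution.isConj_involutions hSE (himg x hx) (himg y hy))
    obtain ⟨g, rfl⟩ := hπ g
    rw [← map_mul, ← map_inv, ← map_mul] at hg
    have he : ((g * ⟨x, hTD x.2⟩ * g⁻¹)⁻¹ * ⟨y, hTD y.2⟩ : D) ∈ E.subgroupOf D := QuotientGroup.eq.1 hg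
    rw [mem_subgroupOf] at he
    push_cast at he
    set c : G := ((g : G) * x * (g : G)⁻¹)
    have h1 : (c⁻¹ * (y : G)) * (c⁻¹ * y) = 1 := h.sq _ he
    have hxx : (x : G) * x ∈ E := hsq x x.2
    have h2 : c * c = (x : G) * x := by
      show (g : G) * x * (g : G)⁻¹ * ((g : G) * x * (g : G)⁻¹) = _
      rw [show (g : G) * x * (g : G)⁻¹ * ((g : G) * x * (g : G)⁻¹) = (g : G) * ((x : G) * x) * (g : G)⁻¹ by group,
        ← mem_centralizer_iff.1 g.2 _ hxx, mul_inv_cancel_right]
    have h3 : Commute c (c⁻¹ * (y : G)) := by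
      have hcD : c ∈ D := mul_mem (mul_mem g.2 (hTD x.2)) (inv_mem g.2)
      exact (mem_centralizer_iff.1 hcD _ he).symm
    refine hxy (Subtype.ext ?_)
    show (x : G) * x = y * y
    calc (x : G) * x = c * c * ((c⁻¹ * (y : G)) * (c⁻¹ * y)) := by rw [h1, mul_one, h2]
      _ = (c * (c⁻¹ * (y : G))) * (c * (c⁻¹ * y)) := h3.mul_mul_mul_comm c _
      _ = y * y := by rw [mul_inv_cancel_left]
  rw [hcm]
  exact Subgroup.Normal.comap (Subgroup.normalizer_eq_top_iff.1 htop) _

theorem Pyr.isSolvable_centralizer (h : Pyr E) : Group.IsSolvable (centralizer (E : Set G)) := by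
  haveI : Fact (Nat.Prime 2) := ⟨Nat.prime_two⟩
  obtain ⟨T, hTn, -, hTD, hT, hrel, -⟩ := h.exists_kernel
  set D := centralizer (E : Set G)
  haveI : (T.subgroupOf D).Normal := hTn.subgroupOf D
  haveI : Group.IsSolvable (T.subgroupOf D) :=
    Solvable.isSolvable_of_isPGroup (p := 2) (hT.comap_of_injective _ D.subtype_injective)
  haveI : Group.IsSolvable (D ⧸ T.subgroupOf D) := OddOrderTheorem.solvable (by
    rw [← Subgroup.index_eq_card]; exact hrel)
  exact Group.isSolvable_of_ker_le_range (T.subgroupOf D).subtype (QuotientGroup.mk' (T.subgroupOf D))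
    (by rw [QuotientGroup.ker_mk', range_subtype])

end Cfsg.Agent.Pyramidal
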