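import Cfsg.Agent.Lib.Pyramidal.ThreeGroup
import Cfsg.Agent.Lib.SingerTransitive.Main
import Cfsg.Agent.Lib.Frobenius.SolvableAut

/-!
# Groups with one class of involutions of odd prime power size are solvable unless `k` is even

* `Pyr.isSolvable`, `isSolvable_of_class`
-/

set_option autoImplicit false
set_option linter.style.haveILetI false
set_option linter.unusedSectionVars false

namespace Cfsg.Agent.Pyramidal

open Subgroup GL3

universe u

variable {G : Type u} [Group G] [Finite G] {E : Subgroup G}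

/-- **Groups whose involutions form `E#` are solvable.** -/
theorem Pyr.isSolvable (h : Pyr E) : Group.IsSolvable G := by
  classical
  haveI : Fact (Nat.Prime 2) := ⟨Nat.prime_two⟩
  obtain ⟨r, hr, hcE, hp⟩ := h.exists_card
  obtain ⟨M⟩ := h.exists_model hcE
  haveI : Group.IsSolvable M.ρ.ker := by rw [M.ker_ρ]; exact h.isSolvable_centralizer
  suffices Group.IsSolvable M.ρ.range from
    Group.isSolvable_of_ker_le_range M.ρ.ker.subtype M.ρ.rangeRestrict
      (by rw [MonoidHom.ker_rangeRestrict, range_subtype])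
  have hV : Module.finrank (ZMod 2) (Fin r → ZMod 2) = r := by simp
  by_cases hr2 : r = 2
  · subst hr2
    haveI := Frobenius.isSolvable_perm_of_card_le (α := Fin 2 → ZMod 2) (by simp)
    let f : ((Fin 2 → ZMod 2) ≃ₗ[ZMod 2] (Fin 2 → ZMod 2)) →* Equiv.Perm (Fin 2 → ZMod 2) :=
      { toFun := fun L => L.toEquiv, map_one' := rfl, map_mul' := fun _ _ => rfl }
    exact Group.isSolvable_of_isSolvable_injective (f := f.comp M.ρ.range.subtype) fun a b hab =>
      Subtype.ext (LinearEquiv.ext fun x => Equiv.ext_iff.1 hab x)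
  have htr : ∀ v w : Fin r → ZMod 2, v ≠ 0 → w ≠ 0 → ∃ L ∈ M.ρ.range, L v = w := fun v w hv hw => by
    obtain ⟨g, hg⟩ := M.trans_pt h hv hw
    exact ⟨_, ⟨g, rfl⟩, hg⟩
  rcases (SingerTransitive.transitive_iff hV hp M.ρ.range).1 htr with
    ⟨hcyc, -⟩ | ⟨hcard, C, hCR, hCn, hCcyc, hCcard⟩ | htop
  · exact Group.isSolvable_of_comm (IsCyclic.commGroup (α := M.ρ.range)).mul_comm
  · haveI := hCn
    haveI : Group.IsSolvable (C.subgroupOf M.ρ.range) := by
      haveI : IsCyclic (C.subgroupOf M.ρ.range) :=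
        isCyclic_of_injective (Subgroup.subgroupOfEquivOfLe hCR).toMonoidHom
          (Subgroup.subgroupOfEquivOfLe hCR).injective
      exact Group.isSolvable_of_comm (IsCyclic.commGroup (α := C.subgroupOf M.ρ.range)).mul_comm
    haveI : Group.IsSolvable (M.ρ.range ⧸ C.subgroupOf M.ρ.range) := by
      haveI : Fact r.Prime := ⟨hr⟩
      have hq : Nat.card (M.ρ.range ⧸ C.subgroupOf M.ρ.range) = r := by
        have h1 := Subgroup.card_eq_card_quotient_mul_card_subgroup (C.subgroupOf M.ρ.range)
        rw [Nat.card_congr (Subgroup.subgroupOfEquivOfLe hCR).toEquiv, hcard, hCcard] at h1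
        exact (Nat.eq_of_mul_eq_mul_right hp.pos h1).symm
      haveI := isCyclic_of_prime_card hq
      exact Group.isSolvable_of_comm (IsCyclic.commGroup (α := M.ρ.range ⧸ C.subgroupOf M.ρ.range)).mul_comm
    exact Group.isSolvable_of_ker_le_range (C.subgroupOf M.ρ.range).subtype
      (QuotientGroup.mk' (C.subgroupOf M.ρ.range)) (by rw [QuotientGroup.ker_mk', range_subtype])
  · exfalso
    have hsur : Function.Surjective M.ρ := MonoidHom.range_eq_top.1 htop
    by_cases hr5 : 5 ≤ r
    · exact h.not_full_of_five_le hr5 M hsur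
    obtain rfl : r = 3 := by
      have := hr.two_le
      have h4 : r ≠ 4 := by rintro rfl; norm_num at hr
      omega
    let e : V3 ≃ₗ[ZMod 2] (Fin 3 → ZMod 2) := LinearEquiv.ofFinrankEq _ _ (by simp [Module.finrank_prod])
    exact h.not_full_three hcE (M.trans e) (M.trans_surjective e hsur)

/-- **The solvable direction.** -/
theorem isSolvable_of_class {p k : ℕ} (hp : p.Prime) (hp2 : p ≠ 2) (hk : Odd k ∨ p ^ k = 9)
    (hcard : Nat.card {x : G // orderOf x = 2} = p ^ k)
    (hconj : ∀ x y : G, orderOf x = 2 → orderOf y = 2 → ∃ g : G, g * x * g⁻¹ = y) : Group.IsSolvable G :=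
  isSolvable_of_pyr (fun _ _ _ _ hH => hH.isSolvable) hp hp2 hk hcard hconj

end Cfsg.Agent.Pyramidal
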