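import Cfsg.Agent.Lib.Pyramidal.Kernel

/-!
# Coordinates on the subgroup of involutions

* `Model E V`: an identification of `E` with a vector space `V` over `F₂`, and the resulting representation
* `Pyr.exists_model`, `Model.trans`
-/

set_option autoImplicit false
set_option linter.style.haveILetI false
set_option linter.unusedSectionVars false

namespace Cfsg.Agent.Pyramidal

open Subgroup Module

universe u v w

variable {G : Type u} [Group G] [Finite G]

/-- An `F₂`-space identified with `E`, with the conjugation action of `G`. -/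
structure Model (E : Subgroup G) (V : Type v) [AddCommGroup V] [Module (ZMod 2) V] where
  θ : V → G
  mem : ∀ v, θ v ∈ E
  inj : Function.Injective θ
  surj : ∀ x ∈ E, ∃ v, θ v = x
  map_add : ∀ v w, θ (v + w) = θ v * θ w
  ρ : G →* (V ≃ₗ[ZMod 2] V)
  conj : ∀ g v, θ (ρ g v) = g * θ v * g⁻¹

variable {E : Subgroup G} {V : Type v} [AddCommGroup V] [Module (ZMod 2) V]

theorem Model.map_zero (M : Model E V) : M.θ 0 = 1 := by
  have := M.map_add 0 0
  rw [add_zero] at this
  exact mul_eq_left.1 this.symm

theorem Model.eq_one_iff (M : Model E V) {v : V} : M.θ v = 1 ↔ v = 0 :=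
  ⟨fun h => M.inj (h.trans M.map_zero.symm), fun h => h ▸ M.map_zero⟩

theorem Model.ρ_eq_one_iff (M : Model E V) {g : G} : M.ρ g = 1 ↔ g ∈ centralizer (E : Set G) := by
  refine ⟨fun h => mem_centralizer_iff.2 fun x hx => ?_, fun h => LinearEquiv.ext fun v => M.inj ?_⟩
  · obtain ⟨v, rfl⟩ := M.surj x hx
    have := M.conj g v
    rw [h] at this
    exact eq_mul_inv_iff_mul_eq.1 this
  · show M.θ (M.ρ g v) = M.θ v
    rw [M.conj, ← mem_centralizer_iff.1 h _ (M.mem v), mul_inv_cancel_right]

theorem Model.ker_ρ (M : Model E V) : M.ρ.ker = centralizer (E : Set G) :=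
  Subgroup.ext fun _ => MonoidHom.mem_ker.trans M.ρ_eq_one_iff

theorem Model.apply_eq_iff (M : Model E V) {g : G} {v : V} : M.ρ g v = v ↔ Commute g (M.θ v) := by
  rw [← M.inj.eq_iff, M.conj, mul_inv_eq_iff_eq_mul]
  exact Iff.rfl

theorem Model.trans_pt (M : Model E V) (h : Pyr E) {v w : V} (hv : v ≠ 0) (hw : w ≠ 0) :
    ∃ g, M.ρ g v = w := by
  obtain ⟨g, hg⟩ := h.trans _ (M.mem v) _ (M.mem w) (fun e => hv (M.eq_one_iff.1 e))
    (fun e => hw (M.eq_one_iff.1 e))
  exact ⟨g, M.inj ((M.conj g v).trans hg)⟩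

/-- Change of coordinates. -/
def Model.trans (M : Model E V) {W : Type w} [AddCommGroup W] [Module (ZMod 2) W] (e : W ≃ₗ[ZMod 2] V) :
    Model E W where
  θ x := M.θ (e x)
  mem _ := M.mem _
  inj _ _ h := e.injective (M.inj h)
  surj x hx := by
    obtain ⟨v, rfl⟩ := M.surj x hx
    exact ⟨e.symm v, by rw [e.apply_symm_apply]⟩
  map_add v w := by rw [e.map_add, M.map_add]
  ρ :=
    { toFun := fun g => (e.trans (M.ρ g)).trans e.symm
      map_one' := LinearEquiv.ext fun x => by simp
      map_mul' := fun a b => LinearEquiv.ext fun x => by simp }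
  conj g v := by simp [M.conj]

theorem Model.trans_surjective (M : Model E V) {W : Type w} [AddCommGroup W] [Module (ZMod 2) W]
    (e : W ≃ₗ[ZMod 2] V) (hM : Function.Surjective M.ρ) : Function.Surjective (M.trans e).ρ := fun L => by
  obtain ⟨g, hg⟩ := hM ((e.symm.trans L).trans e)
  refine ⟨g, LinearEquiv.ext fun x => ?_⟩
  show e.symm (M.ρ g (e x)) = L x
  rw [hg]
  simp

/-- Coordinates in the standard space. -/
theorem Pyr.exists_model (h : Pyr E) {r : ℕ} (hr : Nat.card E = 2 ^ r) :
    Nonempty (Model E (Fin r → ZMod 2)) := by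
  classical
  haveI := h.normal
  letI : CommGroup E :=
    { (inferInstance : Group E) with mul_comm := fun a b => Subtype.ext (h.comm a.2 b.2) }
  have h2 : ∀ x : Additive E, 2 • x = 0 := fun x => Additive.toMul.injective (by
    rw [two_nsmul]; exact Subtype.ext (h.sq _ (Additive.toMul x).2))
  letI : Module (ZMod 2) (Additive E) := AddCommGroup.zmodModule h2
  haveI : Fact (Nat.Prime 2) := ⟨Nat.prime_two⟩
  have hfin : finrank (ZMod 2) (Additive E) = r := by
    letI := Fintype.ofFinite (Additive E)
    have h1 := Module.card_eq_pow_finrank (K := ZMod 2) (V := Additive E)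
    rw [ZMod.card, ← Nat.card_eq_fintype_card, Nat.card_congr (Additive.toMul (α := E)), hr] at h1
    exact (Nat.pow_right_injective le_rfl h1).symm
  let e : (Fin r → ZMod 2) ≃ₗ[ZMod 2] Additive E :=
    LinearEquiv.ofFinrankEq _ _ (by rw [hfin]; simp)
  let L : G → (Additive E ≃ₗ[ZMod 2] Additive E) := fun g =>
    (MulEquiv.toAdditive (MulAut.conjNormal g : E ≃* E)).toLinearEquiv fun c x => ZMod.map_smul _ c x
  have hL : ∀ g x, ((Additive.toMul (L g x) : E) : G) = g * (Additive.toMul x : E) * g⁻¹ := fun g x => by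
    simp [L]
  have hext : ∀ {x y : Additive E}, ((Additive.toMul x : E) : G) = (Additive.toMul y : E) → x = y :=
    fun h => Additive.toMul.injective (Subtype.ext h)
  let ρ : G →* ((Fin r → ZMod 2) ≃ₗ[ZMod 2] (Fin r → ZMod 2)) :=
    { toFun := fun g => (e.trans (L g)).trans e.symm
      map_one' := LinearEquiv.ext fun x => by
        show e.symm (L 1 (e x)) = x
        rw [show L 1 (e x) = e x from hext (by rw [hL]; simp), e.symm_apply_apply]
      map_mul' := fun a b => LinearEquiv.ext fun x => by
        show e.symm (L (a * b) (e x)) = e.symm (L a (e (e.symm (L b (e x)))))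
        rw [e.apply_symm_apply]
        exact congrArg e.symm (hext (by rw [hL, hL, hL]; group)) }
  refine ⟨⟨fun v => ((Additive.toMul (e v) : E) : G), fun v => (Additive.toMul (e v) : E).2,
    fun a b hab => e.injective (Additive.toMul.injective (Subtype.ext hab)),
    fun x hx => ⟨e.symm (Additive.ofMul ⟨x, hx⟩), by simp⟩, fun v w => by simp, ρ, fun g v => ?_⟩⟩
  show ((Additive.toMul (e (e.symm (L g (e v)))) : E) : G) = _
  rw [e.apply_symm_apply, hL]

end Cfsg.Agent.Pyramidal
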