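import Cfsg.Agent.Lib.Involution.Basic
import Cfsg.Agent.Lib.Constrained.Basic
import Cfsg.Agent.Lib.Cores.Subnormal
import Cfsg.Agent.Lib.Solvable.Basic
import Cfsg.Agent.Lib.Solvable.Converse
import Cfsg.Agent.Lib.OddOrderTheorem.Basic
import Mathlib.LinearAlgebra.Determinant
import Mathlib.LinearAlgebra.Matrix.GeneralLinearGroup.Card

/-!
# An involution in a perfect part of its centraliser inverts spaces of even dimension

* `finrank_inverted`: an element of the derived subgroup inverting an elementary abelian `p`-group normalised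
  by a group makes its rank even; if it lies in all derived subgroups then the order is not 9
* `exponent_even`: if `G = C(z) O` with `O` normal of odd order, `z` in all derived subgroups of `C(z)` and
  `|G : C(z)| = p ^ k`, then `k` is even and `p ^ k ≠ 9`
-/

set_option autoImplicit false
set_option linter.style.haveILetI false
set_option maxHeartbeats 1600000

namespace Cfsg.Agent.Pyramidal

open Subgroup

universe u

theorem neg_one_sub_one_ne_zero : ¬((-1 : ZMod 3) - 1 = 0) := by decide

/-- The dimension of an inverted module of an element in all derived subgroups. -/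
theorem finrank_inverted_aux {H : Type*} [Group H] [Finite H] {p : ℕ} [Fact p.Prime] (hp2 : p ≠ 2)
    {V : Type*} [AddCommGroup V] [Module (ZMod p) V] [Finite V] (σ : H →* Module.End (ZMod p) V) {z : H}
    (hz : ∀ n, z ∈ derivedSeries H n) (hneg : σ z = (-1 : ZMod p) • LinearMap.id) :
    ∃ d : ℕ, Nat.card V = p ^ (2 * d) ∧ (p = 3 → d ≠ 1) := by
  classical
  set D := Module.finrank (ZMod p) V with hD
  have hcard : Nat.card V = p ^ D := by
    rw [Module.natCard_eq_pow_finrank (K := ZMod p), Nat.card_zmod]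
  -- the determinant
  have hdet : LinearMap.det (σ z) = 1 := by
    have h1 : z ∈ (LinearMap.det.comp σ).toHomUnits.ker := by
      refine (Abelianization.commutator_subset_ker (LinearMap.det.comp σ).toHomUnits) ?_
      rw [← derivedSeries_one]
      exact hz 1
    exact congrArg Units.val (MonoidHom.mem_ker.1 h1)
  have heven : Even D := by
    have h2 := hdet
    rw [hneg, LinearMap.det_smul, LinearMap.det_id, mul_one] at h2
    by_contra hodd
    rw [(Nat.not_even_iff_odd.1 hodd).neg_one_pow] at h2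
    have h3 : ((2 : ℕ) : ZMod p) = 0 := by push_cast; linear_combination -h2
    rw [ZMod.natCast_eq_zero_iff] at h3
    exact hp2 ((Nat.prime_dvd_prime_iff_eq (Fact.out) Nat.prime_two).1 h3)
  obtain ⟨d, hd⟩ := heven
  refine ⟨d, by rw [hcard, hd, two_mul], fun hp3 hd1 => ?_⟩
  subst hp3 hd1
  let b := Module.finBasisOfFinrankEq (ZMod 3) V (n := 2) (by omega)
  let e : (Module.End (ZMod 3) V)ˣ ≃* GL (Fin 2) (ZMod 3) :=
    Units.mapEquiv (LinearMap.toMatrixAlgEquiv b).toMulEquiv
  haveI : Finite (GL (Fin 2) (ZMod 3)) := inferInstance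
  have hGL : Nat.card (GL (Fin 2) (ZMod 3)) = 48 := by
    rw [Matrix.card_GL_field]
    simp [Fin.prod_univ_two]
  haveI : Group.IsSolvable (GL (Fin 2) (ZMod 3)) :=
    Solvable.isSolvable_of_card_two_primes Nat.prime_two Nat.prime_three (by norm_num) fun r hr hd => by
      rw [hGL] at hd
      rcases hr.dvd_mul.1 (show r ∣ 2 ^ 4 * 3 from hd) with h | h
      · left; exact (Nat.prime_dvd_prime_iff_eq hr Nat.prime_two).1 (hr.dvd_of_dvd_pow h)
      · right; exact (Nat.prime_dvd_prime_iff_eq hr Nat.prime_three).1 h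
  obtain ⟨n, hn⟩ := (inferInstance : Group.IsSolvable (GL (Fin 2) (ZMod 3)))
  have h1 : e.toMonoidHom.comp σ.toHomUnits z ∈ derivedSeries (GL (Fin 2) (ZMod 3)) n :=
    map_derivedSeries_le_derivedSeries _ n (Subgroup.mem_map_of_mem _ (hz n))
  rw [hn, Subgroup.mem_bot] at h1
  have h2 : σ z = 1 := congrArg Units.val (e.injective (h1.trans (map_one e).symm) : σ.toHomUnits z = 1)
  haveI : Nontrivial V := Finite.one_lt_card_iff_nontrivial.1 (by rw [hcard, hd]; norm_num)
  obtain ⟨w, hw⟩ := exists_ne (0 : V)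
  have h3 : (-1 : ZMod 3) • w = w := by
    have := LinearMap.congr_fun h2 w
    rw [hneg] at this
    exact this
  have h4 : ((-1 : ZMod 3) - 1) • w = 0 := by rw [sub_smul, h3, one_smul, sub_self]
  exact hw ((smul_eq_zero.1 h4).resolve_left neg_one_sub_one_ne_zero)

/-- The multiplicative form. -/
theorem finrank_inverted {H : Type*} [Group H] [Finite H] {p : ℕ} [Fact p.Prime] (hp2 : p ≠ 2)
    {W : Type*} [CommGroup W] [Finite W] (hW : ∀ w : W, w ^ p = 1) (ρ : H →* MulAut W) {z : H}
    (hz : ∀ n, z ∈ derivedSeries H n) (hinv : ∀ w, ρ z w = w⁻¹) :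
    ∃ d : ℕ, Nat.card W = p ^ (2 * d) ∧ (p = 3 → d ≠ 1) := by
  letI : AddCommGroup (Additive W) := Additive.addCommGroup
  haveI hm : Module (ZMod p) (Additive W) := AddCommGroup.zmodModule fun w => by
    show (Additive.toMul w) ^ p = 1
    exact hW _
  have key := finrank_inverted_aux (z := z) hp2 (V := Additive W) (H := H)
    (MonoidHom.mk ⟨fun h => ((MulEquiv.toAdditive (ρ h)).toAddMonoidHom).toZModLinearMap p, by
      refine LinearMap.ext fun w => ?_
      show (MulEquiv.toAdditive (ρ 1)) w = w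
      rw [map_one]; rfl⟩ fun a b => by
      refine LinearMap.ext fun w => ?_
      show (MulEquiv.toAdditive (ρ (a * b))) w = (MulEquiv.toAdditive (ρ a)) ((MulEquiv.toAdditive (ρ b)) w)
      rw [map_mul]; rfl) hz (LinearMap.ext fun w => by
      show Additive.ofMul (ρ z (Additive.toMul w)) = (-1 : ZMod p) • w
      rw [hinv, neg_one_smul]
      rfl)
  rwa [Nat.card_congr Additive.toMul] at key

/-- **The case of one central involution.** -/
theorem exponent_even : ∀ (n : ℕ) (G : Type u) [Group G] [Finite G] (O : Subgroup G) [O.Normal],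
    Nat.card O = n → Odd n → ∀ z : G, orderOf z = 2 → centralizer ({z} : Set G) ⊔ O = ⊤ →
    (∀ i, z ∈ (derivedSeries ↥(centralizer ({z} : Set G)) i).map (centralizer ({z} : Set G)).subtype) →
    ∀ p k : ℕ, p.Prime → p ≠ 2 → (centralizer ({z} : Set G)).index = p ^ k →
      Even k ∧ p ^ k ≠ 9 := by
  intro n
  induction n using Nat.strong_induction_on with
  | _ n ih =>
  intro G _ _ O hOn hcard hn z hz hsup hder p k hp hp2 hidx
  haveI : Fact p.Prime := ⟨hp⟩
  haveI : Fact (Nat.Prime 2) := ⟨Nat.prime_two⟩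
  set C := centralizer ({z} : Set G) with hCdef
  by_cases hO : O = ⊥
  · rw [hO, sup_bot_eq] at hsup
    rw [hsup, index_top, eq_comm, Nat.pow_eq_one] at hidx
    rcases hidx with h | h
    · exact absurd h hp.ne_one
    · subst h; exact ⟨Even.zero, by norm_num⟩
  subst hcard
  haveI : Group.IsSolvable O := OddOrderTheorem.solvable hn
  obtain ⟨M, hMO, hMn, hM1, hMmin⟩ := Cores.exists_minimal_normal_le O hO
  haveI := hMn
  haveI : Group.IsSolvable M := Group.isSolvable_of_isSolvable_injective (Subgroup.inclusion_injective hMO)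
  obtain ⟨hMc, q, hq, hMq, hMexp⟩ := Solvable.elementaryAbelian_of_minimal_normal M hM1 hMmin
  have hModd : Odd (Nat.card M) := hn.of_dvd_nat (card_dvd_of_le hMO)
  have hcomm : ∀ a ∈ M, ∀ b ∈ M, a * b = b * a := fun a ha b hb =>
    congrArg Subtype.val (hMc.is_comm.comm ⟨a, ha⟩ ⟨b, hb⟩)
  have hzz := Involution.mul_self hz
  have hzi := Involution.inv_eq hz
  -- the quotient
  set π := QuotientGroup.mk' M
  have hzM : z ∉ M := fun h => by
    have := Subgroup.orderOf_dvd_natCard M h
    rw [hz] at this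
    exact (Nat.not_even_iff_odd.2 hModd) (even_iff_two_dvd.2 this)
  have hzb : orderOf (π z) = 2 := Involution.orderOf_of_sq (by rw [← map_mul, hzz, map_one])
    fun h => hzM ((QuotientGroup.eq_one_iff z).1 h)
  have hCb : centralizer ({π z} : Set (G ⧸ M)) = C.map π := by
    refine le_antisymm (fun y hy => ?_) ?_
    · obtain ⟨x, rfl⟩ := QuotientGroup.mk'_surjective M y
      have hy' : Commute (π x) (π z) := Involution.mem_centralizer_iff_commute.1 hy
      obtain ⟨o, ho, hox⟩ := Constrained.exists_mul_mem_centralizer (p := 2)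
        (O := M) (T := zpowers z) (fun h => Nat.not_even_iff_odd.2 hModd (even_iff_two_dvd.2 h))
        (IsPGroup.of_card (n := 1) (by rw [Nat.card_zpowers, hz, pow_one])) (x := x) (fun v hv => by
          obtain ⟨j, rfl⟩ := mem_zpowers_iff.1 hv
          refine (QuotientGroup.eq_one_iff _).1 ?_
          show π (x * z ^ j * x⁻¹ * (z ^ j)⁻¹) = 1
          rw [map_mul, map_mul, map_mul, map_inv, map_inv, map_zpow, (hy'.zpow_right j).eq,
            mul_inv_cancel_right, mul_inv_cancel])
      refine ⟨o * x, ?_, ?_⟩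
      · exact Involution.mem_centralizer_iff_commute.2 (mem_centralizer_iff.1 hox z (mem_zpowers z)).symm
      · rw [map_mul, show π o = 1 from (QuotientGroup.eq_one_iff o).2 ho, one_mul]
    · rintro _ ⟨c, hc, rfl⟩
      exact Involution.mem_centralizer_iff_commute.2 ((Involution.mem_centralizer_iff_commute.1 hc).map π)
  have hsupb : centralizer ({π z} : Set (G ⧸ M)) ⊔ O.map π = ⊤ := by
    rw [hCb, ← Subgroup.map_sup, hsup, Subgroup.map_top_of_surjective _ (QuotientGroup.mk'_surjective M)]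
  have hderb : ∀ i, π z ∈ (derivedSeries ↥(centralizer ({π z} : Set (G ⧸ M))) i).map
      (centralizer ({π z} : Set (G ⧸ M))).subtype := by
    intro i
    obtain ⟨c, hc, hcz⟩ := Subgroup.mem_map.1 (hder i)
    let f : C →* ↥(centralizer ({π z} : Set (G ⧸ M))) :=
      (π.comp C.subtype).codRestrict _ fun c => hCb.symm ▸ Subgroup.mem_map_of_mem π c.2
    exact ⟨f c, map_derivedSeries_le_derivedSeries f i (Subgroup.mem_map_of_mem f hc),
      congrArg π hcz⟩
  haveI : (O.map π).Normal := hOn.map _ (QuotientGroup.mk'_surjective M)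
  -- the index splits
  let CM := C ⊔ M
  have hidx1 : (centralizer ({π z} : Set (G ⧸ M))).index = CM.index := by
    rw [hCb, Subgroup.index_map, QuotientGroup.ker_mk',
      MonoidHom.range_eq_top.2 (QuotientGroup.mk'_surjective M), index_top, mul_one]
  have hsplit : (C.subgroupOf M).index * CM.index = p ^ k := by
    rw [← hidx]
    have h1 : C.relIndex CM = C.relIndex M := by
      have e1 := relIndex_mul_relIndex (C ⊓ M) C CM inf_le_left le_sup_left
      have e2 := relIndex_mul_relIndex (C ⊓ M) M CM inf_le_right le_sup_right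
      rw [inf_relIndex_left] at e1
      rw [inf_relIndex_right, Subgroup.relIndex_sup_right, ← e1, mul_comm (C.relIndex M)] at e2
      exact (Nat.eq_of_mul_eq_mul_left (Nat.pos_of_ne_zero (Nat.pos_iff_ne_zero.1 (Nat.pos_of_ne_zero (by exact Subgroup.index_ne_zero_of_finite)))) e2).symm
    show C.relIndex M * CM.index = C.index
    rw [← h1]
    exact Subgroup.relIndex_mul_index le_sup_left
  -- the part inverted by `z`
  let φ : M →* M := MonoidHom.mk' (fun m => ⟨(m : G) * z * (m : G)⁻¹ * z, by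
      rw [show (m : G) * z * (m : G)⁻¹ * z = m * (z * (m : G)⁻¹ * z⁻¹) by rw [hzi]; group]
      exact mul_mem m.2 (hMn.conj_mem _ (inv_mem m.2) z)⟩) fun a b => Subtype.ext (by
    show ((a : G) * b) * z * ((a : G) * b)⁻¹ * z = ((a : G) * z * (a : G)⁻¹ * z) * ((b : G) * z * (b : G)⁻¹ * z)
    have hb : (b : G) * z * (b : G)⁻¹ * z ∈ M := by
      rw [show (b : G) * z * (b : G)⁻¹ * z = b * (z * (b : G)⁻¹ * z⁻¹) by rw [hzi]; group]
      exact mul_mem b.2 (hMn.conj_mem _ (inv_mem b.2) z)
    have ha : z * (a : G)⁻¹ * z ∈ M := by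
      have := hMn.conj_mem _ (inv_mem a.2) z
      rwa [hzi] at this
    calc (a : G) * b * z * ((a : G) * b)⁻¹ * z
        = a * ((b : G) * z * (b : G)⁻¹ * z) * (z⁻¹ * (a : G)⁻¹ * z) := by group
      _ = a * (((b : G) * z * (b : G)⁻¹ * z) * (z * (a : G)⁻¹ * z)) := by rw [hzi]; group
      _ = a * ((z * (a : G)⁻¹ * z) * ((b : G) * z * (b : G)⁻¹ * z)) := by rw [hcomm _ hb _ ha]
      _ = _ := by group)
  have hker : φ.ker = C.subgroupOf M := by
    ext m
    rw [MonoidHom.mem_ker, mem_subgroupOf, Involution.mem_centralizer_iff_commute]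
    constructor
    · intro h
      have h' : (m : G) * z * (m : G)⁻¹ * z = 1 := congrArg Subtype.val h
      have e : (m : G) * z * (m : G)⁻¹ = z := by rw [eq_inv_of_mul_eq_one_left h', hzi]
      exact mul_inv_eq_iff_eq_mul.1 e
    · intro h
      exact Subtype.ext (show (m : G) * z * (m : G)⁻¹ * z = 1 by rw [h.eq, mul_inv_cancel_right, hzz])
  set W := φ.range.map M.subtype with hW
  have hWM : W ≤ M := map_subtype_le _
  have hWcard : Nat.card W = (C.subgroupOf M).index := by
    rw [hW, card_map_of_injective M.subtype_injective, ← hker, Subgroup.index_ker]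
  have hinvW : ∀ w ∈ W, z * w * z⁻¹ = w⁻¹ := by
    rintro _ ⟨_, ⟨m, rfl⟩, rfl⟩
    show z * ((m : G) * z * (m : G)⁻¹ * z) * z⁻¹ = ((m : G) * z * (m : G)⁻¹ * z)⁻¹
    simp only [mul_inv_rev, inv_inv, hzi, mul_assoc, hzz, mul_one]
  have hCW : C ≤ normalizer (W : Set G) := by
    intro c hc
    refine Coprime.mem_normalizer_of_forall ?_
    rintro _ ⟨_, ⟨m, rfl⟩, rfl⟩
    have hcz : c * z * c⁻¹ = z := mul_inv_eq_iff_eq_mul.2 (Involution.mem_centralizer_iff_commute.1 hc).eq
    refine ⟨φ ⟨c * m * c⁻¹, hMn.conj_mem _ m.2 c⟩, ⟨_, rfl⟩, ?_⟩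
    show c * (m : G) * c⁻¹ * z * (c * (m : G) * c⁻¹)⁻¹ * z = c * ((m : G) * z * (m : G)⁻¹ * z) * c⁻¹
    conv_lhs => rw [← hcz]
    group
  -- the recursion
  have hlt : Nat.card (O.map π) < Nat.card O := by
    have h1 := O.card_map_dvd π
    refine lt_of_le_of_ne (Nat.le_of_dvd Nat.card_pos h1) fun e => hM1 ?_
    rw [eq_bot_iff]
    intro m hm
    have hinj : Function.Injective (π.subgroupMap O) :=
      ((Function.Surjective.bijective_of_nat_card_le (π.subgroupMap_surjective O) e.ge)).1
    have : (⟨m, hMO hm⟩ : O) = 1 := hinj (Subtype.ext (by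
      show π m = π ((1 : O) : G)
      rw [OneMemClass.coe_one, map_one]; exact (QuotientGroup.eq_one_iff m).2 hm))
    exact congrArg Subtype.val this
  obtain ⟨k₂, -, hk₂⟩ := (Nat.dvd_prime_pow hp).1 (Dvd.intro_left _ hsplit : CM.index ∣ p ^ k)
  obtain ⟨k₁, -, hk₁⟩ := (Nat.dvd_prime_pow hp).1 (Dvd.intro _ hsplit : (C.subgroupOf M).index ∣ p ^ k)
  have hk : k₁ + k₂ = k := Nat.pow_right_injective hp.two_le (by
    show p ^ (k₁ + k₂) = p ^ k
    rw [pow_add, ← hk₁, ← hk₂, hsplit])
  obtain ⟨he₂, h9₂⟩ := ih _ hlt (G ⧸ M) (O.map π) rfl (hn.of_dvd_nat (O.card_map_dvd π)) (π z) hzb hsupb hderb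
    p k₂ hp hp2 (hidx1.trans hk₂)
  by_cases hW1 : k₁ = 0
  · subst hW1
    rw [zero_add] at hk
    subst hk
    exact ⟨he₂, h9₂⟩
  -- `W` is a module for the centraliser
  have hWne : Nat.card W = p ^ k₁ := hWcard.trans hk₁
  haveI : IsMulCommutative W := ⟨⟨fun a b => Subtype.ext (hcomm _ (hWM a.2) _ (hWM b.2))⟩⟩
  letI : CommGroup W := { (inferInstance : Group W) with mul_comm := fun a b => Subtype.ext (hcomm _ (hWM a.2) _ (hWM b.2)) }
  have hexp : ∀ w : W, w ^ p = 1 := by
    intro w
    have h1 : orderOf w ∣ q := orderOf_dvd_of_pow_eq_one (Subtype.ext (by simpa using hMexp _ (hWM w.2)))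
    have h2 : orderOf w ∣ p ^ k₁ := hWne ▸ orderOf_dvd_natCard w
    rcases (Nat.dvd_prime hq).1 h1 with h | h
    · rw [orderOf_eq_one_iff.1 h, one_pow]
    · rw [h] at h2
      rw [← (Nat.prime_dvd_prime_iff_eq hq hp).1 (hq.dvd_of_dvd_pow h2), ← h, pow_orderOf_eq_one]
  let ρ : C →* MulAut W := (W.normalizerMonoidHom).comp (Subgroup.inclusion hCW)
  have hzC : z ∈ C := Involution.mem_centralizer_iff_commute.2 (Commute.refl z)
  obtain ⟨d, hd, hd3⟩ := finrank_inverted hp2 hexp ρ (z := ⟨z, hzC⟩) (fun i => by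
      obtain ⟨c, hc, hcz⟩ := Subgroup.mem_map.1 (hder i)
      rwa [show (⟨z, hzC⟩ : C) = c from Subtype.ext hcz.symm])
    (fun w => Subtype.ext (hinvW w w.2))
  have hk₁d : k₁ = 2 * d := Nat.pow_right_injective hp.two_le (hWne.symm.trans hd)
  obtain ⟨c, hc⟩ := he₂
  refine ⟨⟨d + c, by omega⟩, fun h9 => ?_⟩
  have hp3 : p = 3 := by
    have h : p ∣ 3 ^ 2 := by
      rw [show (3 : ℕ) ^ 2 = 9 from rfl, ← h9]
      exact dvd_pow_self p (by omega)
    exact (Nat.prime_dvd_prime_iff_eq hp Nat.prime_three).1 (hp.dvd_of_dvd_pow h)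
  subst hp3
  have : k = 2 := Nat.pow_right_injective (le_of_lt (by norm_num : 2 < 3)) (h9.trans (by norm_num))
  exact hd3 rfl (by omega)

end Cfsg.Agent.Pyramidal
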