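import Cfsg.Agent.Lib.Pyramidal.Rank1
import Cfsg.Agent.Lib.Kazarin.Main
import Cfsg.Agent.Lib.Bender.ModuleBound
import Cfsg.Agent.Lib.Solvable.Fitting
import Cfsg.Agent.Lib.OrbitPower.Classes
import Cfsg.Agent.Lib.Cores.Basic

/-!
# Groups with one class of involutions of odd prime power size, modulo the odd core

* `exists_elementary`: modulo `O(G)` the involutions are the non-trivial elements of an elementary abelian
  normal subgroup `E` with `|E| = p ^ a + 1`
* `Pyr`: the resulting data when `|E| ≥ 4`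
* `isSolvable_of_pyr`: reduction of the main theorem to these data
-/

set_option autoImplicit false
set_option linter.style.haveILetI false
set_option maxHeartbeats 800000

namespace Cfsg.Agent.Pyramidal

open Subgroup

universe u

variable {G : Type u} [Group G] [Finite G]

/-- All involutions lie in a normal elementary abelian subgroup and are conjugate; their number is a prime. -/
structure Pyr (E : Subgroup G) : Prop where
  normal : E.Normal
  sq : ∀ x ∈ E, x * x = 1
  mem : ∀ x : G, x * x = 1 → x ∈ E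
  trans : ∀ x ∈ E, ∀ y ∈ E, x ≠ 1 → y ≠ 1 → ∃ g : G, g * x * g⁻¹ = y
  odd : Cfsg.oddCore G = ⊥
  prime : (Nat.card E - 1).Prime

theorem Pyr.comm {E : Subgroup G} (h : Pyr E) {x y : G} (hx : x ∈ E) (hy : y ∈ E) : Commute x y := by
  show x * y = y * x
  have e : (x * y) * (y * x) = 1 := by rw [mul_assoc, ← mul_assoc y, h.sq y hy, one_mul, h.sq x hx]
  rw [eq_inv_of_mul_eq_one_left e, inv_eq_of_mul_eq_one_right (h.sq _ (mul_mem hy hx))]

/-- `2 ^ r - 1` is no proper power of an odd prime. -/
theorem exponent_le_one {r p a : ℕ} (hp : p.Prime) (hp2 : p ≠ 2) (h : 2 ^ r = p ^ a + 1) : a ≤ 1 := by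
  by_contra hcon
  have hodd : Odd p := hp.odd_of_ne_two hp2
  rcases Nat.even_or_odd a with ⟨b, hb⟩ | ho
  · -- a square plus one
    have hb1 : 1 ≤ b := by omega
    obtain ⟨c, hc⟩ : Odd (p ^ b) := hodd.pow
    have hr : 2 ≤ r := by
      by_contra hr
      have : p ^ b * p ^ b + 1 ≤ 2 := by
        rw [← pow_add, ← hb, ← h]
        calc 2 ^ r ≤ 2 ^ 1 := Nat.pow_le_pow_right two_pos (by omega)
          _ = 2 := pow_one 2
      have : 3 ≤ p ^ b := (show 3 ≤ p by have := hp.two_le; omega).trans (Nat.le_self_pow (by omega) p)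
      nlinarith
    obtain ⟨e, rfl⟩ : ∃ e, r = e + 2 := ⟨r - 2, by omega⟩
    rw [hb, pow_add, pow_add, hc] at h
    have : 4 * (2 ^ e) = 4 * (c * c + c) + 2 := by nlinarith
    omega
  · -- the cofactor of `p + 1` is odd
    have hdvd : (p : ℤ) + 1 ∣ (p : ℤ) ^ a + 1 := by
      have := Odd.add_dvd_pow_add_pow (p : ℤ) 1 ho
      rwa [one_pow] at this
    obtain ⟨m, hm⟩ := hdvd
    have hmodd : Odd m := by
      have key : (m : ZMod 2) = 1 := by
        have h1 : (p : ℤ) ^ a + 1 = ((p : ℤ) + 1) * ∑ i ∈ Finset.range a, (-1 : ℤ) ^ i * (p : ℤ) ^ i := by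
          have h2 := geom_sum_mul (-(p : ℤ)) a
          have h3 : ∑ i ∈ Finset.range a, (-1 : ℤ) ^ i * (p : ℤ) ^ i = ∑ i ∈ Finset.range a, (-(p : ℤ)) ^ i :=
            Finset.sum_congr rfl fun i _ => (neg_pow _ _).symm
          rw [h3]
          rw [ho.neg_pow] at h2
          linear_combination h2
        have hm' : m = ∑ i ∈ Finset.range a, (-1 : ℤ) ^ i * (p : ℤ) ^ i :=
          mul_left_cancel₀ (by omega : (p : ℤ) + 1 ≠ 0) (hm.symm.trans h1)
        rw [hm', Int.cast_sum]
        have hp1 : ((p : ℤ) : ZMod 2) = 1 := by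
          obtain ⟨c, rfl⟩ := hodd
          push_cast
          rw [show (2 : ZMod 2) = 0 from rfl, zero_mul, zero_add]
        have hn1 : ((-1 : ℤ) : ZMod 2) = 1 := by decide
        simp only [Int.cast_mul, Int.cast_pow, hp1, hn1, one_pow, mul_one, Finset.sum_const, Finset.card_range,
          nsmul_eq_mul]
        obtain ⟨c, rfl⟩ := ho
        push_cast
        rw [show (2 : ZMod 2) = 0 from rfl, zero_mul, zero_add]
      rcases Int.even_or_odd m with ⟨c, rfl⟩ | h'
      · push_cast at key
        rw [CharTwo.add_self_eq_zero] at key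
        exact absurd key (by decide)
      · exact h'
    have hm0 : 0 < m := by
      by_contra hle
      have : (0 : ℤ) < (p : ℤ) ^ a + 1 := by positivity
      nlinarith
    have hmn : m.natAbs ∣ 2 ^ r := by
      rw [h]
      have : (m.natAbs : ℤ) ∣ ((p ^ a + 1 : ℕ) : ℤ) := by
        push_cast
        rw [hm]
        rw [abs_dvd]
        exact dvd_mul_left m _
      exact_mod_cast this
    obtain ⟨j, -, hj⟩ := (Nat.dvd_prime_pow Nat.prime_two).1 hmn
    have hmo : Odd m.natAbs := hmodd.natAbs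
    have : m.natAbs = 1 := by
      rcases j with _ | j
      · simpa using hj
      · rw [hj] at hmo
        exact absurd hmo (Nat.not_odd_iff_even.2 (Even.pow_of_ne_zero even_two (by omega)))
    have hm1 : m = 1 := by omega
    rw [hm1, mul_one] at hm
    have h4 : p ^ a = p := by exact_mod_cast (by linarith : (p : ℤ) ^ a = p)
    have := Nat.pow_right_injective hp.two_le (h4.trans (pow_one p).symm)
    omega

/-- **Modulo the odd core.** -/
theorem exists_elementary {p k : ℕ} (hp : p.Prime) (hp2 : p ≠ 2)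
    (hcard : Nat.card {x : G // orderOf x = 2} = p ^ k)
    (hconj : ∀ x y : G, orderOf x = 2 → orderOf y = 2 → ∃ g : G, g * x * g⁻¹ = y) :
    ∃ E : Subgroup (G ⧸ Cfsg.oddCore G), E.Normal ∧ (∀ x ∈ E, x * x = 1) ∧
      (∀ x, x * x = 1 → x ∈ E) ∧ (∀ x ∈ E, ∀ y ∈ E, x ≠ 1 → y ≠ 1 → ∃ g, g * x * g⁻¹ = y) ∧
      ∃ a, a ≤ 1 ∧ Nat.card E = p ^ a + 1 := by
  haveI : Fact (Nat.Prime 2) := ⟨Nat.prime_two⟩
  haveI : (Cfsg.oddCore G).Normal := Cores.pPrimeCore_normal 2 G
  have hO : Odd (Nat.card (Cfsg.oddCore G)) := Nat.coprime_two_right.1 (Cores.coprime_card_pPrimeCore (G := G) 2)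
  obtain ⟨⟨z, hz⟩⟩ : Nonempty {x : G // orderOf x = 2} := (Nat.card_pos_iff.1 (by rw [hcard]; exact pow_pos hp.pos k)).1
  have hidx : (centralizer ({z} : Set G)).index = p ^ k := by
    rw [← QBaer.card_conjugatesOf, ← hcard]
    refine Nat.card_congr (Equiv.subtypeEquivRight fun x => ?_)
    show IsConj z x ↔ _
    refine ⟨fun h => (Involution.orderOf_eq_of_isConj h).symm.trans hz, fun hx => isConj_iff.2 ?_⟩
    exact hconj z x hz hx
  set π := QuotientGroup.mk' (Cfsg.oddCore G)
  set N := normalClosure ({z} : Set G)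
  haveI hN : Group.IsSolvable N := Kazarin.isSolvable_normalClosure hp hidx
  set E := N.map π
  haveI hEn : E.Normal := (normalClosure_normal (s := ({z} : Set G))).map _ (QuotientGroup.mk'_surjective _)
  haveI : Group.IsSolvable E := Group.isSolvable_of_surjective (π.subgroupMap_surjective N)
  have hOb : Cfsg.oddCore (G ⧸ Cfsg.oddCore G) = ⊥ := Cores.pPrimeCore_quotient_self 2
  have hlift : ∀ x : G ⧸ Cfsg.oddCore G, orderOf x = 2 → ∃ y : G, orderOf y = 2 ∧ π y = x := fun x hx =>
    Bender.exists_lift_involution hO hx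
  have hconjb : ∀ x y : G ⧸ Cfsg.oddCore G, orderOf x = 2 → orderOf y = 2 → ∃ g, g * x * g⁻¹ = y := by
    intro x y hx hy
    obtain ⟨x', hx', rfl⟩ := hlift x hx
    obtain ⟨y', hy', rfl⟩ := hlift y hy
    obtain ⟨g, rfl⟩ := hconj x' y' hx' hy'
    exact ⟨π g, by simp⟩
  have hzO : π z ≠ 1 := fun h => by
    have h1 := Subgroup.orderOf_dvd_natCard _ ((QuotientGroup.eq_one_iff z).1 h)
    rw [hz] at h1
    exact Nat.not_even_iff_odd.2 hO (even_iff_two_dvd.2 h1)
  have hzb : orderOf (π z) = 2 := Involution.orderOf_of_sq (by rw [← map_mul, Involution.mul_self hz, map_one]) hzO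
  have hzE : π z ∈ E := mem_map_of_mem π (subset_normalClosure rfl)
  have hallE : ∀ x : G ⧸ Cfsg.oddCore G, orderOf x = 2 → x ∈ E := fun x hx => by
    obtain ⟨g, rfl⟩ := hconjb _ x hzb hx
    exact hEn.conj_mem _ hzE g
  obtain ⟨a₀, -, ha₀⟩ : ∃ i ≤ k, (centralizer ({π z} : Set (G ⧸ Cfsg.oddCore G))).index = p ^ i :=
    (Nat.dvd_prime_pow hp).1 (hidx ▸ QBaer.dvd_index_map π (QuotientGroup.mk'_surjective _) z)
  -- the two-core of `E`
  set Q := (Cfsg.pCore 2 E).map E.subtype
  haveI hQn : Q.Normal := Cores.map_subtype_normal_of_characteristic E _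
  have hQ2 : IsPGroup 2 Q := (Cores.isPGroup_pCore 2 E).map _
  have hQC : Q ≤ centralizer ({π z} : Set (G ⧸ Cfsg.oddCore G)) := by
    set C := centralizer ({π z} : Set (G ⧸ Cfsg.oddCore G))
    obtain ⟨T⟩ : Nonempty (Sylow 2 C) := inferInstance
    have hT : IsPGroup 2 ↥((T : Subgroup C).map C.subtype) := T.isPGroup'.map _
    have hTidx : ¬ 2 ∣ ((T : Subgroup C).map C.subtype).index := by
      rw [Subgroup.index_map_subtype, ha₀]
      exact Nat.prime_two.not_dvd_mul T.not_dvd_index fun h =>
        hp2 ((Nat.prime_dvd_prime_iff_eq Nat.prime_two hp).1 (Nat.prime_two.dvd_of_dvd_pow h)).symm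
    let T' : Sylow 2 (G ⧸ Cfsg.oddCore G) := hT.toSylow hTidx
    exact (hQ2.le_sylow_of_normal T').trans (map_subtype_le (T : Subgroup C))
  have hEO : Cfsg.pPrimeCore 2 E = ⊥ := by
    refine (map_eq_bot_iff_of_injective _ E.subtype_injective).1 ?_
    haveI := Cores.map_subtype_normal_of_characteristic E (Cfsg.pPrimeCore 2 E)
    refine le_bot_iff.1 (hOb ▸ Cores.le_pPrimeCore this ?_)
    rw [card_map_of_injective E.subtype_injective]
    exact Cores.coprime_card_pPrimeCore 2
  have hcen := Solvable.centralizer_pCore_le_of_isSolvable (G := E) (p := 2) hEO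
  have hinQ : ∀ x : G ⧸ Cfsg.oddCore G, orderOf x = 2 → x ∈ Q ∧ ∀ q ∈ Q, Commute x q := by
    intro x hx
    obtain ⟨g, rfl⟩ := hconjb _ x hzb hx
    have hc : ∀ q ∈ Q, Commute (g * π z * g⁻¹) q := by
      intro q hq
      have h1 : g⁻¹ * q * g ∈ Q := by simpa using hQn.conj_mem q hq g⁻¹
      have h2 : Commute (π z) (g⁻¹ * q * g) :=
        (Involution.mem_centralizer_iff_commute.1 (hQC h1)).symm
      have := h2.map (MulAut.conj g).toMonoidHom
      simpa [mul_assoc] using this
    refine ⟨⟨⟨_, hEn.conj_mem _ hzE g⟩, hcen (mem_centralizer_iff.2 fun q hq => Subtype.ext ?_), rfl⟩, hc⟩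
    exact (hc (q : G ⧸ Cfsg.oddCore G) (mem_map_of_mem E.subtype hq)).eq.symm
  -- the elementary abelian subgroup
  let E₀ : Subgroup (G ⧸ Cfsg.oddCore G) :=
    { carrier := {x | x * x = 1}
      one_mem' := one_mul 1
      mul_mem' := by
        intro x y hx hy
        show x * y * (x * y) = 1
        by_cases hx1 : x = 1
        · subst hx1; simpa using hy
        by_cases hy1 : y = 1
        · subst hy1; simpa using hx
        have hc : Commute x y :=
          (hinQ x (Involution.orderOf_of_sq hx hx1)).2 y (hinQ y (Involution.orderOf_of_sq hy hy1)).1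
        rw [← sq, hc.mul_pow, sq, sq, show x * x = 1 from hx, show y * y = 1 from hy, one_mul]
      inv_mem' := by
        intro x hx
        show x⁻¹ * x⁻¹ = 1
        rw [← mul_inv_rev, show x * x = 1 from hx, inv_one] }
  refine ⟨E₀, ⟨fun x hx g => ?_⟩, fun x hx => hx, fun x hx => hx, fun x hx y hy hx1 hy1 =>
    hconjb x y (Involution.orderOf_of_sq hx hx1) (Involution.orderOf_of_sq hy hy1), ?_⟩
  · show g * x * g⁻¹ * (g * x * g⁻¹) = 1
    rw [show g * x * g⁻¹ * (g * x * g⁻¹) = g * (x * x) * g⁻¹ by group, show x * x = 1 from hx]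
    simp
  have h2E : IsPGroup 2 E₀ := fun x => ⟨1, Subtype.ext (by
    show ((x : G ⧸ Cfsg.oddCore G)) ^ 2 ^ 1 = 1
    rw [pow_one, sq]; exact x.2)⟩
  obtain ⟨r, hr⟩ := IsPGroup.iff_card.1 h2E
  have hclass : Nat.card E₀ = p ^ a₀ + 1 := by
    classical
    rw [← ha₀, ← QBaer.card_conjugatesOf, Nat.card_coe_set_eq (conjugatesOf (π z)), ← SetLike.coe_sort_coe,
      Nat.card_coe_set_eq]
    have hset : (E₀ : Set (G ⧸ Cfsg.oddCore G)) = insert 1 (conjugatesOf (π z)) := by
      ext x
      show x ∈ E₀ ↔ x = 1 ∨ IsConj (π z) x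
      constructor
      · intro hx
        by_cases hx1 : x = 1
        · exact Or.inl hx1
        · exact Or.inr (isConj_iff.2 (hconjb _ x hzb (Involution.orderOf_of_sq hx hx1)))
      · rintro (rfl | h)
        · exact one_mem E₀
        · obtain ⟨-, h2⟩ := Involution.orderOf_eq_two_iff.1 ((Involution.orderOf_eq_of_isConj h).symm.trans hzb)
          exact h2
    rw [hset, Set.ncard_insert_of_notMem (fun h : (1 : G ⧸ Cfsg.oddCore G) ∈ conjugatesOf (π z) =>
      hzO (isConj_one_left.1 h))
      (Set.toFinite _)]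
  exact ⟨a₀, exponent_le_one hp hp2 (hr.symm.trans hclass), hclass⟩

/-- A group is solvable if some term of its derived series is. -/
theorem isSolvable_of_derived {H : Type*} [Group H] : ∀ i, Group.IsSolvable ↥(derivedSeries H i) → Group.IsSolvable H
  | i, ⟨⟨n, hn⟩⟩ => ⟨⟨i + n, by
      have key : ∀ j, derivedSeries H (i + j) ≤ (derivedSeries ↥(derivedSeries H i) j).map (derivedSeries H i).subtype := by
        intro j
        induction j with
        | zero => simp [← MonoidHom.range_eq_map]
        | succ j ih =>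
          rw [← Nat.add_assoc, derivedSeries_succ, derivedSeries_succ, Subgroup.map_commutator]
          exact commutator_mono ih ih
      refine le_bot_iff.1 ((key n).trans ?_)
      rw [hn, Subgroup.map_bot]⟩⟩

/-- The main theorem, given the case of a four group or larger. -/
theorem isSolvable_of_pyr
    (hpyr : ∀ (H : Type u) [Group H] [Finite H] (E : Subgroup H), Pyr E → Group.IsSolvable H)
    {p k : ℕ} (hp : p.Prime) (hp2 : p ≠ 2) (hk : Odd k ∨ p ^ k = 9)
    (hcard : Nat.card {x : G // orderOf x = 2} = p ^ k)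
    (hconj : ∀ x y : G, orderOf x = 2 → orderOf y = 2 → ∃ g : G, g * x * g⁻¹ = y) :
    Group.IsSolvable G := by
  haveI : Fact (Nat.Prime 2) := ⟨Nat.prime_two⟩
  haveI : (Cfsg.oddCore G).Normal := Cores.pPrimeCore_normal 2 G
  have hO : Odd (Nat.card (Cfsg.oddCore G)) := Nat.coprime_two_right.1 (Cores.coprime_card_pPrimeCore (G := G) 2)
  haveI : Group.IsSolvable (Cfsg.oddCore G) := OddOrderTheorem.solvable hO
  set π := QuotientGroup.mk' (Cfsg.oddCore G)
  suffices Group.IsSolvable (G ⧸ Cfsg.oddCore G) from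
    Group.isSolvable_of_ker_le_range (Cfsg.oddCore G).subtype π (by rw [QuotientGroup.ker_mk', range_subtype])
  obtain ⟨E, hEn, hsq, hmem, htr, a, ha, hcE⟩ := exists_elementary hp hp2 hcard hconj
  rcases Nat.le_one_iff_eq_zero_or_eq_one.1 ha with rfl | rfl
  · -- a central involution
    by_contra hns
    rw [pow_zero] at hcE
    obtain ⟨e, he, he1, huniq⟩ : ∃ e ∈ E, e ≠ 1 ∧ ∀ x ∈ E, x ≠ 1 → x = e := by
      obtain ⟨e, he, hu⟩ := (Nat.card_eq_two_iff' (1 : E)).1 hcE
      exact ⟨e, e.2, fun h => he (Subtype.ext h), fun x hx hx1 =>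
        congrArg Subtype.val (hu ⟨x, hx⟩ fun h => hx1 (congrArg Subtype.val h))⟩
    obtain ⟨z, hz, rfl⟩ := Bender.exists_lift_involution hO
      (Involution.orderOf_of_sq (hsq e he) he1)
    set C := centralizer ({z} : Set G)
    have hsup : C ⊔ Cfsg.oddCore G = ⊤ := by
      rw [eq_top_iff]
      intro x _
      obtain ⟨o, ho, hox⟩ := Constrained.exists_mul_mem_centralizer (p := 2)
        (O := Cfsg.oddCore G) (T := zpowers z) (fun h => Nat.not_even_iff_odd.2 hO (even_iff_two_dvd.2 h))
        (IsPGroup.of_card (n := 1) (by rw [Nat.card_zpowers, hz, pow_one])) (x := x) (fun v hv => by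
          obtain ⟨j, rfl⟩ := mem_zpowers_iff.1 hv
          refine (QuotientGroup.eq_one_iff _).1 ?_
          show π (x * z ^ j * x⁻¹ * (z ^ j)⁻¹) = 1
          have hc : π x * π z * (π x)⁻¹ = π z := huniq _ (hEn.conj_mem _ he _)
            (fun h => he1 (conj_eq_one_iff.1 h))
          rw [map_mul, map_mul, map_mul, map_inv, map_inv, map_zpow, ← conj_zpow, hc, mul_inv_cancel])
      have h1 : o * x ∈ C := Involution.mem_centralizer_iff_commute.2
        (mem_centralizer_iff.1 hox z (mem_zpowers z)).symm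
      rw [show x = o⁻¹ * (o * x) by group]
      exact mul_mem (mem_sup_right (inv_mem ho)) (mem_sup_left h1)
    have hder : ∀ i, z ∈ (derivedSeries ↥C i).map C.subtype := by
      intro i
      set D := (derivedSeries ↥C i).map C.subtype
      have hmap : D.map π = derivedSeries (G ⧸ Cfsg.oddCore G) i := by
        have hsur : Function.Surjective (π.comp C.subtype) := by
          intro y
          obtain ⟨x, rfl⟩ := QuotientGroup.mk'_surjective _ y
          have hx : x ∈ C ⊔ Cfsg.oddCore G := hsup ▸ mem_top x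
          obtain ⟨c, hc, o, ho, rfl⟩ := mem_sup_of_normal_right.1 hx
          exact ⟨⟨c, hc⟩, by
            show π c = π (c * o)
            rw [map_mul, show π o = 1 from (QuotientGroup.eq_one_iff o).2 ho, mul_one]⟩
        rw [← map_derivedSeries_eq hsur i, ← Subgroup.map_map]
      have heven : Even (Nat.card (derivedSeries (G ⧸ Cfsg.oddCore G) i)) := by
        by_contra hodd
        exact hns (isSolvable_of_derived i (OddOrderTheorem.solvable (Nat.not_even_iff_odd.1 hodd)))
      obtain ⟨t, htD, ht⟩ := Involution.exists_involution_mem heven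
      have hte : t = π z := by
        obtain ⟨h1, h2⟩ := Involution.orderOf_eq_two_iff.1 ht
        exact huniq t (hmem t h2) h1
      rw [← hmap] at htD
      obtain ⟨l, hl, hlt⟩ := mem_map.1 htD
      obtain ⟨⟨c, hcC⟩, hc, rfl⟩ := mem_map.1 hl
      have hlz : z⁻¹ * c ∈ Cfsg.oddCore G := QuotientGroup.eq.1 (show (z : G ⧸ Cfsg.oddCore G) = c from
        (hlt.trans hte).symm)
      have hcz : Commute c z := Involution.mem_centralizer_iff_commute.1 hcC
      have hpow : c ^ Nat.card (Cfsg.oddCore G) = z := by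
        obtain ⟨j, hj⟩ := hO
        conv_lhs => rw [show c = z * (z⁻¹ * c) by group]
        rw [Commute.mul_pow (((Commute.refl z).inv_right).mul_right hcz.symm),
          orderOf_dvd_iff_pow_eq_one.1 (Subgroup.orderOf_dvd_natCard _ hlz), mul_one, hj, pow_succ, pow_mul, sq,
          Involution.mul_self hz, one_pow, one_mul]
      rw [← hpow]
      exact pow_mem (mem_map_of_mem C.subtype hc) _
    have hidx : C.index = p ^ k := by
      rw [← hcard, ← QBaer.card_conjugatesOf]
      refine Nat.card_congr (Equiv.subtypeEquivRight fun x => ?_)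
      show IsConj z x ↔ _
      exact ⟨fun h => (Involution.orderOf_eq_of_isConj h).symm.trans hz, fun hx => isConj_iff.2 (hconj z x hz hx)⟩
    obtain ⟨h1, h2⟩ := exponent_even _ G (Cfsg.oddCore G) rfl hO z hz hsup hder p k hp hp2 hidx
    rcases hk with hk | hk
    · exact (Nat.not_even_iff_odd.2 hk) h1
    · exact h2 hk
  · refine hpyr _ E ⟨hEn, hsq, hmem, htr, Cores.pPrimeCore_quotient_self 2, ?_⟩
    rw [hcE, pow_one, Nat.add_sub_cancel]
    exact hp

end Cfsg.Agent.Pyramidal
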