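import Cfsg.Agent.Lib.Pyramidal.Model
import Cfsg.Agent.Lib.Pyramidal.GL3
import Mathlib.LinearAlgebra.Matrix.ToLin
import Mathlib.LinearAlgebra.Determinant
import Mathlib.FieldTheory.Finite.Basic

/-!
# The full linear group in dimension three: abelian kernel

If `C(E) = T` is abelian, it is homocyclic of rank three, a lift `t` of a Jordan block has determinant `1` on
it, and then some `t² x` is an involution outside `E`.

* `Pyr.not_full_abelian`
-/

set_option autoImplicit false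
set_option linter.style.haveILetI false
set_option linter.unusedSectionVars false
set_option maxHeartbeats 1600000
set_option synthInstance.maxHeartbeats 200000

namespace Cfsg.Agent.Pyramidal

open Subgroup GL3 Matrix

universe u

/-- A unit of `ZMod (2 ^ l)` of order dividing `7` is `1`. -/
theorem unit_seven (l : ℕ) (x : (ZMod (2 ^ (l + 1)))ˣ) (hx : x ^ 7 = 1) : x = 1 := by
  haveI : NeZero (2 ^ (l + 1)) := ⟨by positivity⟩
  have h1 : x ^ 2 ^ l = 1 := by
    have := ZMod.pow_totient x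
    rw [Nat.totient_prime_pow Nat.prime_two (Nat.succ_pos l)] at this
    simpa using this
  exact orderOf_eq_one_iff.1 (Nat.eq_one_of_dvd_coprimes ((show Nat.Coprime 7 2 by norm_num).pow_right l)
    (orderOf_dvd_of_pow_eq_one hx) (orderOf_dvd_of_pow_eq_one h1))

variable {G : Type u} [Group G] [Finite G] {E : Subgroup G}

theorem Pyr.not_full_abelian (h : Pyr E) (M : Model E V3) (hM : Function.Surjective M.ρ) {T : Subgroup G}
    [T.Normal] (hTD : T = centralizer (E : Set G)) (hT : IsPGroup 2 T)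
    (hc : ∀ a ∈ T, ∀ b ∈ T, Commute a b) : False := by
  classical
  haveI : Fact (Nat.Prime 2) := ⟨Nat.prime_two⟩
  have hET : E ≤ T := hTD ▸ h.le_centralizer
  have hker : ∀ g, M.ρ g = 1 ↔ g ∈ T := fun g => by rw [hTD]; exact M.ρ_eq_one_iff
  -- the exponent
  have hexp : ∃ k, ∀ a ∈ T, a ^ 2 ^ k = 1 := by
    obtain ⟨k, hk⟩ := IsPGroup.iff_card.1 hT
    refine ⟨k, fun a ha => ?_⟩
    rw [← hk]
    exact congrArg Subtype.val (pow_card_eq_one' (x := (⟨a, ha⟩ : T)))
  obtain ⟨l, hl, hmin⟩ : ∃ l, (∀ a ∈ T, a ^ 2 ^ (l + 1) = 1) ∧ ∃ a ∈ T, a ^ 2 ^ l ≠ 1 := by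
    refine ⟨Nat.find hexp - 1, ?_, ?_⟩
    · exact fun a ha => by
        by_cases h0 : Nat.find hexp = 0
        · have := Nat.find_spec hexp a ha
          rw [h0, pow_zero, pow_one] at this
          rw [this, one_pow]
        · rw [Nat.sub_add_cancel (Nat.one_le_iff_ne_zero.2 h0)]; exact Nat.find_spec hexp a ha
    · have h0 : Nat.find hexp ≠ 0 := fun h0 => by
        have h1 := M.mem (1, 0, 0)
        have := Nat.find_spec hexp _ (hET h1)
        rw [h0, pow_zero, pow_one, M.eq_one_iff] at this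
        simp at this
      have := Nat.find_min hexp (m := Nat.find hexp - 1) (by omega)
      simpa using this
  -- every involution is a top power
  have htop : ∀ v : V3, ∃ a ∈ T, a ^ 2 ^ l = M.θ v := by
    intro v
    obtain ⟨a, ha, ha1⟩ := hmin
    have hsq : a ^ 2 ^ l * a ^ 2 ^ l = 1 := by rw [← pow_add, ← two_mul, ← pow_succ']; exact hl a ha
    by_cases hv : M.θ v = 1
    · exact ⟨1, one_mem T, by rw [one_pow, hv]⟩
    obtain ⟨g, hg⟩ := h.trans _ (h.mem _ hsq) _ (M.mem v) ha1 hv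
    exact ⟨g * a * g⁻¹, Subgroup.Normal.conj_mem ‹_› a ha g, by rw [conj_pow, hg]⟩
  -- the module
  haveI : NeZero (2 ^ (l + 1)) := ⟨by positivity⟩
  letI : CommGroup T :=
    { (inferInstance : Group T) with mul_comm := fun a b => Subtype.ext (hc a a.2 b b.2) }
  have hexp' : ∀ x : Additive T, 2 ^ (l + 1) • x = 0 := fun x => Additive.toMul.injective (by
    rw [toMul_nsmul]; exact Subtype.ext (hl _ (Additive.toMul x).2))
  haveI : Module (ZMod (2 ^ (l + 1))) (Additive T) := AddCommGroup.zmodModule hexp'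
  let L : G → (Additive T ≃ₗ[(ZMod (2 ^ (l + 1)))] Additive T) := fun g =>
    (MulEquiv.toAdditive (MulAut.conjNormal g : T ≃* T)).toLinearEquiv fun c x => ZMod.map_smul _ c x
  let val : Additive T → G := fun x => ((Additive.toMul x : T) : G)
  have hval : ∀ {x y : Additive T}, val x = val y → x = y :=
    fun h => Additive.toMul.injective (Subtype.ext h)
  have hvmem : ∀ x, val x ∈ T := fun x => (Additive.toMul x : T).2
  have hv0 : val 0 = 1 := rfl
  have hvadd : ∀ x y, val (x + y) = val x * val y := fun x y => rfl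
  have hvsmul : ∀ (n : ℕ) x, val ((n : (ZMod (2 ^ (l + 1)))) • x) = val x ^ n := fun n x => by
    rw [Nat.cast_smul_eq_nsmul]; rfl
  have hLv : ∀ g x, val (L g x) = g * val x * g⁻¹ := fun g x => by
    show (((MulAut.conjNormal g : MulAut T) (Additive.toMul x) : T) : G) = _
    rw [MulAut.conjNormal_apply]
  let φ : G →* (Additive T ≃ₗ[(ZMod (2 ^ (l + 1)))] Additive T) :=
    { toFun := L
      map_one' := LinearEquiv.ext fun x => hval (by rw [hLv]; simp)
      map_mul' := fun a b => LinearEquiv.ext fun x => hval (by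
        rw [hLv]; show _ = val (L a (L b x)); rw [hLv, hLv]; group) }
  have hφT : ∀ g ∈ T, φ g = 1 := fun g hg => LinearEquiv.ext fun x => hval (by
    show val (L g x) = val x
    rw [hLv, (hc g hg _ (hvmem x)).eq, mul_inv_cancel_right])
  -- a cyclic basis
  obtain ⟨t, ht⟩ := hM jor
  obtain ⟨x0', hx0T, hx0⟩ := htop (0, 0, 1)
  let x0 : Additive T := Additive.ofMul ⟨x0', hx0T⟩
  let b : Fin 3 → Additive T := ![x0, L t x0, L t (L t x0)]
  let ψ : (Fin 3 → (ZMod (2 ^ (l + 1)))) →ₗ[(ZMod (2 ^ (l + 1)))] Additive T := Fintype.linearCombination (ZMod (2 ^ (l + 1))) b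
  have hψ : ∀ c, ψ c = c 0 • x0 + c 1 • L t x0 + c 2 • L t (L t x0) := fun c => by
    simp [ψ, b, Fintype.linearCombination_apply, Fin.sum_univ_three]
  have hbtop : val x0 ^ 2 ^ l = M.θ (0, 0, 1) ∧ val (L t x0) ^ 2 ^ l = M.θ (jor (0, 0, 1)) ∧
      val (L t (L t x0)) ^ 2 ^ l = M.θ (jor (jor (0, 0, 1))) := by
    refine ⟨hx0, ?_, ?_⟩
    · rw [hLv, conj_pow, show val x0 ^ 2 ^ l = _ from hx0, ← M.conj, ht]
    · rw [hLv, hLv, conj_pow, conj_pow, show val x0 ^ 2 ^ l = _ from hx0, ← M.conj, ht, ← M.conj, ht]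
  have hθs : ∀ (n : ℕ) (v : V3), M.θ v ^ n = M.θ ((n : ZMod 2) • v) := by
    intro n v
    induction n with
    | zero => simp [M.map_zero]
    | succ n ih => rw [pow_succ, ih, ← M.map_add, Nat.cast_succ, add_smul, one_smul]
  have hmulpow : ∀ a b, val (a + b) ^ 2 ^ l = val a ^ 2 ^ l * val b ^ 2 ^ l := fun a b => by
    rw [hvadd, (hc _ (hvmem a) _ (hvmem b)).mul_pow]
  have hpsiTop : ∀ n0 n1 n2 : ℕ, val (ψ ![(n0 : (ZMod (2 ^ (l + 1)))), (n1 : (ZMod (2 ^ (l + 1)))), (n2 : (ZMod (2 ^ (l + 1))))]) ^ 2 ^ l =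
      M.θ ((n0 : ZMod 2) • (0, 0, 1) + (n1 : ZMod 2) • jor (0, 0, 1) + (n2 : ZMod 2) • jor (jor (0, 0, 1))) := by
    intro n0 n1 n2
    rw [hψ]
    show val ((n0 : (ZMod (2 ^ (l + 1)))) • x0 + (n1 : (ZMod (2 ^ (l + 1)))) • L t x0 + (n2 : (ZMod (2 ^ (l + 1)))) • L t (L t x0)) ^ 2 ^ l = _
    simp only [hmulpow, hvsmul, ← pow_mul, mul_comm _ (2 ^ l)]
    simp only [pow_mul, hbtop.1, hbtop.2.1, hbtop.2.2, hθs, ← M.map_add]
  -- surjectivity and injectivity
  have hsurj : Function.Surjective ψ := by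
    suffices key : ∀ i ≤ l + 1, ∀ y : Additive T, val y ^ 2 ^ i = 1 → y ∈ LinearMap.range ψ from
      fun y => key (l + 1) le_rfl y (hl _ (hvmem y))
    intro i
    induction i with
    | zero =>
      intro _ y hy
      rw [pow_zero, pow_one] at hy
      exact ⟨0, by rw [map_zero]; exact hval (hv0.trans hy.symm)⟩
    | succ i ih =>
      intro hi y hy
      have hz : val y ^ 2 ^ i * val y ^ 2 ^ i = 1 := by rw [← pow_add, ← two_mul, ← pow_succ', hy]
      obtain ⟨v, hv⟩ := M.surj _ (h.mem _ hz)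
      obtain ⟨a0, a1, a2, hv'⟩ := jor_span v
      set w := ψ ![((a0.val : ℕ) : (ZMod (2 ^ (l + 1)))), ((a1.val : ℕ) : (ZMod (2 ^ (l + 1)))), ((a2.val : ℕ) : (ZMod (2 ^ (l + 1))))]
      have hw : val w ^ 2 ^ l = val y ^ 2 ^ i := by
        rw [hpsiTop, ← hv, ← hv', ZMod.natCast_zmod_val, ZMod.natCast_zmod_val, ZMod.natCast_zmod_val]
      set w' := ((2 ^ (l - i) : ℕ) : (ZMod (2 ^ (l + 1)))) • w
      have hsub : y - w' ∈ LinearMap.range ψ := by
        refine ih (by omega) _ ?_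
        have h2 : val w' ^ 2 ^ i = val y ^ 2 ^ i := by
          rw [hvsmul, ← pow_mul, ← pow_add, show l - i + i = l by omega, hw]
        have h3 : val y = val (y - w') * val w' := by rw [← hvadd, sub_add_cancel]
        have h4 := congrArg (· ^ 2 ^ i) h3
        simp only [(hc _ (hvmem (y - w')) _ (hvmem w')).mul_pow, h2] at h4
        exact mul_eq_right.1 h4.symm
      have hw' : w' ∈ LinearMap.range ψ := Submodule.smul_mem _ _ (LinearMap.mem_range_self ψ _)
      have := add_mem hsub hw'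
      rwa [sub_add_cancel] at this
  have hinj : Function.Injective ψ := by
    refine (injective_iff_map_eq_zero ψ).2 fun c hc0 => funext fun i => ?_
    obtain ⟨n, hn⟩ : ∃ n : Fin 3 → ℕ, ∀ j, ((n j : ℕ) : (ZMod (2 ^ (l + 1)))) = c j :=
      ⟨fun j => (c j).val, fun j => ZMod.natCast_zmod_val _⟩
    suffices key : ∀ k ≤ l + 1, ∀ j, 2 ^ k ∣ n j by
      rw [← hn i, Pi.zero_apply, ZMod.natCast_eq_zero_iff]
      exact key (l + 1) le_rfl i
    intro k
    induction k with
    | zero => intro _ j; rw [pow_zero]; exact one_dvd _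
    | succ k ih =>
      intro hk
      choose m hm using fun j => ih (by omega) j
      have h1 : ((2 ^ k : ℕ) : (ZMod (2 ^ (l + 1)))) • ψ ![(m 0 : (ZMod (2 ^ (l + 1)))), (m 1 : (ZMod (2 ^ (l + 1)))), (m 2 : (ZMod (2 ^ (l + 1))))] = 0 := by
        rw [← map_smul]
        convert hc0 using 2
        funext j
        fin_cases j <;> simp [← hn, hm]
      have h2 := congrArg val h1
      rw [hvsmul, hv0] at h2
      have h3 : val (ψ ![(m 0 : (ZMod (2 ^ (l + 1)))), (m 1 : (ZMod (2 ^ (l + 1)))), (m 2 : (ZMod (2 ^ (l + 1))))]) ^ 2 ^ l = 1 := by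
        rw [show (2 : ℕ) ^ l = 2 ^ k * 2 ^ (l - k) by rw [← pow_add]; congr 1; omega, pow_mul, h2, one_pow]
      rw [hpsiTop, M.eq_one_iff] at h3
      obtain ⟨e0, e1, e2⟩ := jor_basis _ _ _ h3
      rw [ZMod.natCast_eq_zero_iff] at e0 e1 e2
      intro j
      rw [pow_succ, hm j]
      exact mul_dvd_mul_left _ (by fin_cases j <;> assumption)
  let ψe : (Fin 3 → (ZMod (2 ^ (l + 1)))) ≃ₗ[(ZMod (2 ^ (l + 1)))] Additive T := LinearEquiv.ofBijective ψ ⟨hinj, hsurj⟩
  have hψe : ∀ c, ψe c = ψ c := fun c => rfl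
  -- the companion matrix
  set c := ψe.symm (L t (L t (L t x0))) with hcdef
  have h3 : L t (L t (L t x0)) = c 0 • x0 + c 1 • L t x0 + c 2 • L t (L t x0) := by
    rw [← hψ, ← hψe, hcdef, LinearEquiv.apply_symm_apply]
  have hLψ : ∀ a : Fin 3 → (ZMod (2 ^ (l + 1))), L t (ψ a) = ψ ![a 2 * c 0, a 0 + a 2 * c 1, a 1 + a 2 * c 2] := by
    intro a
    rw [hψ, hψ]
    simp only [map_add, map_smul, h3, Matrix.cons_val_zero, Matrix.cons_val_one, Matrix.head_cons,
      Matrix.cons_val, smul_add, smul_smul, add_smul]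
    abel
  have hdet : LinearMap.det ((φ t : Additive T ≃ₗ[(ZMod (2 ^ (l + 1)))] Additive T) : Additive T →ₗ[(ZMod (2 ^ (l + 1)))] Additive T) = c 0 := by
    have e : (Matrix.toLin' !![0, 0, c 0; 1, 0, c 1; 0, 1, c 2] : (Fin 3 → (ZMod (2 ^ (l + 1)))) →ₗ[(ZMod (2 ^ (l + 1)))] (Fin 3 → (ZMod (2 ^ (l + 1))))) =
        (ψe.symm : Additive T →ₗ[(ZMod (2 ^ (l + 1)))] Fin 3 → (ZMod (2 ^ (l + 1)))) ∘ₗ ((φ t : Additive T ≃ₗ[(ZMod (2 ^ (l + 1)))] Additive T) : Additive T →ₗ[(ZMod (2 ^ (l + 1)))] Additive T) ∘ₗ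
          (ψe : (Fin 3 → (ZMod (2 ^ (l + 1)))) →ₗ[(ZMod (2 ^ (l + 1)))] Additive T) := by
      refine LinearMap.ext fun a => ψe.injective ?_
      show ψe _ = ψe (ψe.symm (L t (ψ a)))
      rw [LinearEquiv.apply_symm_apply, hLψ, hψe]
      congr 1
      funext j
      fin_cases j <;> simp [Matrix.toLin'_apply, Matrix.mulVec, dotProduct, Fin.sum_univ_three] <;> ring
    have h := congrArg LinearMap.det e
    rw [LinearMap.det_toLin', Matrix.det_fin_three] at h
    rw [show LinearMap.det ((φ t : Additive T ≃ₗ[(ZMod (2 ^ (l + 1)))] Additive T) : Additive T →ₗ[(ZMod (2 ^ (l + 1)))] Additive T) =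
      LinearMap.det ((ψe.symm : Additive T →ₗ[(ZMod (2 ^ (l + 1)))] Fin 3 → (ZMod (2 ^ (l + 1)))) ∘ₗ
        ((φ t : Additive T ≃ₗ[(ZMod (2 ^ (l + 1)))] Additive T) : Additive T →ₗ[(ZMod (2 ^ (l + 1)))] Additive T) ∘ₗ
          (ψe : (Fin 3 → (ZMod (2 ^ (l + 1)))) →ₗ[(ZMod (2 ^ (l + 1)))] Additive T)) from (LinearMap.det_conj _ ψe.symm).symm.trans (by
        rw [LinearEquiv.symm_symm]), ← h]
    simp
  have hc0 : c 0 = 1 := by
    let χ : G →* (ZMod (2 ^ (l + 1)))ˣ := LinearEquiv.det.comp φ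
    have hχT : ∀ g ∈ T, χ g = 1 := fun g hg => by simp [χ, hφT g hg]
    have h7 : ∀ L' : L3, L' ^ 7 = 1 → ∀ g, M.ρ g = L' → χ g = 1 := fun L' hL g hg =>
      unit_seven l _ (by rw [← map_pow]; exact hχT _ ((hker _).1 (by rw [map_pow, hg, hL])))
    obtain ⟨g1, hg1⟩ := hM sevU
    obtain ⟨g2, hg2⟩ := hM sevT'
    have hmem : (g1 * g2)⁻¹ * t ∈ T := (hker _).1 (by
      rw [map_mul, map_inv, map_mul, hg1, hg2, ht, ← jor_eq, inv_mul_cancel])
    have h1 : χ t = 1 := by
      rw [show t = g1 * g2 * ((g1 * g2)⁻¹ * t) by group, map_mul, map_mul, hχT _ hmem,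
        h7 _ sevU_pow g1 hg1, h7 _ sevT'_pow g2 hg2, one_mul, one_mul]
    rw [← hdet]
    have := congrArg Units.val h1
    rwa [Units.val_one, MonoidHom.comp_apply, LinearEquiv.coe_det] at this
  -- the fourth power
  have ht4T : t ^ 4 ∈ T := (hker _).1 (by rw [map_pow, ht, jor_pow])
  have hL4 : ∀ x, L t (L t (L t (L t x))) = x := fun x => by
    have := LinearEquiv.congr_fun (hφT _ ht4T) x
    rwa [map_pow] at this
  have hcoef : c 2 = 1 ∧ c 1 = -1 := by
    have h := hL4 (ψ ![1, 0, 0])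
    simp only [hLψ, Matrix.cons_val_zero, Matrix.cons_val_one, Matrix.cons_val, hc0, zero_mul, mul_zero,
      add_zero, zero_add, mul_one, one_mul] at h
    have h' := hinj h
    have a0 := congrFun h' 0
    have a1 := congrFun h' 1
    simp only [Matrix.cons_val_zero, Matrix.cons_val_one, Matrix.cons_val] at a0 a1
    rw [a0] at a1
    exact ⟨a0, by linear_combination a1⟩
  obtain ⟨v, hv⟩ := hsurj (Additive.ofMul ⟨t ^ 4, ht4T⟩)
  have hfixv : L t (ψ v) = ψ v := hval (by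
    rw [hLv, hv]
    show t * t ^ 4 * t⁻¹ = t ^ 4
    rw [((Commute.refl t).pow_right 4).eq, mul_inv_cancel_right])
  rw [hLψ] at hfixv
  have hv' := hinj hfixv
  have a0 := congrFun hv' 0
  have a1 := congrFun hv' 1
  simp only [Matrix.cons_val_zero, Matrix.cons_val_one, Matrix.cons_val, hc0, hcoef.2, mul_one] at a0 a1
  have hv1 : v 1 = 0 := by rw [← a1, ← a0]; ring
  set x := ψ ![-v 2, 0, 0]
  have hsum : L t (L t x) + ψ v + x = 0 := by
    rw [show x = ψ ![-v 2, 0, 0] from rfl, hLψ, hLψ, ← map_add, ← map_add]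
    convert map_zero ψ using 2
    funext j
    fin_cases j <;> simp [hc0, hv1, ← a0, hcoef.1, hcoef.2, Matrix.vecHead, Matrix.vecTail]
  have hy : (t ^ 2 * val x) * (t ^ 2 * val x) = 1 := by
    have e := congrArg val hsum
    rw [hvadd, hvadd, hv0, hLv, hLv, hv] at e
    rw [← e]
    show _ = t * (t * val x * t⁻¹) * t⁻¹ * t ^ 4 * val x
    rw [pow_two, show t ^ 4 = t * t * (t * t) by simp [pow_succ, mul_assoc]]
    simp only [mul_assoc, inv_mul_cancel_left]
  have hyE := h.mem _ hy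
  refine jor_sq_ne ?_
  have h1 : M.ρ (t ^ 2 * val x) = 1 := (hker _).2 (hET hyE)
  rwa [map_mul, (hker _).2 (hvmem x), mul_one, map_pow, ht] at h1

end Cfsg.Agent.Pyramidal
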