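import Cfsg.Agent.Lib.Pyramidal.GL3
import Cfsg.Agent.Lib.Pyramidal.BigDim

/-!
# The full linear group in dimension three: Suzuki kernel of order `2⁹`, the actions

`U = T / E` with the squaring map `q : U → F₂³`, acted on by an extension `X` of `GL(3,2)` by a group of odd
order acting freely. The extension splits, and then the fixed points of an element of order three give an
equivariant section of `q`, which contradicts an orbit sum of order seven.

* `suzuki_contra`
-/

set_option autoImplicit false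
set_option linter.style.haveILetI false
set_option linter.unusedSectionVars false
set_option maxHeartbeats 1600000

namespace Cfsg.Agent.Pyramidal

open Subgroup GL3

theorem v3_add_self : ∀ v : V3, v + v = 0 := by decide

theorem v3_snd_eq_zero : ∀ v : V3, v.2 = 0 → v = 0 ∨ v = (1, 0, 0) := by decide

theorem v3_coord : ∀ v : V3,
    v = v.1 • ((1, 0, 0) : V3) + v.2.1 • (0, 1, 0) + v.2.2 • (0, 0, 1) := by decide

theorem pow_apply_eq (g : L3) : ∀ (n : ℕ) (v : V3), (g ^ n) v = (⇑g)^[n] v := by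
  intro n
  induction n with
  | zero => intro v; rfl
  | succ n ih => intro v; rw [pow_succ', Function.iterate_succ_apply', ← ih]; rfl

universe u v

theorem suzuki_contra {X : Type u} {U : Type v} [Group X] [Finite X] [CommGroup U] [Finite U]
    (hU2 : ∀ x : U, x * x = 1) (ρ : X →* L3) (hρ : Function.Surjective ρ) (hodd : Odd (Nat.card ρ.ker))
    (Φ : X →* MulAut U) (q : U → V3) (hq0 : ∀ x, q x = 0 ↔ x = 1)
    (heq : ∀ g x, q (Φ g x) = ρ g (q x))
    (hpol : ∀ x y z, q (x * y * z) + q (x * y) + q (x * z) + q (y * z) + q x + q y + q z = 0)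
    (hfib : ∀ v : V3, v ≠ 0 → Nat.card {x : U // q x = v} = 9)
    (hfree : ∀ k, ρ k = 1 → k ≠ 1 → ∀ x : U, x ≠ 1 → Φ k x ≠ x)
    (hQ8 : ∀ (w a : X) (i j : U) (f : V3), w ^ 3 = 1 → w ≠ 1 → a * a = 1 → a ≠ 1 → a * w * a⁻¹ = w⁻¹ →
      i ≠ 1 → j ≠ 1 → i ≠ j → q i = f → q j = f → q (i * j) = f →
      (∀ v, ρ w v = v → v = 0 ∨ v = f) → Φ w i = i → Φ w j = j →
      (∀ x, Φ w x = x → x = 1 ∨ x = i ∨ x = j ∨ x = i * j) → Φ a i = i → Φ a j = j → False) :
    False := by
  classical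
  haveI : Fact (Nat.Prime 3) := ⟨Nat.prime_three⟩
  haveI : Fact (Nat.Prime 7) := ⟨by norm_num⟩
  set e1 : V3 := (1, 0, 0) with he1def
  have he1 : e1 ≠ 0 := by decide
  have hq1 : q 1 = 0 := (hq0 1).2 rfl
  have hinv : ∀ x : U, x⁻¹ = x := fun x => inv_eq_of_mul_eq_one_left (hU2 x)
  have hΦmul : ∀ (g g' : X) (x : U), Φ (g * g') x = Φ g (Φ g' x) := fun g g' x => by rw [map_mul]; rfl
  have hΦ1 : ∀ x : U, Φ 1 x = x := fun x => by rw [map_one]; rfl
  have hρmul : ∀ (g g' : X) (v : V3), ρ (g * g') v = ρ g (ρ g' v) := fun g g' v => by rw [map_mul]; rfl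
  -- the kernel
  have hK9 : Nat.card ρ.ker ∣ 9 := by
    let S := {x : U // q x = e1}
    letI : MulAction ρ.ker S :=
      { smul := fun k x => ⟨Φ k x.1, by rw [heq, MonoidHom.mem_ker.1 k.2, x.2]; rfl⟩
        one_smul := fun x => Subtype.ext (hΦ1 x.1)
        mul_smul := fun k k' x => Subtype.ext (hΦmul k k' x.1) }
    have hst : ∀ x : S, MulAction.stabilizer ρ.ker x = ⊥ := fun x => by
      refine (eq_bot_iff_forall _).2 fun k hk => Subtype.ext ?_
      by_contra hk1
      exact hfree k k.2 hk1 x.1 (fun e => he1 (by rw [← x.2, e, hq1])) (congrArg Subtype.val hk)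
    letI := Fintype.ofFinite (Quotient (MulAction.orbitRel ρ.ker S))
    have e := Nat.card_congr (MulAction.selfEquivSigmaOrbitsQuotientStabilizer ρ.ker S)
    rw [Nat.card_sigma, hfib e1 he1, Finset.sum_congr rfl (fun o _ => by
      rw [← Subgroup.index_eq_card, hst, Subgroup.index_bot]), Finset.sum_const, smul_eq_mul] at e
    exact ⟨_, e.trans (mul_comm _ _)⟩
  have hKcases : Nat.card ρ.ker = 1 ∨ Nat.card ρ.ker = 3 ∨ Nat.card ρ.ker = 9 := by
    obtain ⟨b, hb, hb'⟩ := (Nat.dvd_prime_pow Nat.prime_three).1 (show Nat.card ρ.ker ∣ 3 ^ 2 from hK9)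
    interval_cases b <;> rw [hb'] <;> norm_num
  have hKc : ∀ a b : ρ.ker, a * b = b * a := by
    rcases hKcases with h | h | h
    · haveI := (Nat.card_eq_one_iff_unique.1 h).1
      exact fun a b => Subsingleton.elim _ _
    · haveI := isCyclic_of_prime_card h
      exact (IsCyclic.commGroup (α := ρ.ker)).mul_comm
    · exact IsPGroup.commutative_of_card_eq_prime_sq (p := 3) h
  have h7 : ∀ x, ρ x ^ 7 = 1 → ∀ k, ρ k = 1 → Commute x k := by
    intro x hx k hk
    set c : MulAut ρ.ker := MulAut.conjNormal x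
    have hc7 : c ^ 7 = 1 := by
      rw [← map_pow]
      refine MulEquiv.ext fun y => Subtype.ext ?_
      have hm : x ^ 7 ∈ ρ.ker := by rw [MonoidHom.mem_ker, map_pow, hx]
      rw [MulAut.conjNormal_apply]
      have := congrArg Subtype.val (hKc ⟨_, hm⟩ y)
      show x ^ 7 * (y : X) * (x ^ 7)⁻¹ = y
      rw [show x ^ 7 * (y : X) = (y : X) * x ^ 7 from this, mul_inv_cancel_right]
    letI : MulAction (zpowers c) ρ.ker :=
      { smul := fun g y => (g : MulAut ρ.ker) y
        one_smul := fun y => rfl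
        mul_smul := fun g g' y => rfl }
    have hP : IsPGroup 7 (zpowers c) := isPGroup_zpowers ⟨1, by rw [pow_one, hc7]⟩
    have hmod := hP.card_modEq_card_fixedPoints (α := ρ.ker)
    let FS : Subgroup ρ.ker :=
      { carrier := MulAction.fixedPoints (zpowers c) ρ.ker
        one_mem' := fun g => map_one (g : MulAut ρ.ker)
        mul_mem' := fun {y z} hy hz g => (map_mul (g : MulAut ρ.ker) y z).trans (congrArg₂ (· * ·) (hy g) (hz g))
        inv_mem' := fun {y} hy g => (map_inv (g : MulAut ρ.ker) y).trans (congrArg Inv.inv (hy g)) }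
    have hFS : Nat.card (MulAction.fixedPoints (zpowers c) ρ.ker) = Nat.card FS := rfl
    have hd : Nat.card FS ∣ 9 := (Subgroup.card_subgroup_dvd_card FS).trans hK9
    have hd' := Subgroup.card_subgroup_dvd_card FS
    rw [hFS, Nat.ModEq] at hmod
    have htop : FS = ⊤ := by
      refine Subgroup.eq_top_of_card_eq _ ?_
      obtain ⟨b, hb, hb'⟩ := (Nat.dvd_prime_pow Nat.prime_three).1 (show Nat.card FS ∣ 3 ^ 2 from hd)
      rcases hKcases with h | h | h <;> rw [h] at hmod hd' ⊢ <;> interval_cases b <;>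
        rw [hb'] at hmod hd' ⊢ <;> first | rfl | omega
    have hk' : (⟨k, hk⟩ : ρ.ker) ∈ FS := htop ▸ mem_top _
    have := congrArg Subtype.val (hk' ⟨c, mem_zpowers c⟩)
    change x * k * x⁻¹ = k at this
    exact mul_inv_eq_iff_eq_mul.1 this
  -- lifts
  obtain ⟨ga, hga⟩ := hρ swp
  obtain ⟨gu, hgu⟩ := hρ fro
  obtain ⟨gl, hgl⟩ := hρ alp
  set a := ga ^ Nat.card ρ.ker with hadef
  have hρa : ρ a = swp := by
    obtain ⟨c, hc⟩ := hodd
    rw [hadef, map_pow, hga, hc, pow_succ, pow_mul, pow_two, swp_sq, one_pow, one_mul]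
  have ha2 : a * a = 1 := by
    rw [hadef, ← pow_add, ← two_mul, pow_mul]
    exact congrArg Subtype.val (pow_card_eq_one'
      (x := (⟨ga ^ 2, by rw [MonoidHom.mem_ker, map_pow, hga, pow_two, swp_sq]⟩ : ρ.ker)))
  have hainv : a⁻¹ = a := inv_eq_of_mul_eq_one_left ha2
  have hca : ∀ k, ρ k = 1 → Commute a k := by
    obtain ⟨g1, hg1⟩ := hρ sevA
    obtain ⟨g2, hg2⟩ := hρ sevA'
    intro k hk
    have hr : ρ ((g1 * g2)⁻¹ * a) = 1 := by
      rw [map_mul, map_inv, map_mul, hg1, hg2, hρa, ← swp_eq, inv_mul_cancel]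
    have hc : Commute ((g1 * g2)⁻¹ * a) k := congrArg Subtype.val (hKc ⟨_, hr⟩ ⟨k, hk⟩)
    rw [show a = g1 * g2 * ((g1 * g2)⁻¹ * a) by group]
    exact ((h7 g1 (by rw [hg1, sevA_pow]) k hk).mul_left (h7 g2 (by rw [hg2, sevA'_pow]) k hk)).mul_left hc
  have hoddpow : ∀ k, ρ k = 1 → k * k = 1 → k = 1 := by
    intro k hk h2
    have h1 : k ^ Nat.card ρ.ker = 1 := congrArg Subtype.val (pow_card_eq_one' (x := (⟨k, hk⟩ : ρ.ker)))
    obtain ⟨c, hc⟩ := hodd
    rwa [hc, pow_succ, pow_mul, pow_two, h2, one_pow, one_mul] at h1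
  set w := a * gu * a * gu⁻¹ with hwdef
  have hρw : ρ w = fro := by
    rw [hwdef, map_mul, map_mul, map_mul, map_inv, hρa, hgu, swp_fro, pow_two, mul_inv_cancel_right]
  have haw : a * w * a⁻¹ = w⁻¹ := by
    rw [hwdef, hainv, mul_inv_rev, mul_inv_rev, mul_inv_rev, inv_inv, hainv]
    calc a * (a * gu * a * gu⁻¹) * a = a * a * (gu * a * gu⁻¹ * a) := by group
      _ = gu * a * gu⁻¹ * a := by rw [ha2, one_mul]
      _ = gu * (a * (gu⁻¹ * a)) := by group
  have hw3 : w ^ 3 = 1 := by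
    have hk : ρ (w ^ 3) = 1 := by rw [map_pow, hρw, fro_cube]
    have h1 : a * w ^ 3 * a⁻¹ = (w ^ 3)⁻¹ := by rw [← conj_pow, haw, inv_pow]
    rw [(hca _ hk).eq, mul_inv_cancel_right] at h1
    exact hoddpow _ hk (mul_eq_one_iff_eq_inv.2 h1)
  clear_value w
  have hw1 : w ≠ 1 := fun e => fro_ne (by rw [← hρw, e, map_one])
  set L := gl ^ 36 with hLdef
  have hρL : ρ L = alp := by
    rw [hLdef, map_pow, hgl, show 36 = 7 * 5 + 1 from rfl, pow_succ, pow_mul, alp_pow, one_pow, one_mul]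
  have hL7 : L ^ 7 = 1 := by
    have hk : ρ (gl ^ 7) = 1 := by rw [map_pow, hgl, alp_pow]
    have h1 : (gl ^ 7) ^ Nat.card ρ.ker = 1 :=
      congrArg Subtype.val (pow_card_eq_one' (x := (⟨_, hk⟩ : ρ.ker)))
    obtain ⟨c, hc⟩ := hK9
    rw [hLdef, ← pow_mul, show 36 * 7 = 7 * (9 * 4) from rfl, hc, pow_mul, pow_mul, pow_mul, h1, one_pow,
      one_pow]
  have hwL : w * L * w⁻¹ = L ^ 2 := by
    set k := (L ^ 2)⁻¹ * (w * L * w⁻¹)
    have hk : ρ k = 1 := by
      simp only [k, map_mul, map_inv, map_pow, hρw, hρL, fro_alp, inv_mul_cancel]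
    have hc : Commute (L ^ 2) k := (h7 L (by rw [hρL, alp_pow]) k hk).pow_left 2
    have h1 : (w * L * w⁻¹) ^ 7 = 1 := by rw [conj_pow, hL7, mul_one, mul_inv_cancel]
    rw [show w * L * w⁻¹ = L ^ 2 * k by simp [k], hc.mul_pow, ← pow_mul, mul_comm 2, pow_mul, hL7, one_pow,
      one_mul] at h1
    have hK : k ^ Nat.card ρ.ker = 1 := congrArg Subtype.val (pow_card_eq_one' (x := (⟨k, hk⟩ : ρ.ker)))
    have hk1 : k = 1 := orderOf_eq_one_iff.1 (Nat.eq_one_of_dvd_coprimes
      (show Nat.Coprime 7 (Nat.card ρ.ker) from Nat.Coprime.coprime_dvd_right hK9 (by norm_num))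
      (orderOf_dvd_of_pow_eq_one h1) (orderOf_dvd_of_pow_eq_one hK))
    rw [show w * L * w⁻¹ = L ^ 2 * k by simp [k], hk1, mul_one]
  clear_value L
  -- orbit products under `L`
  have hN : ∀ y : U, ∏ m ∈ Finset.range 7, Φ (L ^ m) y = 1 := by
    intro y
    set N := ∏ m ∈ Finset.range 7, Φ (L ^ m) y
    have h1 : Φ L N = ∏ m ∈ Finset.range 7, Φ (L ^ (m + 1)) y := by
      rw [map_prod]
      exact Finset.prod_congr rfl fun m _ => by rw [pow_succ', hΦmul]
    have h2 := Finset.prod_range_succ' (fun m => Φ (L ^ m) y) 7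
    rw [Finset.prod_range_succ, hL7, pow_zero] at h2
    have hfix : Φ L N = N := h1.trans (mul_right_cancel h2).symm
    have h3 := heq L N
    rw [hfix, hρL] at h3
    exact (hq0 N).1 (alp_fix _ h3.symm)
  have hwLm : ∀ m : ℕ, w * L ^ m = L ^ (2 * m) * w := fun m => by
    rw [pow_mul, ← hwL, conj_pow]; group
  -- a fixed point of `w`
  obtain ⟨i₀, hi₀1, hi₀⟩ : ∃ x : U, x ≠ 1 ∧ Φ w x = x := by
    by_contra hcon
    push Not at hcon
    obtain ⟨y, hy⟩ : ∃ y : U, y ≠ 1 := by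
      have h9 := hfib e1 he1
      obtain ⟨⟨⟨y, hy⟩⟩, -⟩ := Nat.card_ne_zero.1 (show Nat.card {x : U // q x = e1} ≠ 0 by omega)
      exact ⟨y, fun e => he1 (by rw [← hy, e, hq1])⟩
    have hz : ∀ m : ℕ, y * (Φ (L ^ m) (Φ w y) * Φ (L ^ (3 * m)) (Φ (w ^ 2) y)) = 1 := by
      intro m
      obtain ⟨g, hgdef⟩ : ∃ g, g = L ^ m * w := ⟨_, rfl⟩
      have hg2 : g * g = L ^ (3 * m) * w ^ 2 := by
        calc g * g = L ^ m * (w * L ^ m) * w := by simp only [hgdef]; group
          _ = L ^ (3 * m) * w ^ 2 := by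
            rw [hwLm, ← mul_assoc, ← pow_add, mul_assoc, ← pow_two, show m + 2 * m = 3 * m by ring]
      have hg3 : g * (g * g) = 1 := by
        rw [hg2, hgdef]
        calc L ^ m * w * (L ^ (3 * m) * w ^ 2) = L ^ m * (w * L ^ (3 * m)) * w ^ 2 := by group
          _ = L ^ (7 * m) * w ^ 3 := by
            rw [hwLm, ← mul_assoc, ← pow_add, mul_assoc, ← pow_succ', show m + 2 * (3 * m) = 7 * m by ring]
          _ = 1 := by rw [pow_mul, hL7, one_pow, hw3, one_mul]
      set z := y * (Φ g y * Φ (g * g) y)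
      have hgz : Φ g z = z := by
        show Φ g (y * (Φ g y * Φ (g * g) y)) = _
        rw [map_mul, map_mul, ← hΦmul, ← hΦmul, hg3, hΦ1, ← mul_assoc, mul_comm]
      have hz1 : z = 1 := by
        by_contra hz1
        refine hcon (Φ (L ^ m) z) (fun e => hz1 ((map_eq_one_iff _ (Φ (L ^ m)).injective).1 e)) ?_
        rw [← hΦmul, hwLm, show 2 * m = m + m by ring, pow_add, mul_assoc, ← hgdef, hΦmul]
        exact congrArg (Φ (L ^ m)) hgz
      have h1 : z = y * (Φ (L ^ m) (Φ w y) * Φ (L ^ (3 * m)) (Φ (w ^ 2) y)) := by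
        simp only [z, hg2]
        simp only [hgdef, hΦmul]
      exact h1 ▸ hz1
    have hperm : ∀ y' : U, ∏ m ∈ Finset.range 7, Φ (L ^ (3 * m)) y' = 1 := by
      intro y'
      refine Eq.trans ?_ (hN y')
      have hm : ∀ n : ℕ, L ^ n = L ^ (n % 7) := fun n => pow_eq_pow_mod n hL7
      simp only [Finset.prod_range_succ, Finset.prod_range_zero, one_mul]
      rw [hm (3 * 3), hm (3 * 4), hm (3 * 5), hm (3 * 6)]
      norm_num
      ac_rfl
    have hp := Finset.prod_congr (rfl : Finset.range 7 = _) fun m _ => hz m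
    rw [Finset.prod_const_one, Finset.prod_mul_distrib, Finset.prod_mul_distrib, hN, hperm,
      Finset.prod_const, Finset.card_range, mul_one, mul_one] at hp
    rw [show (7 : ℕ) = 2 * 3 + 1 from rfl, pow_succ, pow_mul, pow_two, hU2, one_pow, one_mul] at hp
    exact hy hp
  have hqF : ∀ x, x ≠ 1 → Φ w x = x → q x = e1 := by
    intro x hx1 hx
    have := heq w x
    rw [hx, hρw] at this
    exact (fro_fix _ this.symm).resolve_left fun e => hx1 ((hq0 x).1 e)
  obtain ⟨j₀, hj₀1, hj₀, hij₀⟩ : ∃ x : U, x ≠ 1 ∧ Φ w x = x ∧ x ≠ i₀ := by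
    let S := {x : U // q x = e1}
    letI : MulAction (zpowers w) S :=
      { smul := fun g x => ⟨Φ g x.1, by
          have hfix : ρ (g : X) ∈ MulAction.stabilizer L3 e1 := by
            obtain ⟨n, hn⟩ := mem_zpowers_iff.1 g.2
            rw [← hn, map_zpow, hρw]
            exact zpow_mem (show fro ∈ MulAction.stabilizer L3 e1 from fro_e1) n
          rw [heq, x.2]; exact hfix⟩
        one_smul := fun x => Subtype.ext (hΦ1 x.1)
        mul_smul := fun g g' x => Subtype.ext (hΦmul g g' x.1) }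
    have hmod := (isPGroup_zpowers (q := 3) (x := w) ⟨1, by rw [pow_one, hw3]⟩).card_modEq_card_fixedPoints (α := S)
    rw [hfib e1 he1, Nat.ModEq] at hmod
    have hmem : (⟨i₀, hqF i₀ hi₀1 hi₀⟩ : S) ∈ MulAction.fixedPoints (zpowers w) S := by
      intro g
      refine Subtype.ext ?_
      obtain ⟨n, hn⟩ := mem_zpowers_iff.1 g.2
      show Φ (g : X) i₀ = i₀
      rw [← hn, map_zpow]
      exact zpow_mem (show Φ w ∈ MulAction.stabilizer (MulAut U) i₀ from hi₀) n
    by_contra hcon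
    push Not at hcon
    haveI : Subsingleton (MulAction.fixedPoints (zpowers w) S) := by
      refine ⟨fun x y => Subtype.ext (Subtype.ext ?_)⟩
      have key : ∀ z : MulAction.fixedPoints (zpowers w) S, z.1.1 = i₀ := fun z =>
        hcon z.1.1 (fun e => he1 (by rw [← z.1.2, e, hq1]))
          (congrArg Subtype.val (z.2 ⟨w, mem_zpowers w⟩))
      rw [key, key]
    haveI : Nonempty (MulAction.fixedPoints (zpowers w) S) := ⟨⟨_, hmem⟩⟩
    have hone : Nat.card (MulAction.fixedPoints (zpowers w) S) = 1 := Nat.card_of_subsingleton ⟨_, hmem⟩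
    omega
  have hqprod : ∀ {x y : U}, x ≠ 1 → Φ w x = x → y ≠ 1 → Φ w y = y → x ≠ y → q (x * y) = e1 := by
    intro x y _ hx _ hy hxy
    refine hqF _ (fun e => hxy ?_) (by rw [map_mul, hx, hy])
    rw [eq_inv_of_mul_eq_one_left e, hinv]
  have hFall : ∀ {i j : U}, i ≠ 1 → Φ w i = i → j ≠ 1 → Φ w j = j → i ≠ j →
      ∀ x, Φ w x = x → x = 1 ∨ x = i ∨ x = j ∨ x = i * j := by
    intro i j hi1 hi hj1 hj hij x hx
    by_contra hcon
    push Not at hcon
    obtain ⟨hx1, hxi, hxj, hxij⟩ := hcon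
    have hp := hpol i j x
    have hijx : Φ w (i * j * x) = i * j * x := by rw [map_mul, map_mul, hi, hj, hx]
    have hne : i * j * x ≠ 1 := fun e => hxij (by
      rw [← inv_eq_of_mul_eq_one_right e, hinv])
    rw [hqF _ hne hijx, hqprod hi1 hi hj1 hj hij, hqprod hi1 hi hx1 hx hxi.symm,
      hqprod hj1 hj hx1 hx hxj.symm, hqF _ hi1 hi, hqF _ hj1 hj, hqF _ hx1 hx] at hp
    exact absurd hp (by decide)
  -- normalised choice of the fixed points
  have haF : ∀ x, Φ w x = x → Φ w (Φ a x) = Φ a x := by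
    intro x hx
    have hwa : w * a = a * w⁻¹ := by
      rw [← haw]; simp only [hainv, ← mul_assoc, ha2, one_mul]
    rw [← hΦmul, hwa, hΦmul]
    congr 1
    rw [map_inv]
    exact (Φ w).symm_apply_eq.2 hx.symm
  have ha1 : a ≠ 1 := fun e => swp_ne (by rw [← hρa, e, map_one])
  obtain ⟨i, j, hi1, hi, hj1, hj, hij, hai, haj⟩ : ∃ i j : U, i ≠ 1 ∧ Φ w i = i ∧ j ≠ 1 ∧ Φ w j = j ∧
      i ≠ j ∧ Φ a i = i ∧ Φ a j = i * j := by
    have hij₀' := hij₀.symm
    have hp1 : i₀ * j₀ ≠ 1 := fun e => hij₀' (by rw [eq_inv_of_mul_eq_one_left e, hinv])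
    have hpf : Φ w (i₀ * j₀) = i₀ * j₀ := by rw [map_mul, hi₀, hj₀]
    have hpi : i₀ * j₀ ≠ i₀ := fun e => hj₀1 (mul_eq_left.1 e)
    have hpj : i₀ * j₀ ≠ j₀ := fun e => hi₀1 (mul_eq_right.1 e)
    have haa : ∀ x, Φ a (Φ a x) = x := fun x => by rw [← hΦmul, ha2, hΦ1]
    have hnot1 : ∀ x, x ≠ 1 → Φ a x ≠ 1 := fun x hx e => hx ((map_eq_one_iff _ (Φ a).injective).1 e)
    rcases hFall hi₀1 hi₀ hj₀1 hj₀ hij₀' _ (haF _ hi₀) with h | h | h | h
    · exact absurd h (hnot1 _ hi₀1)
    · rcases hFall hi₀1 hi₀ hj₀1 hj₀ hij₀' _ (haF _ hj₀) with h' | h' | h' | h'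
      · exact absurd h' (hnot1 _ hj₀1)
      · exact absurd ((Φ a).injective (h'.trans h.symm)) hij₀
      · exact (hQ8 w a i₀ j₀ e1 hw3 hw1 ha2 ha1 haw hi₀1 hj₀1 hij₀' (hqF _ hi₀1 hi₀) (hqF _ hj₀1 hj₀)
          (hqprod hi₀1 hi₀ hj₀1 hj₀ hij₀') (fun v hv => fro_fix v (by rwa [hρw] at hv)) hi₀ hj₀
          (hFall hi₀1 hi₀ hj₀1 hj₀ hij₀') h h').elim
      · exact ⟨i₀, j₀, hi₀1, hi₀, hj₀1, hj₀, hij₀', h, h'⟩
    · refine ⟨i₀ * j₀, i₀, hp1, hpf, hi₀1, hi₀, hpi, ?_, ?_⟩
      · rw [map_mul, h, ← h, haa, h, mul_comm]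
      · rw [h, mul_comm i₀ j₀, mul_assoc, hU2, mul_one]
    · refine ⟨j₀, i₀, hj₀1, hj₀, hi₀1, hi₀, hij₀, ?_, by rw [h, mul_comm]⟩
      have := haa i₀
      rw [h, map_mul, h, mul_assoc] at this
      have h2 := mul_eq_left.1 this
      rw [← hinv (Φ a j₀)]
      exact (eq_inv_of_mul_eq_one_left h2).symm
  have hqi := hqF i hi1 hi
  -- the kernel is trivial
  have hker : ∀ k, ρ k = 1 → k = 1 := by
    intro k hk
    by_contra hk1
    have hwk : Commute w k := by
      obtain ⟨g1, hg1⟩ := hρ sevU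
      obtain ⟨g2, hg2⟩ := hρ sevU'
      have hr : ρ ((g1 * g2)⁻¹ * w) = 1 := by
        rw [map_mul, map_inv, map_mul, hg1, hg2, hρw, ← fro_eq, inv_mul_cancel]
      have hc : Commute ((g1 * g2)⁻¹ * w) k := congrArg Subtype.val (hKc ⟨_, hr⟩ ⟨k, hk⟩)
      rw [show w = g1 * g2 * ((g1 * g2)⁻¹ * w) by group]
      exact ((h7 g1 (by rw [hg1, sevU_pow]) k hk).mul_left (h7 g2 (by rw [hg2, sevU'_pow]) k hk)).mul_left hc
    have h1 : Φ w (Φ k i) = Φ k i := by rw [← hΦmul, hwk.eq, hΦmul, hi]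
    have h2 : Φ a (Φ k i) = Φ k i := by rw [← hΦmul, (hca k hk).eq, hΦmul, hai]
    rcases hFall hi1 hi hj1 hj hij _ h1 with h | h | h | h
    · exact hi1 ((map_eq_one_iff _ (Φ k).injective).1 h)
    · exact hfree k hk hk1 i hi1 h
    · rw [h, haj] at h2
      exact hi1 (mul_eq_right.1 h2)
    · rw [h, map_mul, hai, haj] at h2
      exact hi1 (mul_eq_right.1 (mul_left_cancel h2))
  -- the action of `GL(3,2)`
  let e : X ≃* L3 := MulEquiv.ofBijective ρ ⟨(injective_iff_map_eq_one ρ).2 hker, hρ⟩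
  let Ψ : L3 →* MulAut U := Φ.comp e.symm.toMonoidHom
  have hΨeq : ∀ g x, q (Ψ g x) = g (q x) := fun g x => by
    show q (Φ (e.symm g) x) = _
    rw [heq]
    show e (e.symm g) (q x) = _
    rw [e.apply_symm_apply]
  have hΨmul : ∀ (g g' : L3) (x : U), Ψ (g * g') x = Ψ g (Ψ g' x) := fun g g' x => by rw [map_mul]; rfl
  have hΨ1 : ∀ x : U, Ψ 1 x = x := fun x => by rw [map_one]; rfl
  have hΨρ : ∀ g, Ψ (ρ g) = Φ g := fun g => by
    show Φ (e.symm (e g)) = _
    rw [e.symm_apply_apply]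
  have hfi : Ψ fro i = i := by rw [← hρw, hΨρ]; exact hi
  have hfj : Ψ fro j = j := by rw [← hρw, hΨρ]; exact hj
  have hsi : Ψ swp i = i := by rw [← hρa, hΨρ]; exact hai
  have hsj : Ψ swp j = i * j := by rw [← hρa, hΨρ]; exact haj
  have hijf : Ψ fro (i * j) = i * j := by rw [map_mul, hfi, hfj]
  have hij1 : i * j ≠ 1 := fun e => hij (by rw [eq_inv_of_mul_eq_one_left e, hinv])
  -- the four group fixes `i`
  let rot : ZMod 2 × ZMod 2 → ZMod 2 × ZMod 2 := fun z => (z.1 + z.2, z.1)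
  have hrot : ∀ z p, Ψ fro p = p → Ψ fro (Ψ (shear z) p) = Ψ (shear (rot z)) p := fun z p hp => by
    rw [← hΨmul, show fro * shear z = shear (rot z) * fro by rw [← fro_shear]; group, hΨmul, hp]
  have hsame : ∀ (p : U) (z z' : ZMod 2 × ZMod 2), Ψ fro p = p → z ≠ 0 → z' ≠ 0 → Ψ (shear z) p = p →
      Ψ (shear z') p = p := by
    intro p z z' hp hz hz' h
    have h1 : Ψ (shear (rot z)) p = p := by rw [← hrot z p hp, h, hp]
    have h2 : Ψ (shear (rot (rot z))) p = p := by rw [← hrot _ p hp, h1, hp]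
    rcases shear_cycle z z' hz hz' with rfl | rfl | rfl
    exacts [h, h1, h2]
  obtain ⟨p, hpmem, hpfix⟩ : ∃ p, (p = i ∨ p = j ∨ p = i * j) ∧ ∀ z, Ψ (shear z) p = p := by
    by_contra hcon
    push Not at hcon
    let ps : Fin 3 → U := ![i, j, i * j]
    have hpsf : ∀ k, Ψ fro (ps k) = ps k := by
      intro k; fin_cases k
      exacts [hfi, hfj, hijf]
    have hps1 : ∀ k, ps k = i ∨ ps k = j ∨ ps k = i * j := by
      intro k; fin_cases k <;> simp [ps]
    have hmove : ∀ k z, z ≠ 0 → Ψ (shear z) (ps k) ≠ ps k := by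
      intro k z hz h
      obtain ⟨z', hz'⟩ := hcon (ps k) (hps1 k)
      by_cases h0 : z' = 0
      · exact hz' (by rw [h0, shear_zero, hΨ1])
      · exact hz' (hsame _ z z' (hpsf k) hz h0 h)
    have hqps : ∀ k, q (ps k) = e1 := by
      intro k; fin_cases k
      exacts [hqi, hqF j hj1 hj, hqprod hi1 hi hj1 hj hij]
    let F : Fin 3 × (ZMod 2 × ZMod 2) → {x : U // q x = e1} := fun kz =>
      ⟨Ψ (shear kz.2) (ps kz.1), by rw [hΨeq, hqps]; exact shear_e1 _⟩
    have hinj : Function.Injective F := by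
      rintro ⟨k, z⟩ ⟨k', z'⟩ h
      have h0 : Ψ (shear z) (ps k) = Ψ (shear z') (ps k') := congrArg Subtype.val h
      have hzz : ∀ x : ZMod 2 × ZMod 2, x + x = 0 := by decide
      have hd : Ψ (shear (z' + z)) (ps k) = ps k' := by
        rw [shear_add, hΨmul, h0, ← hΨmul, ← shear_add, hzz, shear_zero, hΨ1]
      by_cases hz : z' + z = 0
      · rw [hz, shear_zero, hΨ1] at hd
        have hk : k = k' := by
          have hps : Function.Injective ps := by
            intro a b hab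
            fin_cases a <;> fin_cases b <;> simp [ps] at hab ⊢
            all_goals first
              | exact hij hab
              | exact hij hab.symm
              | exact hj1 hab
              | exact hi1 hab
              | exact hj1 hab.symm
              | exact hi1 hab.symm
          exact hps hd
        have hzeq : z = z' := by
          have hzz' : ∀ x y : ZMod 2 × ZMod 2, y + x = 0 → x = y := by decide
          exact hzz' z z' hz
        rw [hk, hzeq]
      · exfalso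
        have h1 : Ψ (shear (rot (z' + z))) (ps k) = ps k' := by
          rw [← hrot _ _ (hpsf k), hd, hpsf]
        have hne : ∀ x : ZMod 2 × ZMod 2, x ≠ 0 → x + rot x ≠ 0 := by decide
        refine hmove k ((z' + z) + rot (z' + z)) (hne _ hz) ?_
        rw [shear_add, hΨmul, h1, ← hd, ← hΨmul, ← shear_add, hzz, shear_zero, hΨ1]
    have hc := Nat.card_le_card_of_injective F hinj
    rw [hfib e1 he1, Nat.card_prod, Nat.card_prod, Nat.card_fin, Nat.card_zmod] at hc
    omega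
  have hshi : ∀ z, Ψ (shear z) i = i := by
    have hsw : ∀ x, (∀ z, Ψ (shear z) x = x) → ∀ z, Ψ (shear z) (Ψ swp x) = Ψ swp x := fun x hx z => by
      rw [← hΨmul]
      show Ψ (shear (z.1, z.2) * swp) x = _
      rw [← swp_shear (z.2, z.1), hΨmul, hx]
    rcases hpmem with rfl | rfl | rfl
    · exact hpfix
    · intro z
      have h1 := hsw _ hpfix z
      rw [hsj, map_mul, hpfix z] at h1
      exact mul_right_cancel h1
    · intro z
      have h1 := hsw _ hpfix z
      rw [map_mul (Ψ swp), hsi, hsj, ← mul_assoc, hU2, one_mul] at h1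
      have h2 := hpfix z
      rw [map_mul, h1] at h2
      exact mul_right_cancel h2
  have hstab : ∀ g : L3, g e1 = e1 → Ψ g i = i := by
    intro g hg
    have hp0 : ∀ v : V3, v ≠ 0 → v ≠ e1 → (g v).2 ≠ 0 := fun v hv hv1 h0 => by
      rcases v3_snd_eq_zero _ h0 with h | h
      · exact hv (g.map_eq_zero_iff.1 h)
      · exact hv1 (g.injective (h.trans hg.symm))
    have hne : (g (0, 1, 0)).2 ≠ (g (0, 0, 1)).2 := fun h0 => hp0 (0, 1, 1) (by decide) (by decide) (by
      rw [show ((0, 1, 1) : V3) = (0, 1, 0) + (0, 0, 1) by decide, map_add, Prod.snd_add, h0]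
      exact congrArg Prod.snd (v3_add_self (g (0, 0, 1))))
    obtain ⟨z, m, n, h2, h3⟩ := stab_cover _ _ (hp0 _ (by decide) (by decide)) (hp0 _ (by decide) (by decide)) hne
    have hg' : g = shear z * (fro ^ m.val * swp ^ n.val) := by
      refine LinearEquiv.ext fun v => ?_
      have hb : ∀ v, (shear z * (fro ^ m.val * swp ^ n.val)) v =
          shear z ((⇑fro)^[m.val] ((⇑swp)^[n.val] v)) := fun v => by
        show shear z ((fro ^ m.val) ((swp ^ n.val) v)) = _
        rw [pow_apply_eq, pow_apply_eq]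
      have hb1 : (shear z * (fro ^ m.val * swp ^ n.val)) e1 = e1 := by
        have : shear z * (fro ^ m.val * swp ^ n.val) ∈ MulAction.stabilizer L3 e1 :=
          mul_mem (shear_e1 z) (mul_mem (pow_mem (show fro ∈ MulAction.stabilizer L3 e1 from fro_e1) _)
            (pow_mem (show swp ∈ MulAction.stabilizer L3 e1 from swp_e1) _))
        exact this
      conv_lhs => rw [v3_coord v]
      conv_rhs => rw [v3_coord v]
      simp only [map_add, map_smul]
      rw [hg, hb1, hb, hb, h2, h3]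
    rw [hg', hΨmul, hΨmul]
    have hmem : ∀ g, Ψ g i = i → ∀ k : ℕ, Ψ (g ^ k) i = i := fun g hg k => by
      induction k with
      | zero => rw [pow_zero, hΨ1]
      | succ k ih => rw [pow_succ, hΨmul, hg, ih]
    rw [hmem swp hsi, hmem fro hfi, hshi]
  -- the section
  let σ : V3 → U := fun v => if hv : v = 0 then 1 else Ψ (alp ^ (alp_trans v hv).choose.val) i
  have hσ : ∀ g : L3, σ (g e1) = Ψ g i := by
    intro g
    have hne : g e1 ≠ 0 := fun h => he1 (g.map_eq_zero_iff.1 h)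
    simp only [σ, dif_neg hne]
    set m := (alp_trans _ hne).choose.val
    have hm : (alp ^ m) e1 = g e1 := (pow_apply_eq alp m e1).trans (alp_trans _ hne).choose_spec
    have h := hstab ((alp ^ m)⁻¹ * g) (by
      show (alp ^ m).symm (g e1) = e1
      rw [← hm, LinearEquiv.symm_apply_apply])
    conv_rhs => rw [show g = alp ^ m * ((alp ^ m)⁻¹ * g) by group, hΨmul, h]
  have hσ0 : σ 0 = 1 := dif_pos rfl
  have hσi : σ e1 = i := by
    have := hσ 1
    rwa [hΨ1] at this
  have hσeq : ∀ g v, σ (g v) = Ψ g (σ v) := by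
    intro g v
    by_cases hv : v = 0
    · rw [hv, map_zero, hσ0, map_one]
    · obtain ⟨m, hm⟩ := alp_trans v hv
      rw [← hm, ← pow_apply_eq, hσ, ← hΨmul, ← hσ]
      rfl
  have hqσ : ∀ v, q (σ v) = v := by
    intro v
    by_cases hv : v = 0
    · rw [hv, hσ0, hq1]
    · obtain ⟨m, hm⟩ := alp_trans v hv
      rw [← hm, ← pow_apply_eq, hσ, hΨeq, hqi]
  have hσadd : ∀ v v', σ (v + v') = σ v * σ v' := by
    have hplane : σ ((0, 1, 0) + (0, 0, 1)) = σ (0, 1, 0) * σ (0, 0, 1) := by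
      set W := σ (0, 1, 0) * σ (0, 0, 1) * σ (0, 1, 1)
      have hW1 : Ψ trv W = W := by
        simp only [W, map_mul, ← hσeq, trv_plane.1, trv_plane.2.1, trv_plane.2.2]
      have hW2 : Ψ fro W = W := by
        simp only [W, map_mul, ← hσeq, fro_plane.1, fro_plane.2.1, fro_plane.2.2]
        ac_rfl
      have hqW : q W = 0 := fro_trv_fix _ (by rw [← hΨeq, hW2]) (by rw [← hΨeq, hW1])
      have := eq_inv_of_mul_eq_one_left ((hq0 W).1 hqW)
      rw [hinv] at this
      rw [this]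
      rfl
    intro v v'
    by_cases hv : v = 0
    · rw [hv, zero_add, hσ0, one_mul]
    by_cases hv' : v' = 0
    · rw [hv', add_zero, hσ0, mul_one]
    by_cases hvv : v = v'
    · rw [hvv, v3_add_self, hσ0, hU2]
    obtain ⟨g, hg1, hg2⟩ := exists_pair hv hv' hvv
    rw [← hg1, ← hg2, ← map_add, hσeq, hσeq, hσeq, hplane, map_mul]
  -- the bilinear form
  let B : U → U → V3 := fun x y => q (x * y) + q x + q y
  have hBl : ∀ x y z, B (x * y) z = B x z + B y z := fun x y z => by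
    show q (x * y * z) + q (x * y) + q z = q (x * z) + q x + q z + (q (y * z) + q y + q z)
    linear_combination hpol x y z - v3_add_self (q (x * z)) - v3_add_self (q (y * z)) - v3_add_self (q x) -
      v3_add_self (q y) - v3_add_self (q z)
  have hBsymm : ∀ x y, B x y = B y x := fun x y => by
    show q (x * y) + q x + q y = q (y * x) + q y + q x
    rw [mul_comm x y]; abel
  have hBeq : ∀ g x y, B (Ψ g x) (Ψ g y) = g (B x y) := fun g x y => by
    show q (Ψ g x * Ψ g y) + q (Ψ g x) + q (Ψ g y) = g (q (x * y) + q x + q y)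
    rw [← map_mul, hΨeq, hΨeq, hΨeq, map_add, map_add]
  have hBσ : ∀ v v', B (σ v) (σ v') = 0 := fun v v' => by
    show q (σ v * σ v') + q (σ v) + q (σ v') = 0
    rw [← hσadd, hqσ, hqσ, hqσ, add_assoc, v3_add_self]
  let φ : V3 → V3 := fun v => B (σ v) j
  have hφadd : ∀ v v', φ (v + v') = φ v + φ v' := fun v v' => by
    show B (σ (v + v')) j = _
    rw [hσadd, hBl]
  have hφf : ∀ v, φ (fro v) = fro (φ v) := fun v => by
    show B (σ (fro v)) j = fro (B (σ v) j)
    rw [← hBeq, hfj, hσeq]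
  have hφs : ∀ v, φ (swp v) = swp (φ v) := fun v => by
    show B (σ (swp v)) j = swp (B (σ v) j)
    rw [← hBeq, hsj, hσeq, hBsymm (Ψ swp (σ v)) (i * j), hBl, ← hσi, hBsymm (σ e1), ← hσeq, hBσ, zero_add,
      hBsymm]
  have hφ1 : φ e1 = e1 := by
    show q (σ e1 * j) + q (σ e1) + q j = e1
    rw [hσi, hqprod hi1 hi hj1 hj hij, hqi, hqF j hj1 hj, add_assoc, v3_add_self, add_zero]
  set y := φ (0, 1, 0) with hydef
  have hy3 : φ (0, 0, 1) = swp y := by
    rw [hydef, ← hφs, show swp ((0, 1, 0) : V3) = (0, 0, 1) by decide]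
  have hy1 : fro y = swp y := by
    rw [hydef, ← hφf, ← hφs, show fro ((0, 1, 0) : V3) = swp (0, 1, 0) by decide]
  have hy2 : fro (swp y) = y + swp y := by
    rw [← hy3, ← hφf, hydef, ← hφadd, show fro ((0, 0, 1) : V3) = (0, 1, 0) + (0, 0, 1) by decide]
  have hφlin : ∀ v : V3, φ v = v.1 • e1 + v.2.1 • y + v.2.2 • swp y := by
    have hsm : ∀ (c : ZMod 2) (v : V3), φ (c • v) = c • φ v := fun c v =>
      ZMod.map_smul (AddMonoidHom.mk' φ hφadd) c v
    intro v
    conv_lhs => rw [v3_coord v]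
    rw [hφadd, hφadd, hsm, hsm, hsm, hy3, ← he1def, hφ1]
  refine orbit_sum y hy1 hy2 ?_
  have key : ∀ m : ℕ, (⇑alp)^[m] (φ ((⇑alp.symm)^[m] e1)) = B i (Ψ (alp ^ m) j) := by
    intro m
    have h1 : (alp ^ m) ((⇑alp.symm)^[m] e1) = e1 := by
      rw [pow_apply_eq]
      exact (Function.LeftInverse.iterate (fun v => alp.apply_symm_apply v) m) e1
    rw [← pow_apply_eq]
    show (alp ^ m) (B (σ ((⇑alp.symm)^[m] e1)) j) = _
    rw [← hBeq, ← hσeq, h1, hσi]
  refine Eq.trans (Finset.sum_congr rfl fun m _ =>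
    (congrArg ((⇑alp)^[m.val]) (hφlin _).symm).trans (key m.val)) ?_
  let Bi : U →* Multiplicative V3 :=
    { toFun := fun x => Multiplicative.ofAdd (B i x)
      map_one' := by
        show Multiplicative.ofAdd (B i 1) = Multiplicative.ofAdd 0
        congr 1
        show q (i * 1) + q i + q 1 = 0
        rw [mul_one, hq1, add_zero, v3_add_self]
      map_mul' := fun x y => by
        show Multiplicative.ofAdd (B i (x * y)) = Multiplicative.ofAdd (B i x + B i y)
        rw [hBsymm i, hBl, hBsymm x, hBsymm y] }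
  have hΨN : ∏ m : Fin 7, Ψ (alp ^ m.val) j = 1 := by
    rw [Fin.prod_univ_eq_prod_range (fun m => Ψ (alp ^ m) j) 7]
    refine Eq.trans (Finset.prod_congr rfl fun m _ => ?_) (hN j)
    rw [← hρL, ← map_pow, hΨρ]
  have h := congrArg Bi hΨN
  rw [map_prod, map_one] at h
  have h' := congrArg Multiplicative.toAdd h
  rw [toAdd_prod, toAdd_one] at h'
  exact h'

end Cfsg.Agent.Pyramidal
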