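import Cfsg.Agent.Lib.Pyramidal.ThreeAbelian
import Cfsg.Agent.Lib.Pyramidal.ThreeSuzuki

/-!
# The full linear group does not occur in dimension three

* `quaternion_contra`: no element over an involution fixes the quaternion group of fixed points
* `Pyr.not_full_three`
-/

set_option autoImplicit false
set_option linter.style.haveILetI false
set_option linter.unusedSectionVars false
set_option maxHeartbeats 1600000

namespace Cfsg.Agent.Pyramidal

open Subgroup SuzukiTwo GL3

universe u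

variable {G : Type u} [Group G] [Finite G] {E : Subgroup G}

theorem card_map_mk (T : Subgroup G) [T.Normal] (K : Subgroup G) :
    Nat.card (K.map (QuotientGroup.mk' T)) = T.relIndex K := by
  rw [show K.map (QuotientGroup.mk' T) = ((QuotientGroup.mk' T).comp K.subtype).range by
    rw [MonoidHom.range_comp, range_subtype], ← Subgroup.index_ker, Subgroup.relIndex]
  congr 1
  ext x
  exact QuotientGroup.eq_one_iff _

/-- If `c` inverts `W` and acts on a quaternion group of points fixed by `W` as an inner automorphism, with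
`c² ∈ T`, then there is an involution outside `T`. -/
theorem quaternion_contra (h : Pyr E) {T : Subgroup G} (hET : E ≤ T) (hTD : T ≤ centralizer (E : Set G))
    {z I J W c : G} (hz : z ∈ E) (hz1 : z ≠ 1) (hI : I ∈ T) (hJ : J ∈ T) (hII : I * I = z) (hJJ : J * J = z)
    (hIJ : I * J * (I * J) = z) (hIW : Commute I W) (hJW : Commute J W) (hzW : Commute z W)
    (hC0 : ∀ t ∈ T, Commute t W → ∃ e, (e = 1 ∨ e = z) ∧ (t = e ∨ t = e * I ∨ t = e * J ∨ t = e * (I * J)))
    (hc : c * W * c⁻¹ = W⁻¹) (hcT : ∀ y ∈ T, (c * y) * (c * y) ∈ T) (hcn : c ∉ T)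
    (hcI : ∃ e, (e = 1 ∨ e = z) ∧ c * I * c⁻¹ = I * e) (hcJ : ∃ e, (e = 1 ∨ e = z) ∧ c * J * c⁻¹ = J * e) :
    False := by
  have hzz : z * z = 1 := h.sq z hz
  have hzI : Commute z I := mem_centralizer_iff.1 (hTD hI) z hz
  have hzJ : Commute z J := mem_centralizer_iff.1 (hTD hJ) z hz
  have hJinv : J⁻¹ = J * z := inv_eq_of_mul_eq_one_right (by rw [← mul_assoc, hJJ, hzz])
  have hIinv : I⁻¹ = I * z := inv_eq_of_mul_eq_one_right (by rw [← mul_assoc, hII, hzz])
  have hIJI : I * J * I = J := by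
    calc I * J * I = I * J * (I * J) * J⁻¹ := by group
      _ = z * (J * z) := by rw [hIJ, hJinv]
      _ = J := by rw [← mul_assoc, hzJ.eq, mul_assoc, hzz, mul_one]
  have hJIJ : J * I * J⁻¹ = I * z := by
    rw [← hIinv]
    calc J * I * J⁻¹ = J * I * (I * J * I)⁻¹ := by rw [hIJI]
      _ = J * J⁻¹ * I⁻¹ := by group
      _ = I⁻¹ := by group
  have hIJI' : I * J * I⁻¹ = J * z := by
    calc I * J * I⁻¹ = I * J * (I * z) := by rw [hIinv]
      _ = I * J * I * z := by rw [mul_assoc (I * J) I z]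
      _ = J * z := by rw [hIJI]
  -- make the action trivial
  obtain ⟨e, he, hcIe⟩ := hcI
  obtain ⟨e', he', hcJe⟩ := hcJ
  have hcz : c * z * c⁻¹ = z := by
    rw [show c * z * c⁻¹ = (c * I * c⁻¹) * (c * I * c⁻¹) by rw [← hII]; group, hcIe]
    rcases he with he | he <;> rw [he]
    · rw [mul_one, hII]
    · rw [hzI.mul_mul_mul_comm I z, hII, hzz, mul_one]
  obtain ⟨y, hy, hyW, hyI, hyJ⟩ : ∃ y ∈ T, Commute y W ∧ c * y * I * (c * y)⁻¹ = I ∧
      c * y * J * (c * y)⁻¹ = J := by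
    have key : ∀ y u v : G, y * u * y⁻¹ = u * v →
        c * y * u * (c * y)⁻¹ = c * u * c⁻¹ * (c * v * c⁻¹) := fun y u v huv => by
      rw [show c * y * u * (c * y)⁻¹ = c * (y * u * y⁻¹) * c⁻¹ by group, huv]; group
    have hzc1 : c * (1 : G) * c⁻¹ = 1 := by group
    have hcomm : ∀ u : G, u * u * u⁻¹ = u * 1 := fun u => by group
    have hIJ' : I * J * I * (I * J)⁻¹ = I * z := by
      calc I * J * I * (I * J)⁻¹ = I * (J * I * J⁻¹) * I⁻¹ := by group
        _ = I * (I * z) * I⁻¹ := by rw [hJIJ]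
        _ = I * (I * z * I⁻¹) := by group
        _ = I * z := by rw [show I * z * I⁻¹ = z by rw [← hzI.eq, mul_inv_cancel_right]]
    have hJI' : I * J * J * (I * J)⁻¹ = J * z := by
      calc I * J * J * (I * J)⁻¹ = I * J * I⁻¹ := by group
        _ = J * z := hIJI'
    rcases he with he | he <;> rw [he] at hcIe <;> rcases he' with he' | he' <;> rw [he'] at hcJe
    · exact ⟨1, one_mem T, Commute.one_left W, by rw [mul_one, hcIe, mul_one], by rw [mul_one, hcJe, mul_one]⟩
    · refine ⟨I, hI, hIW, ?_, ?_⟩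
      · rw [key I I 1 (hcomm I), hcIe, hzc1, mul_one, mul_one]
      · rw [key I J z hIJI', hcJe, hcz, mul_assoc, hzz, mul_one]
    · refine ⟨J, hJ, hJW, ?_, ?_⟩
      · rw [key J I z hJIJ, hcIe, hcz, mul_assoc, hzz, mul_one]
      · rw [key J J 1 (hcomm J), hcJe, hzc1, mul_one, mul_one]
    · refine ⟨I * J, mul_mem hI hJ, hIW.mul_left hJW, ?_, ?_⟩
      · rw [key (I * J) I z hIJ', hcIe, hcz, mul_assoc, hzz, mul_one]
      · rw [key (I * J) J z hJI', hcJe, hcz, mul_assoc, hzz, mul_one]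
  set d := c * y
  have hdI : Commute d I := mul_inv_eq_iff_eq_mul.1 hyI
  have hdJ : Commute d J := mul_inv_eq_iff_eq_mul.1 hyJ
  have hdW : d * W * d⁻¹ = W⁻¹ := by
    rw [show d * W * d⁻¹ = c * (y * W * y⁻¹) * c⁻¹ by simp only [d]; group, hyW.eq, mul_inv_cancel_right, hc]
  have hddW : Commute (d * d) W := by
    refine mul_inv_eq_iff_eq_mul.1 ?_
    calc d * d * W * (d * d)⁻¹ = d * (d * W * d⁻¹) * d⁻¹ := by group
      _ = W := by rw [hdW, ← conj_inv, hdW, inv_inv]
  have hnIJ : ¬ Commute I J := fun hIJc => hz1 (by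
    have := hIJ
    rw [hIJc.symm.mul_mul_mul_comm I J, hII, hJJ, hzz] at this
    exact this.symm)
  obtain ⟨e₀, he₀, hdd⟩ := hC0 _ (hcT y hy) hddW
  have he₀I : Commute e₀ I := by rcases he₀ with he₀ | he₀ <;> rw [he₀] <;> [exact Commute.one_left I; exact hzI]
  have he₀J : Commute e₀ J := by rcases he₀ with he₀ | he₀ <;> rw [he₀] <;> [exact Commute.one_left J; exact hzJ]
  have hddI : Commute (d * d) I := hdI.mul_left hdI
  have hddJ : Commute (d * d) J := hdJ.mul_left hdJ
  have hcancel : ∀ {u v : G}, Commute e₀ v → Commute (e₀ * u) v → Commute u v := fun {u v} h1 h2 => by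
    have := h1.inv_left.mul_left h2
    rwa [inv_mul_cancel_left] at this
  have hdd' : d * d = e₀ := by
    rcases hdd with hq | hq | hq | hq
    · exact hq
    · exact absurd (hcancel he₀J (hq ▸ hddJ)) hnIJ
    · exact absurd (hcancel he₀I (hq ▸ hddI)).symm hnIJ
    · have h1 : Commute (I * J) I := hcancel he₀I (hq ▸ hddI)
      exact absurd (by simpa using (Commute.refl I).inv_left.mul_left h1 : Commute J I).symm hnIJ
  have hdT : ∀ t ∈ T, (d * t) ∈ E → False := fun t ht hmem => hcn (by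
    have h1 := mul_mem (mul_mem (hET hmem) (inv_mem ht)) (inv_mem hy)
    rw [show d * t * t⁻¹ * y⁻¹ = c by simp only [d]; group] at h1
    exact h1)
  rcases he₀ with he₀ | he₀ <;> rw [he₀] at hdd'
  · exact hdT 1 (one_mem T) (by rw [mul_one]; exact h.mem d hdd')
  · refine hdT I hI (h.mem _ ?_)
    rw [hdI.symm.mul_mul_mul_comm d I, hdd', hII, hzz]

theorem Pyr.not_full_three (h : Pyr E) (hE : Nat.card E = 2 ^ 3) (M : Model E V3) :
    ¬ Function.Surjective M.ρ := fun hM => by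
  classical
  haveI : Fact (Nat.Prime 2) := ⟨Nat.prime_two⟩
  haveI : Fact (Nat.Prime 3) := ⟨Nat.prime_three⟩
  obtain ⟨T, hTn, hET, hTD, hT, hrel, hTeq⟩ := h.exists_kernel
  haveI := hTn
  by_cases hab : ∀ a ∈ T, ∀ b ∈ T, Commute a b
  · exact h.not_full_abelian M hM (hTeq (Or.inl hab)) hT hab
  have hfr : ∀ g : G, ∃ n ∈ normalizer (T : Set G), ∀ x ∈ E, g * x * g⁻¹ = n * x * n⁻¹ := fun g =>
    ⟨g, by rw [Subgroup.normalizer_eq_top]; exact mem_top g, fun _ _ => rfl⟩
  obtain ⟨F, _, _, _, d, hV, hcases⟩ := h.exists_suz hET hT hab hfr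
  have hcen : ∀ {e t : G}, e ∈ E → t ∈ T → Commute e t := fun he ht => mem_centralizer_iff.1 (hTD ht) _ he
  have hsq : ∀ t ∈ T, t * t ∈ E := fun t ht => h.mem _ (congrArg Subtype.val (d.sq_mem_V ⟨t, ht⟩))
  have hmk : ∀ {s t : T}, (s : T ⧸ center T) = t ↔ (s : G)⁻¹ * t ∈ E := fun {s t} => by
    rw [QuotientGroup.eq, hV, Subgroup.mem_subgroupOf]; rfl
  have hmk1 : ∀ {t : T}, (t : T ⧸ center T) = 1 ↔ (t : G) ∈ E := fun {t} => by
    rw [QuotientGroup.eq_one_iff, hV, Subgroup.mem_subgroupOf]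
  rcases hcases with hsmall | hlarge
  · -- squaring is a bijection
    have hZ : Nat.card (center T) = Nat.card E := by
      rw [hV]; exact Nat.card_congr (Subgroup.subgroupOfEquivOfLe hET).toEquiv
    have huniq : ∀ s ∈ T, ∀ t ∈ T, s * s = t * t → s⁻¹ * t ∈ E := by
      intro s hs t ht hst
      refine (hmk (s := ⟨s, hs⟩) (t := ⟨t, ht⟩)).1 ((quad_bijective d (hZ ▸ hsmall)).1 ?_)
      rw [d.quad_mk, d.quad_mk]
      exact congrArg d.ι (Subtype.ext hst)
    refine hab fun x hx y hy => ?_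
    by_cases hxE : x ∈ E
    · exact hcen hxE hy
    by_cases hyE : y ∈ E
    · exact (hcen hyE hx).symm
    by_cases hxy : x⁻¹ * y ∈ E
    · have := (Commute.refl x).mul_right (hcen hxy hx).symm
      rwa [mul_inv_cancel_left] at this
    by_cases hxy' : x * y ∈ E
    · have := (Commute.refl x).inv_right.mul_right (hcen hxy' hx).symm
      rwa [inv_mul_cancel_left] at this
    obtain ⟨v, hv⟩ := M.surj _ (hsq x hx)
    obtain ⟨w, hw⟩ := M.surj _ (hsq y hy)
    obtain ⟨z, hz⟩ := M.surj _ (hsq _ (mul_mem hx hy))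
    have hv0 : v ≠ 0 := fun e => hxE (h.mem x (by rw [← hv, e, M.map_zero]))
    have hw0 : w ≠ 0 := fun e => hyE (h.mem y (by rw [← hw, e, M.map_zero]))
    have hvw : v ≠ w := fun e => hxy (huniq x hx y hy (by rw [← hv, ← hw, e]))
    obtain ⟨L, hLv, hLw⟩ := exists_pair hv0 hw0 hvw
    obtain ⟨g, hg⟩ := hM (L * trv * L⁻¹)
    have hfix : ∀ (s : G) (p : V3) (p' : V3), s * s = M.θ p → L p' = p → trv p' = p' → s ∈ T →
        s⁻¹ * (g * s * g⁻¹) ∈ E := by
      intro s p p' hsp hp' htp hs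
      refine huniq s hs _ (Subgroup.Normal.conj_mem hTn s hs g) ?_
      rw [show g * s * g⁻¹ * (g * s * g⁻¹) = g * (s * s) * g⁻¹ by group, hsp, ← M.conj, hg]
      show M.θ p = M.θ (L (trv (L.symm p)))
      rw [← hp', L.symm_apply_apply, htp]
    have hxf := hfix x v _ hv.symm hLv trv_plane.1 hx
    have hyf := hfix y w _ hw.symm hLw trv_plane.2.1 hy
    have hzfix : M.ρ g z = z := by
      refine M.inj ?_
      rw [M.conj, hz]
      obtain ⟨ex, hex, hgx⟩ : ∃ e ∈ E, g * x * g⁻¹ = x * e := ⟨_, hxf, by group⟩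
      obtain ⟨ey, hey, hgy⟩ : ∃ e ∈ E, g * y * g⁻¹ = y * e := ⟨_, hyf, by group⟩
      have h1 : g * (x * y) * g⁻¹ = x * y * (ex * ey) := by
        rw [show g * (x * y) * g⁻¹ = g * x * g⁻¹ * (g * y * g⁻¹) by group, hgx, hgy,
          (hcen hex hy).mul_mul_mul_comm x ey]
      rw [show g * (x * y * (x * y)) * g⁻¹ = g * (x * y) * g⁻¹ * (g * (x * y) * g⁻¹) by group, h1,
        (hcen (mul_mem hex hey) (mul_mem hx hy)).mul_mul_mul_comm (x * y) (ex * ey), h.sq _ (mul_mem hex hey),
        mul_one]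
    have hz' : trv (L.symm z) = L.symm z := by
      rw [hg] at hzfix
      exact (L.symm_apply_eq.2 hzfix.symm).symm
    have hLz : z = L (L.symm z) := (L.apply_symm_apply z).symm
    by_cases h0 : L.symm z = 0
    · exact absurd (h.mem _ (by rw [← hz, hLz, h0, map_zero, M.map_zero])) hxy'
    by_cases h2 : L.symm z = (0, 1, 0)
    · have h3 := huniq x hx _ (mul_mem hx hy) (by rw [← hz, ← hv, hLz, h2, hLv])
      rw [inv_mul_cancel_left] at h3
      exact absurd h3 hyE
    by_cases h3 : L.symm z = (0, 0, 1)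
    · have h4 := h.normal.conj_mem _ (huniq y hy _ (mul_mem hx hy) (by rw [← hz, ← hw, hLz, h3, hLw])) y
      rw [show y * (y⁻¹ * (x * y)) * y⁻¹ = x by group] at h4
      exact absurd h4 hxE
    by_cases h4 : L.symm z = (0, 1, 1)
    · have h5 : x * y * (x * y) = x * x * (y * y) := by
        rw [← hz, ← hv, ← hw, ← M.map_add, hLz, h4, ← hLv, ← hLw, ← map_add,
          show ((0, 1, 1) : V3) = (0, 1, 0) + (0, 0, 1) from rfl]
      have h6 : y * x = x * y := by
        have := congrArg (fun t => x⁻¹ * t * y⁻¹) h5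
        simpa [mul_assoc] using this
      exact h6.symm
    exact absurd hz' (line_move _ h0 h2 h3 h4)
  -- the Suzuki case
  letI : CommGroup (T ⧸ center T) :=
    { (inferInstance : Group (T ⧸ center T)) with mul_comm := quot_comm d }
  haveI := d.finite
  let φ : G →* MulAut (T ⧸ center T) :=
    { toFun := fun g =>
        QuotientGroup.congr (center T) (center T) (MulAut.conjNormal g)
          (Subgroup.map_equiv_eq_comap_symm _ _ |>.trans
            (Subgroup.Characteristic.fixed inferInstance (MulAut.conjNormal g : T ≃* T).symm))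
      map_one' := MulEquiv.ext fun x => by
        induction x using QuotientGroup.induction_on with | H p => ?_
        simp
      map_mul' := fun a b => MulEquiv.ext fun x => by
        induction x using QuotientGroup.induction_on with | H p => ?_
        simp }
  have hφ : ∀ g (p : T), φ g (p : T ⧸ center T) = ((MulAut.conjNormal g p : T) : T ⧸ center T) := fun g p => rfl
  have hφT : T ≤ φ.ker := fun t ht => MulEquiv.ext fun x => by
    induction x using QuotientGroup.induction_on with | H p => ?_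
    rw [hφ]
    show _ = (p : T ⧸ center T)
    rw [show (MulAut.conjNormal t p : T) = ⟨t, ht⟩ * p * ⟨t, ht⟩⁻¹ from Subtype.ext (by simp),
      QuotientGroup.mk_mul, QuotientGroup.mk_mul, quot_comm d (⟨t, ht⟩ : T) p, QuotientGroup.mk_inv,
      mul_inv_cancel_right]
  have hTρ : T ≤ M.ρ.ker := by rw [M.ker_ρ]; exact hTD
  set π := QuotientGroup.mk' T
  have hπ : Function.Surjective π := QuotientGroup.mk'_surjective _
  let ρb : G ⧸ T →* L3 := QuotientGroup.lift T M.ρ hTρ
  let Φ : G ⧸ T →* MulAut (T ⧸ center T) := QuotientGroup.lift T φ hφT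
  have hρbπ : ∀ g, ρb (π g) = M.ρ g := fun g => rfl
  have hΦπ : ∀ g, Φ (π g) = φ g := fun g => rfl
  have hρb : Function.Surjective ρb := fun L => by
    obtain ⟨g, hg⟩ := hM L
    exact ⟨π g, hg⟩
  have hkerb : ρb.ker = (centralizer (E : Set G)).map π := by
    ext x
    obtain ⟨g, rfl⟩ := hπ x
    rw [MonoidHom.mem_ker, hρbπ, M.ρ_eq_one_iff]
    refine ⟨fun hg => mem_map_of_mem π hg, ?_⟩
    rintro ⟨g', hg', he⟩
    have h1 : g'⁻¹ * g ∈ T := QuotientGroup.eq.1 he
    have := mul_mem (show g' ∈ centralizer (E : Set G) from hg') (hTD h1)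
    rwa [mul_inv_cancel_left] at this
  have hodd : Odd (Nat.card ρb.ker) := by rw [hkerb, card_map_mk]; exact hrel
  have hqex : ∀ u : T ⧸ center T, ∃ v, M.θ v = (u.out : G) * u.out := fun u => M.surj _ (hsq _ u.out.2)
  let q : T ⧸ center T → V3 := fun u => (hqex u).choose
  have hq : ∀ p : T, M.θ (q (p : T ⧸ center T)) = (p : G) * p := by
    intro p
    refine (hqex _).choose_spec.trans ?_
    set o := (QuotientGroup.mk p : T ⧸ center T).out
    have he : (p : G)⁻¹ * o ∈ E := hmk.1 (QuotientGroup.out_eq' _).symm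
    calc (o : G) * o = (p : G) * ((p : G)⁻¹ * o) * ((p : G) * ((p : G)⁻¹ * o)) := by group
      _ = (p : G) * p * (((p : G)⁻¹ * o) * ((p : G)⁻¹ * o)) := (hcen he p.2).mul_mul_mul_comm _ _
      _ = (p : G) * p := by rw [h.sq _ he, mul_one]
  let val : V3 → T := fun v => ⟨M.θ v, hET (M.mem v)⟩
  have hval2 : ∀ v, val v * val v = 1 := fun v => Subtype.ext (h.sq _ (M.mem v))
  have hιval : ∀ p : T, d.ι (val (q (p : T ⧸ center T))) = d.quad (p : T ⧸ center T) := fun p => by
    rw [d.quad_mk]; exact congrArg d.ι (Subtype.ext (hq p))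
  have hι0 : ∀ v, d.ι (val v) = 0 → v = 0 := fun v hv =>
    M.eq_one_iff.1 (congrArg Subtype.val (d.ι_eq_zero _ (hval2 v) hv))
  have hιadd : ∀ v w, d.ι (val (v + w)) = d.ι (val v) + d.ι (val w) := fun v w => by
    rw [← d.ι_mul _ _ (hval2 v) (hval2 w)]
    exact congrArg d.ι (Subtype.ext (M.map_add v w))
  have hval0 : d.ι (val 0) = 0 := by
    rw [show val 0 = 1 from Subtype.ext M.map_zero]; exact d.ι_one
  have hq0 : ∀ u, q u = 0 ↔ u = 1 := by
    intro u
    induction u using QuotientGroup.induction_on with | H p => ?_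
    refine ⟨fun hu => d.quad_eq_zero (by rw [← hιval, hu, hval0]), fun hu => hι0 _ (by rw [hιval, hu]; exact quad_one d)⟩
  have heq : ∀ g x, q (Φ g x) = ρb g (q x) := by
    intro g x
    obtain ⟨g, rfl⟩ := hπ g
    induction x using QuotientGroup.induction_on with | H p => ?_
    rw [hΦπ, hρbπ, hφ]
    refine M.inj ?_
    rw [hq, M.conj, hq, MulAut.conjNormal_apply]
    group
  have hpol : ∀ x y z, q (x * y * z) + q (x * y) + q (x * z) + q (y * z) + q x + q y + q z = 0 := by
    intro x y z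
    refine hι0 _ ?_
    induction x using QuotientGroup.induction_on with | H a => ?_
    induction y using QuotientGroup.induction_on with | H b => ?_
    induction z using QuotientGroup.induction_on with | H c => ?_
    simp only [← QuotientGroup.mk_mul, hιadd, hιval]
    simp only [QuotientGroup.mk_mul]
    exact d.polar_add _ _ _
  have hfib : ∀ v : V3, v ≠ 0 → Nat.card {x : T ⧸ center T // q x = v} = 9 := by
    intro v hv
    obtain ⟨r, hr, hU⟩ := fibre_card d
    have hF : Nat.card F = 8 := by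
      have h1 : Nat.card (center T) = Nat.card F := by rw [d.center_eq_V, d.card_V]
      rw [← h1, hV, Nat.card_congr (Subgroup.subgroupOfEquivOfLe hET).toEquiv, hE]
      norm_num
    have hc : Nat.card (T ⧸ center T) = Nat.card F ^ 2 := (card_quotient_cases d).2 (by
      rw [hlarge, hV, Nat.card_congr (Subgroup.subgroupOfEquivOfLe hET).toEquiv])
    rw [hc, hF] at hU
    have hr9 : r = 9 := by omega
    rw [← hr9, ← hr (d.ι (val v)) (fun e => hv (hι0 v e))]
    refine Nat.card_congr (Equiv.subtypeEquivRight fun x => ?_)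
    induction x using QuotientGroup.induction_on with | H p => ?_
    refine ⟨fun hx => by rw [← hιval, hx], fun hx => M.inj ?_⟩
    rw [← hιval] at hx
    exact congrArg Subtype.val (d.ι_inj (hval2 _) (hval2 _) hx)
  have hfree : ∀ k, ρb k = 1 → k ≠ 1 → ∀ x : T ⧸ center T, x ≠ 1 → Φ k x ≠ x := by
    intro k hk hk1 x hx1 hkx
    obtain ⟨g, rfl⟩ := hπ k
    have hko : Odd (orderOf (π g)) := hodd.of_dvd_nat (Subgroup.orderOf_dvd_natCard _ hk)
    obtain ⟨g', hg', hg'o, hgg⟩ := exists_odd_lift π g hko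
    obtain ⟨p, rfl⟩ := QuotientGroup.mk_surjective x
    have hgD : g ∈ centralizer (E : Set G) := M.ρ_eq_one_iff.1 hk
    have hg'D : g' ∈ centralizer (E : Set G) := zpowers_le.2 hgD hg'
    have hg'x : φ g' (p : T ⧸ center T) = p := by
      obtain ⟨n, rfl⟩ := mem_zpowers_iff.1 hg'
      rw [map_zpow]
      exact zpow_mem (show φ g ∈ MulAction.stabilizer (MulAut (T ⧸ center T)) (p : T ⧸ center T) from hkx) n
    rw [hφ] at hg'x
    have hfix0 : (p : G)⁻¹ * (g' * p * g'⁻¹) ∈ E := by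
      have := hmk.1 hg'x.symm
      rwa [MulAut.conjNormal_apply] at this
    have hall : ∀ t ∈ T, Commute g' t := fun t ht =>
      h.semiregular hET hT hab hfr hlarge (by rw [Subgroup.normalizer_eq_top]; exact mem_top _) hg'D hg'o
        p.2 (fun e => hx1 (hmk1.2 e)) hfix0 ht
    -- `C(T) ∩ C(E) = E`
    haveI := h.centralizer_normal
    haveI : (centralizer (T : Set G)).Normal := Subgroup.normal_centralizer
    set C := centralizer (T : Set G) ⊓ centralizer (E : Set G) with hC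
    haveI : C.Normal := Subgroup.normal_inf_normal _ _
    have hEC : E ≤ C := le_inf (fun e he => mem_centralizer_iff.2 fun t ht => (hcen he ht).eq.symm) h.le_centralizer
    have hTC : T ⊓ C = E := by
      refine le_antisymm (fun t ht => ?_) (le_inf hET hEC)
      have hz : (⟨t, ht.1⟩ : T) ∈ center T := Subgroup.mem_center_iff.2 fun s =>
        Subtype.ext (mem_centralizer_iff.1 ht.2.1 s s.2)
      rwa [hV, Subgroup.mem_subgroupOf] at hz
    have hidx : ¬ 2 ∣ (E.subgroupOf C).index := by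
      have h1 : E.relIndex C ∣ T.relIndex (centralizer (E : Set G)) := by
        have h0 : E.relIndex C = T.relIndex C := by
          conv_lhs => rw [← hTC]
          exact inf_relIndex_right T C
        rw [h0, ← card_map_mk, ← card_map_mk]
        exact Subgroup.card_dvd_of_le (Subgroup.map_mono inf_le_right)
      intro h2
      exact Nat.not_even_iff_odd.2 hrel (even_iff_two_dvd.2 (h2.trans h1))
    let P : Sylow 2 C := (h.isPGroup.comap_of_injective _ C.subtype_injective).toSylow hidx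
    have hP := top_of_burnside (h.oddCore_eq_bot C) P (fun y _ => mem_centralizer_iff.2 fun e he =>
      Subtype.ext (mem_centralizer_iff.1 y.2.2 _ he))
    have hg'C : g' ∈ C := ⟨mem_centralizer_iff.2 fun t ht => (hall t ht).eq.symm, hg'D⟩
    have hg'P : (⟨g', hg'C⟩ : C) ∈ (P : Subgroup C) := hP ▸ mem_top _
    obtain ⟨n, hn⟩ := mem_zpowers_iff.1 hgg
    refine hk1 ?_
    rw [← hn, show π g' = 1 from (QuotientGroup.eq_one_iff g').2 (hET hg'P), one_zpow]
  refine suzuki_contra (sq_eq_one d) ρb hρb hodd Φ q hq0 heq hpol hfib hfree ?_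
  -- the quaternion group
  intro w a i j f hw3 hw1 ha2 ha1 haw hi1 hj1 hij hqi hqj hqij hwfix hwi hwj hF hai haj
  obtain ⟨gw, rfl⟩ := hπ w
  obtain ⟨ga, rfl⟩ := hπ a
  obtain ⟨m, hm, k₀, hk₀⟩ := exists_prime_power Nat.prime_three gw
  have hTc : ∀ {y : G}, y ∈ T → (∃ k, y ^ 3 ^ k = 1) → y = 1 := fun {y} hy hk => by
    obtain ⟨k, hk⟩ := hk
    obtain ⟨l, hl⟩ := IsPGroup.iff_orderOf.1 hT ⟨y, hy⟩
    rw [Subgroup.orderOf_mk] at hl
    exact orderOf_eq_one_iff.1 (Nat.eq_one_of_dvd_coprimes ((show Nat.Coprime 2 3 by norm_num).pow l k)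
      (dvd_of_eq hl) (orderOf_dvd_of_pow_eq_one hk))
  obtain ⟨W, hWw, hW3, -⟩ : ∃ W, π W = π gw ∧ W ^ 3 = 1 ∧ True := by
    have h3 : (gw ^ m) ^ 3 = 1 := hTc ((QuotientGroup.eq_one_iff _).1 (by
      show π ((gw ^ m) ^ 3) = 1
      rw [map_pow, map_pow, ← pow_mul, mul_comm, pow_mul, hw3, one_pow]))
      ⟨k₀, by rw [← pow_mul, mul_comm, pow_mul, hk₀, one_pow]⟩
    refine ⟨(gw ^ m) ^ m, ?_, by rw [← pow_mul, mul_comm, pow_mul, h3, one_pow], trivial⟩
    rw [map_pow, map_pow, ← pow_mul, pow_eq_pow_mod _ hw3, Nat.mul_mod]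
    rcases (show m % 3 = 1 ∨ m % 3 = 2 by omega) with hr | hr <;> simp [hr]
  clear hm hk₀
  set K := (zpowers (π gw)).comap π
  have hWK : W ∈ K := by show π W ∈ zpowers _; rw [hWw]; exact mem_zpowers _
  obtain ⟨Q, hQ⟩ := (isPGroup_zpowers (q := 3) (x := (⟨W, hWK⟩ : K))
    ⟨1, Subtype.ext (by rw [pow_one]; exact hW3)⟩).exists_le_sylow
  set Q' := (Q : Subgroup K).map K.subtype
  have hWQ : W ∈ Q' := ⟨_, hQ (mem_zpowers _), rfl⟩
  have hQT : ∀ {y : G}, y ∈ Q' → π y = 1 → y = 1 := fun {y} hy hy1 => by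
    obtain ⟨k, hk⟩ := (Q.isPGroup'.map K.subtype) ⟨y, hy⟩
    exact hTc ((QuotientGroup.eq_one_iff _).1 hy1) ⟨k, congrArg Subtype.val hk⟩
  have hgaK : ga ∈ normalizer (K : Set G) := Coprime.mem_normalizer_of_forall fun y hy => by
    obtain ⟨n, hn⟩ := mem_zpowers_iff.1 (show π y ∈ zpowers (π gw) from hy)
    show π (ga * y * ga⁻¹) ∈ zpowers (π gw)
    rw [map_mul, map_mul, map_inv, ← hn, ← conj_zpow, haw]
    exact zpow_mem (inv_mem (mem_zpowers _)) n
  obtain ⟨k, hk, hkn⟩ := frattini_elt Q hgaK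
  obtain ⟨l, hl⟩ := mem_zpowers_iff.1 (show π k ∈ zpowers (π gw) from hk)
  set n' := W ^ (-l) * (k * ga) with hn'def
  have hn'N : n' ∈ normalizer (Q' : Set G) := mul_mem (le_normalizer (zpow_mem hWQ _)) hkn
  have hn'π : π n' = π ga := by
    rw [hn'def, map_mul, map_mul, map_zpow, hWw, ← hl, ← mul_assoc, ← zpow_add, neg_add_cancel, zpow_zero,
      one_mul]
  obtain ⟨m', hm', hm''⟩ := exists_prime_power Nat.prime_two n'
  set c := n' ^ m'
  have hcπ : π c = π ga := by
    obtain ⟨b, hb⟩ : Odd m' := Nat.odd_iff.2 (by omega)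
    rw [map_pow, hn'π, hb, pow_succ, pow_mul, pow_two, ha2, one_pow, one_mul]
  have hcW : c * W * c⁻¹ = W⁻¹ := by
    have hmem : W * (c * W * c⁻¹) ∈ Q' := mul_mem hWQ ((mem_normalizer_iff.1 (pow_mem hn'N _) _).1 hWQ)
    have h1 := hQT hmem (by
      rw [map_mul, map_mul, map_mul, map_inv, hcπ, hWw, haw, mul_inv_cancel])
    exact eq_inv_of_mul_eq_one_right h1
  have hcn : c ∉ T := fun hc => ha1 (hcπ ▸ (QuotientGroup.eq_one_iff c).2 hc)
  have hcT : ∀ y ∈ T, (c * y) * (c * y) ∈ T := fun y hy => (QuotientGroup.eq_one_iff _).1 (by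
    show π (c * y * (c * y)) = 1
    rw [map_mul, map_mul, show π y = 1 from (QuotientGroup.eq_one_iff y).2 hy, mul_one, hcπ, ha2])
  -- lifts of the fixed points
  have hlift : ∀ x : T ⧸ center T, Φ (π gw) x = x → ∃ X : G, ∃ hX : X ∈ T,
      ((⟨X, hX⟩ : T) : T ⧸ center T) = x ∧ Commute X W := by
    intro x hx
    let S := {t : T // (t : T ⧸ center T) = x}
    have hS : ∀ g ∈ zpowers W, ∀ t : S, ((MulAut.conjNormal g t.1 : T) : T ⧸ center T) = x := by
      intro g hg t
      obtain ⟨n, rfl⟩ := mem_zpowers_iff.1 hg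
      rw [← hφ, t.2, ← hΦπ, map_zpow, hWw, map_zpow]
      exact zpow_mem (show Φ (π gw) ∈ MulAction.stabilizer (MulAut (T ⧸ center T)) x from hx) n
    letI : MulAction (zpowers W) S :=
      { smul := fun g t => ⟨MulAut.conjNormal (g : G) t.1, hS g g.2 t⟩
        one_smul := fun t => Subtype.ext (by show (MulAut.conjNormal (1 : G)) t.1 = t.1; rw [map_one]; rfl)
        mul_smul := fun g g' t => Subtype.ext (by
          show (MulAut.conjNormal ((g : G) * g')) t.1 = MulAut.conjNormal (g : G) (MulAut.conjNormal (g' : G) t.1)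
          rw [map_mul]; rfl) }
    have hcard : ¬ 3 ∣ Nat.card S := by
      obtain ⟨t0, ht0⟩ := QuotientGroup.mk_surjective x
      have e : Nat.card S = Nat.card (center T) := by
        refine Nat.card_congr (Equiv.subtypeEquiv (Equiv.mulLeft t0⁻¹) fun t => ?_)
        show (t : T ⧸ center T) = x ↔ t0⁻¹ * t ∈ center T
        rw [← ht0, eq_comm, QuotientGroup.eq]
      rw [e, hV, Nat.card_congr (Subgroup.subgroupOfEquivOfLe hET).toEquiv, hE]
      norm_num
    obtain ⟨t, ht⟩ := (isPGroup_zpowers (q := 3) (x := W) ⟨1, by rw [pow_one]; exact hW3⟩).nonempty_fixed_point_of_prime_not_dvd_card S hcard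
    refine ⟨(t.1 : G), t.1.2, t.2, ?_⟩
    have h1 : W * (t.1 : G) * W⁻¹ = t.1 := by
      have := congrArg (fun s : S => ((s.1 : T) : G)) (ht ⟨W, mem_zpowers W⟩)
      exact (MulAut.conjNormal_apply W t.1).symm.trans this
    exact (mul_inv_eq_iff_eq_mul.1 h1).symm
  obtain ⟨I, hI, hIi, hIW⟩ := hlift i hwi
  obtain ⟨J, hJ, hJj, hJW⟩ := hlift j hwj
  set z := M.θ f
  have hsqeq : ∀ (X : G) (hX : X ∈ T) (x : T ⧸ center T), ((⟨X, hX⟩ : T) : T ⧸ center T) = x → q x = f →
      X * X = z := fun X hX x hXx hx => by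
    subst hXx
    exact (hq ⟨X, hX⟩).symm.trans (congrArg M.θ hx)
  have hII := hsqeq I hI i hIi hqi
  have hJJ := hsqeq J hJ j hJj hqj
  have hIJ := hsqeq (I * J) (mul_mem hI hJ) (i * j) (by rw [← hIi, ← hJj]; rfl) hqij
  have hf : f ≠ 0 := fun e => hi1 ((hq0 i).1 (hqi.trans e))
  have hzW : Commute z W := by rw [← hII]; exact hIW.mul_left hIW
  have hEW : ∀ e ∈ E, Commute e W → e = 1 ∨ e = z := by
    intro e he heW
    obtain ⟨v, rfl⟩ := M.surj e he
    rcases hwfix v (by rw [← hWw, hρbπ, M.apply_eq_iff]; exact heW.symm) with rfl | rfl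
    · exact Or.inl M.map_zero
    · exact Or.inr rfl
  have hC0 : ∀ t ∈ T, Commute t W →
      ∃ e, (e = 1 ∨ e = z) ∧ (t = e ∨ t = e * I ∨ t = e * J ∨ t = e * (I * J)) := by
    intro t ht htW
    have hfix : Φ (π gw) ((⟨t, ht⟩ : T) : T ⧸ center T) = ((⟨t, ht⟩ : T) : T ⧸ center T) := by
      rw [← hWw, hΦπ, hφ]
      congr 1
      refine Subtype.ext ?_
      rw [MulAut.conjNormal_apply]
      show W * t * W⁻¹ = t
      rw [← htW.eq, mul_inv_cancel_right]
    have key : ∀ (X : G) (hX : X ∈ T), Commute X W →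
        ((⟨t, ht⟩ : T) : T ⧸ center T) = ((⟨X, hX⟩ : T) : T ⧸ center T) →
        ∃ e, (e = 1 ∨ e = z) ∧ t = e * X := by
      intro X hX hXW hXt
      have he : X⁻¹ * t ∈ E := hmk.1 hXt.symm
      refine ⟨X⁻¹ * t, hEW _ he (hXW.inv_left.mul_left htW), ?_⟩
      rw [(hcen he hX).eq, mul_inv_cancel_left]
    rcases hF _ hfix with hx | hx | hx | hx
    · obtain ⟨e, he, hte⟩ := key 1 (one_mem T) (Commute.one_left W) (by rw [hx]; rfl)
      exact ⟨e, he, Or.inl (by rw [hte, mul_one])⟩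
    · obtain ⟨e, he, hte⟩ := key I hI hIW (by rw [hx, hIi])
      exact ⟨e, he, Or.inr (Or.inl hte)⟩
    · obtain ⟨e, he, hte⟩ := key J hJ hJW (by rw [hx, hJj])
      exact ⟨e, he, Or.inr (Or.inr (Or.inl hte))⟩
    · obtain ⟨e, he, hte⟩ := key (I * J) (mul_mem hI hJ) (hIW.mul_left hJW) (by rw [hx, ← hIi, ← hJj]; rfl)
      exact ⟨e, he, Or.inr (Or.inr (Or.inr hte))⟩
  have hcX : ∀ (X : G) (hX : X ∈ T) (x : T ⧸ center T), ((⟨X, hX⟩ : T) : T ⧸ center T) = x →
      Φ (π ga) x = x → Commute X W → ∃ e, (e = 1 ∨ e = z) ∧ c * X * c⁻¹ = X * e := by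
    intro X hX x hXx hax hXW
    refine ⟨X⁻¹ * (c * X * c⁻¹), hEW _ ?_ ?_, by group⟩
    · subst hXx
      rw [← hcπ, hΦπ, hφ] at hax
      have := hmk.1 hax.symm
      rwa [MulAut.conjNormal_apply] at this
    · refine hXW.inv_left.mul_left (mul_inv_eq_iff_eq_mul.1 ?_ : Commute (c * X * c⁻¹) W)
      calc c * X * c⁻¹ * W * (c * X * c⁻¹)⁻¹ = c * X * (c⁻¹ * W * c) * X⁻¹ * c⁻¹ := by group
        _ = c * X * W⁻¹ * X⁻¹ * c⁻¹ := by
          congr 3
          have h3 := congrArg (fun y => c⁻¹ * y⁻¹ * c) hcW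
          simp only [inv_inv] at h3
          rw [← h3]; group
        _ = c * W⁻¹ * c⁻¹ := by rw [mul_assoc c X, hXW.inv_right.eq]; group
        _ = W := by rw [← conj_inv, hcW, inv_inv]
  exact quaternion_contra h hET hTD (M.mem f) (fun e => hf (M.eq_one_iff.1 e)) hI hJ hII hJJ hIJ hIW hJW hzW
    hC0 hcW hcT hcn (hcX I hI i hIi hai hIW) (hcX J hJ j hJj haj hJW)

end Cfsg.Agent.Pyramidal
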