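import Cfsg.Agent.Lib.PSL2.Soluble
import Cfsg.Agent.Lib.Involution.Basic
import Mathlib.GroupTheory.SemidirectProduct
import Mathlib.FieldTheory.Finite.GaloisField

/-!
# Non-solvable groups whose `p ^ (2 j)` involutions are conjugate

`exists_not_solvable`: the affine group `F ^ 2 ⋊ SL₂(F)` with `|F| = p ^ j ≥ 4`.
-/

set_option autoImplicit false
set_option linter.style.haveILetI false

namespace Cfsg.Agent.Pyramidal

open Matrix

section

variable (F : Type) [Field F]

/-- `SL₂(F)` acting on the plane, as automorphisms of a multiplicative group. -/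
def planeAct : SpecialLinearGroup (Fin 2) F →* MulAut (Multiplicative (Fin 2 → F)) where
  toFun g := AddEquiv.toMultiplicative (SpecialLinearGroup.toLin' g).toAddEquiv
  map_one' := MulEquiv.ext fun v => by simp
  map_mul' g h := MulEquiv.ext fun v => by simp

theorem planeAct_apply (g : SpecialLinearGroup (Fin 2) F) (v : Fin 2 → F) :
    planeAct F g (Multiplicative.ofAdd v) = Multiplicative.ofAdd ((g : Matrix (Fin 2) (Fin 2) F).mulVec v) := by
  rfl

/-- The affine group. -/
abbrev Aff := Multiplicative (Fin 2 → F) ⋊[planeAct F] SpecialLinearGroup (Fin 2) F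

/-- In odd characteristic the only element of square one in `SL₂` other than `1` is `-1`. -/
theorem eq_neg_one_of_sq (h2 : (2 : F) ≠ 0) {g : SpecialLinearGroup (Fin 2) F} (hg : g * g = 1)
    (hg1 : g ≠ 1) : g = -1 := by
  have hd : (g : Matrix (Fin 2) (Fin 2) F) 0 0 * (g : Matrix (Fin 2) (Fin 2) F) 1 1 - (g : Matrix (Fin 2) (Fin 2) F) 0 1 * (g : Matrix (Fin 2) (Fin 2) F) 1 0 = 1 := by rw [← det_fin_two]; exact g.2
  have e : (g : Matrix (Fin 2) (Fin 2) F) * (g : Matrix (Fin 2) (Fin 2) F) = 1 := congrArg Subtype.val hg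
  have e00 := congrFun (congrFun e 0) 0
  have e01 := congrFun (congrFun e 0) 1
  have e10 := congrFun (congrFun e 1) 0
  have e11 := congrFun (congrFun e 1) 1
  simp only [mul_apply, Fin.sum_univ_two, one_apply_eq, one_apply_ne (by decide : (0 : Fin 2) ≠ 1),
    one_apply_ne (by decide : (1 : Fin 2) ≠ 0)] at e00 e01 e10 e11
  have hS : (g : Matrix (Fin 2) (Fin 2) F) 0 0 + (g : Matrix (Fin 2) (Fin 2) F) 1 1 ≠ 0 := by
    intro h
    apply h2
    linear_combination (g : Matrix (Fin 2) (Fin 2) F) 0 0 * h - e00 - hd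
  have hb : (g : Matrix (Fin 2) (Fin 2) F) 0 1 = 0 := by
    refine (mul_eq_zero.1 (show (g : Matrix (Fin 2) (Fin 2) F) 0 1 * ((g : Matrix (Fin 2) (Fin 2) F) 0 0 + (g : Matrix (Fin 2) (Fin 2) F) 1 1) = 0 by linear_combination e01)).resolve_right hS
  have hc : (g : Matrix (Fin 2) (Fin 2) F) 1 0 = 0 := by
    refine (mul_eq_zero.1 (show (g : Matrix (Fin 2) (Fin 2) F) 1 0 * ((g : Matrix (Fin 2) (Fin 2) F) 0 0 + (g : Matrix (Fin 2) (Fin 2) F) 1 1) = 0 by linear_combination e10)).resolve_right hS
  rw [hb] at hd e00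
  have had : (g : Matrix (Fin 2) (Fin 2) F) 0 0 = (g : Matrix (Fin 2) (Fin 2) F) 1 1 := by
    have : (g : Matrix (Fin 2) (Fin 2) F) 0 0 * (g : Matrix (Fin 2) (Fin 2) F) 0 0 = (g : Matrix (Fin 2) (Fin 2) F) 0 0 * (g : Matrix (Fin 2) (Fin 2) F) 1 1 := by linear_combination e00 - hd
    exact mul_left_cancel₀ (fun h => by rw [h] at e00; simp at e00) this
  rcases mul_self_eq_one_iff.1 (show (g : Matrix (Fin 2) (Fin 2) F) 0 0 * (g : Matrix (Fin 2) (Fin 2) F) 0 0 = 1 by linear_combination e00) with h | h
  · refine absurd (Subtype.ext ?_) hg1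
    ext i j
    fin_cases i <;> fin_cases j <;> simp [hb, hc, h, ← had]
  · refine Subtype.ext ?_
    show (g : Matrix (Fin 2) (Fin 2) F) = -1
    ext i j
    fin_cases i <;> fin_cases j <;> simp [hb, hc, h, ← had]

theorem orderOf_eq_two_iff_right (h2 : (2 : F) ≠ 0) (x : Aff F) : orderOf x = 2 ↔ x.right = -1 := by
  rw [Involution.orderOf_eq_two_iff]
  constructor
  · rintro ⟨h1, hx⟩
    refine eq_neg_one_of_sq F h2 ?_ fun hr => h1 (SemidirectProduct.ext ?_ hr)
    · exact congrArg SemidirectProduct.right hx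
    · have e := congrArg SemidirectProduct.left hx
      rw [SemidirectProduct.mul_left, hr, map_one, MulAut.one_apply] at e
      have e' : Multiplicative.toAdd x.left + Multiplicative.toAdd x.left = 0 := congrArg Multiplicative.toAdd e
      refine Multiplicative.toAdd.injective (funext fun i => ?_)
      have e'' := congrFun e' i
      simp only [Pi.add_apply, Pi.zero_apply, ← two_mul] at e''
      exact (mul_eq_zero.1 e'').resolve_left h2
  · intro hx
    refine ⟨fun h => ?_, SemidirectProduct.ext ?_ ?_⟩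
    · rw [h] at hx
      have := congrArg (fun g : SpecialLinearGroup (Fin 2) F => (g : Matrix (Fin 2) (Fin 2) F) 0 0) hx
      simp at this
      exact h2 (by linear_combination this)
    · rw [SemidirectProduct.mul_left, hx, ← ofAdd_toAdd x.left, planeAct_apply]
      simp [neg_mulVec]
    · rw [SemidirectProduct.mul_right, hx, neg_mul_neg, one_mul]; rfl

end

/-- The witness. -/
theorem exists_not_solvable {p j : ℕ} (hp : p.Prime) (hp2 : p ≠ 2) (hj : 1 ≤ j) (h4 : 4 ≤ p ^ j) :
    ∃ (G : Type) (_ : Group G) (_ : Finite G), Nat.card {x : G // orderOf x = 2} = p ^ (2 * j) ∧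
      (∀ x y : G, orderOf x = 2 → orderOf y = 2 → ∃ g : G, g * x * g⁻¹ = y) ∧ ¬ Group.IsSolvable G := by
  haveI : Fact p.Prime := ⟨hp⟩
  let F := GaloisField p j
  have hF : Nat.card F = p ^ j := GaloisField.card p j (by omega)
  haveI : Finite F := Nat.finite_of_card_ne_zero (by rw [hF]; exact pow_ne_zero _ hp.ne_zero)
  have h2 : (2 : F) ≠ 0 := Ring.two_ne_zero (by rw [ringChar.eq F p]; exact hp2)
  haveI : Finite (Aff F) := Finite.of_equiv _ SemidirectProduct.equivProd.symm
  refine ⟨Aff F, inferInstance, inferInstance, ?_, fun x y hx hy => ?_, fun hs => ?_⟩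
  · have e : {x : Aff F // orderOf x = 2} ≃ (Fin 2 → F) :=
      { toFun := fun x => Multiplicative.toAdd x.1.left
        invFun := fun v => ⟨⟨Multiplicative.ofAdd v, -1⟩, (orderOf_eq_two_iff_right F h2 _).2 rfl⟩
        left_inv := fun x => Subtype.ext (SemidirectProduct.ext rfl ((orderOf_eq_two_iff_right F h2 _).1 x.2).symm)
        right_inv := fun v => rfl }
    rw [Nat.card_congr e, Nat.card_fun, Nat.card_fin, hF, ← pow_mul, mul_comm]
  · have hx' := (orderOf_eq_two_iff_right F h2 _).1 hx
    have hy' := (orderOf_eq_two_iff_right F h2 _).1 hy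
    refine ⟨SemidirectProduct.inl (Multiplicative.ofAdd
      ((2 : F)⁻¹ • (Multiplicative.toAdd y.left - Multiplicative.toAdd x.left))), ?_⟩
    refine SemidirectProduct.ext ?_ ?_
    · rw [SemidirectProduct.mul_left, SemidirectProduct.mul_left, SemidirectProduct.mul_right, ← map_inv,
        SemidirectProduct.left_inl, SemidirectProduct.left_inl, SemidirectProduct.right_inl, map_one,
        MulAut.one_apply, one_mul, hx', ← ofAdd_neg, planeAct_apply]
      refine Multiplicative.toAdd.injective (funext fun i => ?_)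
      simp only [toAdd_mul, toAdd_ofAdd, Pi.add_apply, Pi.smul_apply, Pi.sub_apply, neg_mulVec, one_mulVec,
        Pi.neg_apply, smul_eq_mul, show ((-1 : SpecialLinearGroup (Fin 2) F) : Matrix (Fin 2) (Fin 2) F) = -1 from rfl]
      linear_combination (Multiplicative.toAdd y.left i - Multiplicative.toAdd x.left i) * mul_inv_cancel₀ h2
    · simp [hx', hy']
  · haveI := hs
    haveI : Group.IsSolvable (SpecialLinearGroup (Fin 2) F) :=
      Group.isSolvable_of_surjective (f := (SemidirectProduct.rightHom : Aff F →* _)) SemidirectProduct.rightHom_surjective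
    exact PSL2.not_isSolvable_psl (L := F) (by rw [hF]; exact h4)
      (Group.isSolvable_of_surjective (QuotientGroup.mk'_surjective _))

end Cfsg.Agent.Pyramidal
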